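import Mathlib.RingTheory.Flat.EquationalCriterion
import Mathlib.RingTheory.Nakayama
import Mathlib.LinearAlgebra.TensorProduct.Quotient
import Mathlib.RingTheory.Spectrum.Prime.Chevalley
import Mathlib.RingTheory.LocalRing.ResidueField.Ideal

/-!
# Annihilators of elements of flat algebras
-/

set_option autoImplicit false
universe u

open TensorProduct

namespace Groth.Agent.Lib.CentW.Alg

variable {R A : Type u} [CommRing R] [CommRing A] [Algebra R A]

/-- In a flat algebra, `a ⊗ c = 0` puts `a` in the ideal generated by the annihilator of `c`. -/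
theorem mem_map_of_tmul_eq_zero [Module.Flat R A] {B : Type u} [AddCommGroup B] [Module R B] (a : A) (c : B)
    (h : a ⊗ₜ[R] c = 0) :
    a ∈ Ideal.map (algebraMap R A) (LinearMap.ker (LinearMap.toSpanSingleton R B c)) := by
  let J : Ideal R := LinearMap.ker (LinearMap.toSpanSingleton R B c)
  let f : (R ⧸ J) →ₗ[R] B := Submodule.liftQ J (LinearMap.toSpanSingleton R B c) le_rfl
  have hf : Function.Injective f := LinearMap.ker_eq_bot.mp (Submodule.ker_liftQ_eq_bot _ _ _ le_rfl)
  have h1 : a ⊗ₜ[R] (Ideal.Quotient.mk J 1) = 0 := Module.Flat.lTensor_preserves_injective_linearMap f hf (by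
    rw [map_zero, LinearMap.lTensor_tmul]
    show a ⊗ₜ[R] ((1 : R) • c) = 0
    rwa [one_smul])
  have h2 := congrArg (tensorQuotEquivQuotSMul A J) h1
  rw [map_zero, tensorQuotEquivQuotSMul, LinearEquiv.trans_apply, TensorProduct.comm_tmul,
    map_one, quotTensorEquivQuotSMul_mk_one_tmul, Submodule.Quotient.mk_eq_zero, Ideal.smul_top_eq_map] at h2
  exact h2

/-- The element of a flat algebra killing `c` shows that `c` is killed outside a prime. -/
theorem exists_ann [Module.Flat R A] {B : Type u} [AddCommGroup B] [Module R B] (a : A) (c : B)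
    (h : a ⊗ₜ[R] c = 0) (p : PrimeSpectrum R) (ha : a ⊗ₜ[R] (1 : p.asIdeal.ResidueField) ≠ 0) :
    ∃ r : R, r ∉ p.asIdeal ∧ r • c = 0 := by
  by_contra hne
  push Not at hne
  refine ha ?_
  have hle : (LinearMap.ker (LinearMap.toSpanSingleton R B c) : Ideal R) ≤ p.asIdeal := fun r hr =>
    by_contra fun hr' => hne r hr' hr
  have ha' : a ∈ (p.asIdeal • ⊤ : Submodule R A) := by
    rw [Ideal.smul_top_eq_map]
    exact Ideal.map_mono hle (mem_map_of_tmul_eq_zero a c h)
  refine Submodule.smul_induction_on ha' (fun r hr b _ => ?_) (fun x y hx hy => by rw [add_tmul, hx, hy, add_zero])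
  rw [smul_tmul, Algebra.smul_def, _root_.mul_one, Ideal.algebraMap_residueField_eq_zero.mpr hr, tmul_zero]

/-- An ideal with flat quotient which vanishes on a fibre vanishes near the fibre. -/
theorem exists_killing [Module.Flat R A] (I : Ideal A) (hI : I.FG) [Module.Flat R (A ⧸ I)] (p : PrimeSpectrum R)
    (h : ∀ a ∈ I, a ⊗ₜ[R] (1 : p.asIdeal.ResidueField) = 0) :
    ∃ e : A, (∀ P : Ideal A, P.IsPrime → P.comap (algebraMap R A) = p.asIdeal → e ∉ P) ∧ ∀ a ∈ I, e * a = 0 := by
  let J : Ideal A := p.asIdeal.map (algebraMap R A)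
  have hJ : ∀ a ∈ I, a ∈ J := by
    intro a ha
    refine Ideal.map_mono ?_ (mem_map_of_tmul_eq_zero a (1 : p.asIdeal.ResidueField) (h a ha))
    intro r hr
    have hr' : r • (1 : p.asIdeal.ResidueField) = 0 := hr
    rw [Algebra.smul_def, _root_.mul_one] at hr'
    exact Ideal.algebraMap_residueField_eq_zero.mp hr'
  have hle : I ≤ J • I := by
    intro a ha
    have ha' : a ∈ (p.asIdeal • ⊤ : Submodule R A) := by
      rw [Ideal.smul_top_eq_map]; exact hJ a ha
    rw [← Submodule.span_univ, ← Set.range_id, Submodule.mem_ideal_smul_span_iff_exists_sum] at ha'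
    obtain ⟨c, hc, hsum⟩ := ha'
    have hrel : ∑ i : c.support, c i • Ideal.Quotient.mk I (i : A) = 0 := by
      rw [Finset.sum_coe_sort c.support (fun i => c i • Ideal.Quotient.mk I i)]
      have h0 := Ideal.Quotient.eq_zero_iff_mem.mpr ha
      rw [← hsum, Finsupp.sum, map_sum] at h0
      exact h0
    obtain ⟨k, α, y, hy, hα⟩ := Module.Flat.isTrivialRelation_of_sum_smul_eq_zero hrel
    choose Y hY using fun j => Ideal.Quotient.mk_surjective (y j)
    let e : c.support → A := fun i => (i : A) - ∑ j, α i j • Y j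
    have he : ∀ i, e i ∈ I := fun i => by
      rw [← Ideal.Quotient.eq_zero_iff_mem, map_sub, map_sum, sub_eq_zero]
      refine (hy i).trans ?_
      exact Finset.sum_congr rfl fun j _ => by rw [← hY j]; rfl
    have hsum' : a = ∑ i : c.support, c (i : A) • e i := by
      simp only [e, smul_sub, Finset.smul_sum, smul_smul, Finset.sum_sub_distrib]
      rw [Finset.sum_comm, Finset.sum_eq_zero (s := (Finset.univ : Finset (Fin k))) fun j _ => by
        rw [← Finset.sum_smul, hα j, zero_smul], sub_zero, ← hsum, Finsupp.sum,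
        Finset.sum_coe_sort c.support (fun i => c i • i)]
      rfl
    rw [hsum']
    refine Submodule.sum_mem _ fun i _ => ?_
    show c (i : A) • e i ∈ J * I
    rw [Algebra.smul_def]
    exact Ideal.mul_mem_mul (Ideal.mem_map_of_mem (algebraMap R A) (hc (i : A))) (he i)
  obtain ⟨r, hr1, hr2⟩ := Submodule.exists_sub_one_mem_and_smul_eq_zero_of_fg_of_le_smul J I hI hle
  refine ⟨r, fun P hP hPp hrP => hP.ne_top ?_, fun a ha => hr2 a ha⟩
  have hJP : J ≤ P := Ideal.map_le_iff_le_comap.mpr hPp.ge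
  rw [Ideal.eq_top_iff_one]
  simpa using P.sub_mem hrP (hJP hr1)

variable (R)

/-- The points over which an element is nonzero. -/
def supp (b : A) : Set (PrimeSpectrum R) := {p | b ⊗ₜ[R] (1 : p.asIdeal.ResidueField) ≠ 0}

variable {R}

theorem mem_supp_iff (b : A) (p : PrimeSpectrum R) [IsReduced (A ⊗[R] p.asIdeal.ResidueField)] :
    p ∈ supp R b ↔ ∃ P : PrimeSpectrum A, b ∉ P.asIdeal ∧ PrimeSpectrum.comap (algebraMap R A) P = p := by
  have h := PrimeSpectrum.mem_image_comap_basicOpen (R := R) b p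
  rw [isNilpotent_iff_eq_zero, Algebra.TensorProduct.algebraMap_apply] at h
  exact h.symm

theorem isOpen_supp [Module.Flat R A] [Algebra.FinitePresentation R A]
    [∀ p : PrimeSpectrum R, IsReduced (A ⊗[R] p.asIdeal.ResidueField)] (b : A) : IsOpen (supp R b) := by
  have : supp R b = PrimeSpectrum.comap (algebraMap R A) '' (PrimeSpectrum.basicOpen b : Set (PrimeSpectrum A)) :=
    Set.ext fun p => mem_supp_iff b p
  rw [this]
  exact PrimeSpectrum.isOpenMap_comap_of_hasGoingDown_of_finitePresentation _ (PrimeSpectrum.basicOpen b).isOpen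

/-- An element killed along an irreducible fibre vanishes on it. -/
theorem not_mem_supp [Module.Flat R A] (p : PrimeSpectrum R) [IsReduced (A ⊗[R] p.asIdeal.ResidueField)]
    (hirr : IsPreirreducible (PrimeSpectrum.comap (algebraMap R A) ⁻¹' {p}))
    {e b : A} (heb : e * b = 0) (he : ∃ P : PrimeSpectrum A, e ∉ P.asIdeal ∧ PrimeSpectrum.comap (algebraMap R A) P = p) :
    p ∉ supp R b := by
  rw [mem_supp_iff]
  rintro ⟨P, hP, hPp⟩
  obtain ⟨P', hP'⟩ := he
  obtain ⟨Q, -, hQ1, hQ2⟩ := hirr _ _ (PrimeSpectrum.basicOpen e).isOpen (PrimeSpectrum.basicOpen b).isOpen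
    ⟨P', hP'.2, hP'.1⟩ ⟨P, hPp, hP⟩
  have h0 : e * b ∈ Q.asIdeal := by rw [heb]; exact Q.asIdeal.zero_mem
  exact (Q.isPrime.mem_or_mem h0).elim hQ1 hQ2

end Groth.Agent.Lib.CentW.Alg
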