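import Groth.Agent.Lib.CentW.Weights
import Groth.Agent.Lib.ActSep.Exists
import Groth.Agent.Lib.Tori.BaseChange
import Groth.Agent.H87.CentralEq
import Groth.Agent.Lib.ImgMT.Local
import Groth.Agent.Lib.ImgMT.Compat

/-!
# Central points of a diagonalisable subgroup, locally on any base
-/

set_option autoImplicit false
set_option linter.unusedSectionVars false
universe u

open CategoryTheory MonoidalCategory CartesianMonoidalCategory MonObj GrpObj AlgebraicGeometry
open CategoryTheory.Limits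
open Groth.Agent.Lib.RedPts Groth.Agent.Lib.Tori

namespace Groth.Agent.Lib.CentW

set_option linter.style.haveILetI false

variable {S : Scheme.{u}}

theorem cent_comp {G : Over S} [GrpObj G] {X X' : Over S} (r : X' ⟶ X) {y : X ⟶ G} (h : Cent y) : Cent (r ≫ y) :=
  fun W q g => by rw [← Category.assoc]; exact h W (q ≫ r) g

theorem cent_iso {G G' : Over S} [GrpObj G] [GrpObj G'] (e : G ≅ G') [IsMonHom e.hom] {X : Over S} (y : X ⟶ G) :
    Cent (y ≫ e.hom) ↔ Cent y := by
  haveI : IsMonHom e.inv := inferInstance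
  constructor
  · intro h W q g
    haveI : Mono e.hom := @IsIso.mono_of_iso _ _ _ _ _ (Iso.isIso_hom _)
    rw [← cancel_mono e.hom, MonObj.mul_comp, MonObj.mul_comp, Category.assoc]
    exact h W q (g ≫ e.hom)
  · intro h W q g
    have h1 := congrArg (· ≫ e.hom) (h W q (g ≫ e.inv))
    simpa [MonObj.mul_comp] using h1

/-- Centrality does not see the base. -/
theorem cent_bc {G : Over S} [GrpObj G] {T : Scheme.{u}} (t : T ⟶ S) {Y : Over T} (y : Y ⟶ Red.bc t G) :
    Cent y ↔ Cent (BC.down t y) := by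
  constructor
  · intro h W q g
    let W₁ : Over T := Over.mk (q.left ≫ Y.hom)
    let θ : (Over.map t).obj W₁ ≅ W := Over.isoMk (Iso.refl _) (by
      show 𝟙 _ ≫ W.hom = (q.left ≫ Y.hom) ≫ t
      rw [Category.id_comp, Category.assoc]
      exact (Over.w q).symm)
    let q₁ : W₁ ⟶ Y := Over.homMk q.left
    have h1 := congrArg (BC.down t) (h W₁ q₁ (BC.up t (θ.hom ≫ g)))
    rw [BC.down_mul, BC.down_mul, BC.down_up, BC.down_comp] at h1
    have hq : (Over.map t).map q₁ = θ.hom ≫ q := Over.OverMorphism.ext (by simp [q₁, θ])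
    rw [hq, Category.assoc, ← MonObj.comp_mul, ← MonObj.comp_mul, cancel_epi] at h1
    exact h1
  · intro h W q g
    refine BC.down_injective ?_
    rw [BC.down_mul, BC.down_mul, BC.down_comp]
    exact h _ _ _

/-- The fibres of a base change of a group with connected fibres are irreducible. -/
theorem isIrreducible_fibre_bc (G : Over S) [GrpObj G] [LocallyOfFiniteType G.hom]
    (hconn : ∀ s : S, _root_.IsConnected (G.hom ⁻¹' {s})) {S' : Scheme.{u}} (t : S' ⟶ S) (s' : S') :
    IsIrreducible ((pullback.snd G.hom t) ⁻¹' {s'}) := by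
  let r : Spec (CommRingCat.of (S'.residueField s')) ⟶ S' := S'.fromSpecResidueField s'
  haveI h := ActSep.irreducibleSpace_geomFibre (G := G) hconn (r ≫ t)
  haveI : IrreducibleSpace ↥(pullback G.hom (r ≫ t)) := h
  let e := pullbackLeftPullbackSndIso G.hom t r
  haveI : IrreducibleSpace ↥(pullback (pullback.snd G.hom t) r) :=
    (Scheme.homeoOfIso e).irreducibleSpace_iff.2 inferInstance
  have hr : (pullback.snd G.hom t) ⁻¹' {s'} = Set.range (pullback.fst (pullback.snd G.hom t) r) := by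
    rw [Scheme.Pullback.range_fst, Scheme.range_fromSpecResidueField]
  rw [hr, ← Set.image_univ]
  exact (IrreducibleSpace.isIrreducible_univ _).image _ (Scheme.Hom.continuous _).continuousOn

theorem isConnected_fibre_bc (G : Over S) [GrpObj G] [LocallyOfFiniteType G.hom]
    (hconn : ∀ s : S, _root_.IsConnected (G.hom ⁻¹' {s})) {S' : Scheme.{u}} (t : S' ⟶ S) (s' : S') :
    _root_.IsConnected ((Red.bc t G).hom ⁻¹' {s'}) := (isIrreducible_fibre_bc G hconn t s').isConnected

variable (G : Over S) [GrpObj G] [Smooth G.hom] [IsAffineHom G.hom]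

/-- **Central points of a split subgroup, locally on the base.** -/
theorem exists_local_gen (hconn : ∀ s : S, _root_.IsConnected (G.hom ⁻¹' {s})) {M : Type} [AddCommGroup M]
    [AddGroup.FG M] (u : Red.DS S M ⟶ G) [IsMonHom u] (s : S) :
    ∃ V : S.Opens, s ∈ V ∧ ∃ N : AddSubgroup M,
      ∀ (X : Over S) (x : X ⟶ Red.DS S M), (∀ z, X.hom z ∈ V) → (Cent (x ≫ u) ↔ ∀ m ∈ N, Gm.dsFn x m = 1) := by
  obtain ⟨U, hU, hsU, -⟩ := exists_isAffineOpen_mem_and_subset (U := ⊤) (x := s) trivial
  let R : Type u := Γ(S, U)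
  let j : Spec (CommRingCat.of R) ⟶ S := hU.fromSpec
  haveI : IsAffine (Red.bc j G).left :=
    haveI : IsAffineHom (Red.bc j G).hom := inferInstanceAs (IsAffineHom (pullback.snd G.hom j))
    isAffine_of_isAffineHom (Red.bc j G).hom
  haveI : Smooth (Red.bc j G).hom := inferInstanceAs (Smooth (pullback.snd G.hom j))
  let A : Type u := Γ((Red.bc j G).left, ⊤)
  let ψ : CommRingCat.of R ⟶ Γ((Red.bc j G).left, ⊤) :=
    Spec.preimage ((Red.bc j G).left.isoSpec.inv ≫ (Red.bc j G).hom)
  letI : Algebra R A := ψ.hom.toAlgebra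
  let E : Red.bc j G ≅ GS R A := Over.isoMk (Red.bc j G).left.isoSpec (by
    show (Red.bc j G).left.isoSpec.hom ≫ Spec.map ψ = (Red.bc j G).hom
    rw [Spec.map_preimage, Iso.hom_inv_id_assoc])
  letI : GrpObj (GS R A) := GrpObj.ofIso E
  haveI : IsMonHom E.hom :=
    { one_hom := rfl
      mul_hom := by
        show μ ≫ E.hom = (E.hom ⊗ₘ E.hom) ≫ ((E.inv ⊗ₘ E.inv) ≫ μ ≫ E.hom)
        rw [← Category.assoc (E.hom ⊗ₘ E.hom), MonoidalCategory.tensorHom_comp_tensorHom, E.hom_inv_id,
          MonoidalCategory.id_tensorHom_id, Category.id_comp] }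
  haveI : Algebra.Smooth R A := by
    have h1 : Smooth (Spec.map ψ) := by
      rw [Spec.map_preimage]; infer_instance
    rw [HasRingHomProperty.Spec_iff (P := @Smooth)] at h1
    exact RingHom.smooth_algebraMap.1 h1
  have hirr : ∀ p : PrimeSpectrum R, IsIrreducible (PrimeSpectrum.comap (algebraMap R A) ⁻¹' {p}) := by
    intro p
    have h1 := (isIrreducible_fibre_bc G hconn j p).image _
      (Scheme.Hom.continuous E.hom.left).continuousOn
    have heq : (PrimeSpectrum.comap (algebraMap R A) ⁻¹' {p} : Set (PrimeSpectrum A)) =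
        (E.hom.left '' ((Red.bc j G).hom ⁻¹' {p}) : Set (PrimeSpectrum A)) := by
      refine Set.ext fun (P : PrimeSpectrum A) => ?_
      constructor
      · intro hP
        refine ⟨E.inv.left P, ?_, ?_⟩
        · have h2 := congrArg (fun f : (GS R A).left ⟶ Spec (CommRingCat.of R) => f P) (Over.w E.inv)
          exact h2.trans hP
        · exact congrArg (fun f : (GS R A) ⟶ GS R A => f.left P) E.inv_hom_id
      · rintro ⟨z, hz, rfl⟩
        exact (congrArg (fun f : (Red.bc j G).left ⟶ Spec (CommRingCat.of R) => f z) (Over.w E.hom)).trans hz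
    rw [heq]
    exact h1
  let e₀ := BaseChange.overIso (DS.dsBC M j)
  let u₁ : Red.DS (Spec (CommRingCat.of R)) M ⟶ GS R A := e₀.inv ≫ (Over.pullback j).map u ≫ E.hom
  haveI : IsMonHom e₀.hom := BaseChange.isMonHom_overIso _
  haveI : IsMonHom e₀.inv := inferInstance
  haveI : IsMonHom u₁ := inferInstance
  obtain ⟨W, hW, hsW, N, hN⟩ := exists_local u₁ hirr (hU.primeIdealOf ⟨s, hsU⟩)
  refine ⟨⟨j '' W, j.isOpenEmbedding.isOpenMap W hW⟩, ⟨_, hsW, hU.fromSpec_primeIdealOf ⟨s, hsU⟩⟩, N,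
    fun X x hX => ?_⟩
  have hr : Set.range X.hom ⊆ Set.range j := by
    rintro _ ⟨z, rfl⟩
    obtain ⟨w, -, hw⟩ := hX z
    exact ⟨w, hw⟩
  let l : X.left ⟶ Spec (CommRingCat.of R) := IsOpenImmersion.lift j X.hom hr
  have hl : l ≫ j = X.hom := IsOpenImmersion.lift_fac j X.hom hr
  let X₁ : Over (Spec (CommRingCat.of R)) := Over.mk l
  let θ : (Over.map j).obj X₁ ≅ X := Over.isoMk (Iso.refl _) (by
    show 𝟙 _ ≫ X.hom = l ≫ j
    rw [Category.id_comp, hl])
  have hl' : ∀ z, l z ∈ W := fun z => by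
    obtain ⟨w, hw, hwz⟩ := hX z
    have h1 : j (l z) = X.hom z := congrArg (fun f : X.left ⟶ S => f z) hl
    exact j.isOpenEmbedding.injective (hwz.trans h1.symm) ▸ hw
  let x₀ : X₁ ⟶ Red.bc j (Red.DS S M) := BC.up j (θ.hom ≫ x)
  have hd : ∀ m, Gm.dsFn (x₀ ≫ e₀.hom) m = Gm.dsFn x m := fun m => by
    rw [← ImgMT.dsFn_down, BC.down_up, Gm.dsFn_comp]
    simp [θ]
    rfl
  have key : Cent (x₀ ≫ (Over.pullback j).map u) ↔ Cent (x ≫ u) := by
    rw [cent_bc, BC.down_map, BC.down_up, Category.assoc]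
    exact ⟨fun h => by simpa using cent_comp θ.inv h, fun h => cent_comp θ.hom h⟩
  rw [← key, ← cent_iso E, Category.assoc]
  have h1 := hN X₁ (x₀ ≫ e₀.hom) hl'
  have h2 : (x₀ ≫ e₀.hom) ≫ u₁ = x₀ ≫ (Over.pullback j).map u ≫ E.hom := by
    simp [u₁]
  rw [h2] at h1
  simp only [hd] at h1
  exact h1

end Groth.Agent.Lib.CentW
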