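import Groth.Agent.Lib.CentW.TranspPts
import Groth.Agent.H1.Classical.ParabolicNormalizer

/-!
# The transporter of a Borel subgroup into a parabolic subgroup containing it
-/

universe u

open CategoryTheory MonoidalCategory CartesianMonoidalCategory MonObj GrpObj AlgebraicGeometry Limits

namespace Groth.Agent.Lib.CentW.BorelTransp

set_option linter.style.haveILetI false
set_option linter.unusedSectionVars false

open Groth.Agent.H1.Classical Groth.Agent.H1.Classical.ParabolicNormalizer
open Groth.Agent.Lib.RedPts Groth.Agent.Lib.RedPts.Points Scheme' WithConv Torus Torus.Centraliser Complete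
  MaxTorusScheme MaxTorusApply CentralizerScheme Groth.Agent.Lib.GrpSch FieldDescent Groth.Agent.Lib.RedPts.BC

attribute [local instance] baseAlgebra

/-- Conjugation by `g` sends the image of `i` into that of `j`. -/
def FwdFrom {S : Scheme.{u}} {G H P : Over S} [GrpObj G] (i : H ⟶ G) (j : P ⟶ G) {X : Over S} (g : X ⟶ G) : Prop :=
  ∀ (X' : Over S) (x : X' ⟶ X) (h : X' ⟶ H), ∃ h' : X' ⟶ P, (x ≫ g) * (h ≫ i) * (x ≫ g)⁻¹ = h' ≫ j

variable {k : Type u} [Field k] [IsAlgClosed k]

section GA

variable {A : Type u} [CommRing A] [HopfAlgebra k A] [Algebra.FiniteType k A] [IsDomain A]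
  {P B : Over (Spec (CommRingCat.of k))} [GrpObj P] [GrpObj B] (iP : P ⟶ GA k A) [IsMonHom iP]
  [IsClosedImmersion iP.left] [Smooth P.hom] (b : B ⟶ P)

include b in
/-- The rational points conjugating the Borel subgroup into the parabolic one. -/
theorem mem_points (hB : Red.IsBorelOver k (b ≫ iP)) :
    haveI := hB.1
    ∀ n, (∀ p ∈ ptsOf (b ≫ iP), n * p * n⁻¹ ∈ ptsOf iP) → n ∈ ptsOf iP := by
  haveI := hB.1
  obtain ⟨W, _, σ, hσ⟩ := Torus.GenRep.exists_gen (HopfPts.D k A) hasMul_pts pts_ext
  exact TranspPts.mem_of_conj HopfPts.sirr_univ hasMul_pts hσ (isBor_ptsOf (b ≫ iP) hB) (isCl_ptsOf iP)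
    (MaxTorusBorel.ptsOf_le _ _ (f := b) rfl)

include b in
/-- The closed subscheme of elements conjugating a Borel subgroup into a parabolic subgroup is that subgroup. -/
theorem fac_universal (hB : Red.IsBorelOver k (b ≫ iP)) {N : Over (Spec (CommRingCat.of k))}
    (c : N ⟶ GA k A) [IsClosedImmersion c.left] (hc : FwdFrom (b ≫ iP) iP c) : ∃ z : N ⟶ P, z ≫ iP = c := by
  haveI := locallyOfFiniteType (k := k) (A := A)
  haveI : Smooth (GA k A).hom := smooth_GA
  haveI : ConnectedSpace (GA k A).left := by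
    haveI : AlgebraicGeometry.IsIntegral (GA k A).left :=
      inferInstanceAs (AlgebraicGeometry.IsIntegral (Spec (CommRingCat.of A)))
    infer_instance
  haveI : Mono iP := Over.mono_of_mono_left iP
  haveI : IsAffine P.left := isAffine_of_isAffineHom iP.left
  haveI : IsAffine N.left := isAffine_of_isAffineHom c.left
  haveI : LocallyOfFiniteType N.hom := by rw [← Over.w c]; infer_instance
  have hnorm := mem_points iP b hB
  obtain ⟨T, _, iT, t, hT, ht⟩ := MaxTorusExists.exists_maxTorus_borel hB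
  haveI := hT.1
  haveI := hT.2.1
  let tP := t ≫ b
  have htP : tP ≫ iP = iT := by simp only [tP, Category.assoc, ht]
  haveI : IsMonHom (tP ≫ iP) := htP.symm ▸ inferInstance
  haveI : IsMonHom tP := CentralizerBorel.isMonHom_of_mono_comp tP iP
  let f : N.left ⟶ Spec (CommRingCat.of k) := N.hom
  -- projections
  let pN : ∀ X : Over N.left, (Over.map f).obj X ⟶ N := fun X => Over.homMk X.hom rfl
  have hpN : ∀ {X X' : Over N.left} (x : X' ⟶ X), (Over.map f).map x ≫ pN X = pN X' := fun x =>
    Over.OverMorphism.ext (Over.w x)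
  obtain ⟨v, hv⟩ := hc _ (pN (Red.bc f T)) (down f (𝟙 (Red.bc f T)) ≫ t)
  let u₂ : Red.bc f T ⟶ Red.bc f P := up f v
  have hu₂ : ∀ (X : Over N.left) (a : X ⟶ Red.bc f T), down f (a ≫ u₂) ≫ iP =
      (pN X ≫ c) * (down f a ≫ iT) * (pN X ≫ c)⁻¹ := fun X a => by
    rw [down_comp, down_up, Category.assoc, ← hv]
    have ht' : t ≫ b ≫ iP = iT := by simpa only [Category.assoc] using ht
    simp only [MonObj.comp_mul, GrpObj.comp_inv, ← Category.assoc, hpN]
    rw [← down_comp, Category.comp_id]
    simp only [Category.assoc, ht']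
  haveI : IsMonHom u₂ := ConjIso.isMonHom_of_mul u₂ fun p q => by
    apply down_injective
    rw [← cancel_mono iP, hu₂, down_mul, down_mul, MonObj.mul_comp, MonObj.mul_comp, hu₂, hu₂]
    group
  haveI : Smooth (Red.bc f P).hom := bc_hom_of (P := @Smooth) f P inferInstance
  haveI : IsAffineHom (Red.bc f P).hom := bc_hom_of (P := @IsAffineHom) f P inferInstance
  obtain ⟨C, γ, hγc, hCs, hC⟩ := Groth.Agent.Lib.MultSmooth.exists_transporter_smooth
    (isMultTypeFT_of_isTorus (Groth.Agent.Lib.Tori.Basic.isTorus_bc hT.2.2.1 f))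
    ((Over.pullback f).map tP) u₂
  -- all points of the base lift
  haveI : Surjective C.hom := surjective_of_points f C.hom fun ν => by
    obtain ⟨χ, hχ⟩ := ptHom_surjective ((ν ≫ (Over.homMk (𝟙 N.left) : Over.mk f ⟶ N)) ≫ c)
    let ν' : 𝟙_ (Over (Spec (CommRingCat.of k))) ⟶ N := ν ≫ (Over.homMk (𝟙 N.left) : Over.mk f ⟶ N)
    obtain ⟨z, hz⟩ : χ ∈ ptsOf iP := hnorm χ (by
      rintro p ⟨y, hy⟩
      change y ≫ b ≫ iP = _ at hy
      obtain ⟨h', hh'⟩ := hc _ ν' y
      refine ⟨h', ?_⟩
      show h' ≫ iP = ptHom (𝟙_ _) _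
      rw [← hh', hy, ← hχ, map_mul, map_mul, map_inv])
    change z ≫ iP = _ at hz
    rw [hχ] at hz
    let Xν : Over N.left := Over.mk ν'.left
    let κ : (Over.map f).obj Xν ⟶ 𝟙_ (Over (Spec (CommRingCat.of k))) := toUnit _
    have hκ : κ ≫ ν' = pN Xν := Over.OverMorphism.ext (by
      show κ.left ≫ ν'.left = ν'.left
      have : κ.left = 𝟙 _ := by
        have h1 := Over.w κ
        have h2 : ((Over.map f).obj Xν).hom = 𝟙 _ := Over.w ν'
        rw [h2] at h1
        exact (Category.comp_id _).symm.trans h1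
      rw [this]
      exact Category.id_comp _)
    obtain ⟨l, hl⟩ := (hC Xν (up f (κ ≫ z))).mpr fun X' x h => by
      apply down_injective
      rw [← cancel_mono iP, hu₂, down_mul, down_mul, down_inv, MonObj.mul_comp, MonObj.mul_comp, GrpObj.inv_comp,
        down_map h, down_comp x, down_up]
      simp only [Category.assoc, htP, hz]
      rw [← hpN x, ← hκ]
      simp only [Category.assoc, ν']
    refine ⟨l.left (IsLocalRing.closedPoint k), ?_⟩
    show (l.left ≫ C.hom) (IsLocalRing.closedPoint k) = _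
    rw [Over.w l]
    show ν'.left _ = ν.left _
    simp only [ν', Over.comp_left, Over.homMk_left]
    rfl
  -- on the cover the normaliser lies in `P`
  let m : (Over.map f).obj C ⟶ GA k A := pN C ≫ c
  let z : (Over.map f).obj C ⟶ P := down f γ
  obtain ⟨Z, _, j, hj, -, -⟩ :=
    Groth.Agent.Lib.MultSmooth.exists_centralizer_smooth (isMultTypeFT_of_isTorus hT.2.2.1) iT
  obtain ⟨w, hw⟩ := (hj.2.2 _ ((z ≫ iP)⁻¹ * m)).mpr fun X' x h => by
    let X'' : Over N.left := Over.mk (x.left ≫ C.hom)
    let κ : (Over.map f).obj X'' ≅ X' := Over.isoMk (Iso.refl _) (by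
      show 𝟙 _ ≫ X'.hom = (x.left ≫ C.hom) ≫ f
      rw [Category.id_comp, Category.assoc, ← Over.w x]
      rfl)
    let x' : X'' ⟶ C := Over.homMk x.left rfl
    have hx : (Over.map f).map x' = κ.hom ≫ x := Over.OverMorphism.ext (Category.id_comp _).symm
    have h0 := (hC C γ).mp ⟨𝟙 C, Category.id_comp γ⟩ X'' x' (up f (κ.hom ≫ h))
    have h1 := congrArg (fun q => down f q ≫ iP) h0
    simp only [down_mul, down_inv, MonObj.mul_comp, GrpObj.inv_comp] at h1
    rw [hu₂, down_map (up f (κ.hom ≫ h)), down_up, down_comp x' γ, hx, ← hpN x', hx] at h1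
    simp only [Category.assoc, htP] at h1
    rw [← cancel_epi κ.hom]
    simp only [MonObj.comp_mul, GrpObj.comp_inv, m, z]
    have key : ∀ {Γ' : Type u} [Group Γ'] (p n s : Γ'), p * s * p⁻¹ = n * s * n⁻¹ → p⁻¹ * n * s = s * (p⁻¹ * n) := by
      intro Γ' _ p n s h
      calc p⁻¹ * n * s = p⁻¹ * (n * s * n⁻¹) * n := by group
        _ = p⁻¹ * (p * s * p⁻¹) * n := by rw [h]
        _ = s * (p⁻¹ * n) := by group
    exact key _ _ _ h1
  obtain ⟨φ, hφ⟩ := CartanBorel.exists_factor_closed hT hj hB t ht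
  have hm : (z * (w ≫ φ ≫ b)) ≫ iP = m := by
    rw [MonObj.mul_comp, Category.assoc, Category.assoc, hφ, hw, mul_inv_cancel_left]
  -- descent
  let W := pullback c iP
  have hsq : IsPullback (pullback.fst c iP) (pullback.snd c iP) c iP := .of_hasPullback c iP
  let l := hsq.lift (pN C) (z * (w ≫ φ ≫ b)) hm.symm
  haveI : IsClosedImmersion (pullback.fst c iP).left :=
    MorphismProperty.of_isPullback (P := @IsClosedImmersion) (hsq.map (Over.forget _)).flip
      (inferInstanceAs (IsClosedImmersion iP.left))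
  haveI : IsAffine C.left := by
    haveI : IsAffine (Red.bc f P).left := isAffine_of_isAffineHom (Red.bc f P).hom
    exact isAffine_of_isAffineHom γ.left
  haveI : IsIso (pullback.fst c iP).left := by
    have hl : l.left ≫ (pullback.fst c iP).left = C.hom := by
      rw [← Over.comp_left, hsq.lift_fst]
      rfl
    let p := pullback.fst (pullback.fst c iP).left C.hom
    have hp : IsPullback (pullback.snd (pullback.fst c iP).left C.hom) p C.hom (pullback.fst c iP).left :=
      (IsPullback.of_hasPullback _ _).flip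
    haveI : IsIso (pullback.snd (pullback.fst c iP).left C.hom) := by
      refine ⟨pullback.lift l.left (𝟙 _) (by rw [hl, Category.id_comp]), ?_, pullback.lift_snd _ _ _⟩
      rw [← cancel_mono (pullback.snd (pullback.fst c iP).left C.hom), Category.assoc, pullback.lift_snd,
        Category.comp_id, Category.id_comp]
    exact MorphismProperty.DescendsAlong.of_isPullback (P := MorphismProperty.isomorphisms Scheme.{u})
      (Q := @Surjective ⊓ @Flat ⊓ @QuasiCompact) hp ⟨⟨inferInstance, inferInstance⟩, inferInstance⟩ ‹_›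
  haveI : IsIso ((Over.forget (Spec (CommRingCat.of k))).map (pullback.fst c iP)) := ‹IsIso (pullback.fst c iP).left›
  haveI := isIso_of_reflects_iso (pullback.fst c iP) (Over.forget _)
  exact ⟨CategoryTheory.inv (pullback.fst c iP) ≫ pullback.snd c iP, by
    rw [Category.assoc, ← hsq.w, IsIso.inv_hom_id_assoc]⟩

include b in
/-- A point conjugating a Borel subgroup into a parabolic subgroup lies in it. -/
theorem fac_GA (hB : Red.IsBorelOver k (b ≫ iP)) {X : Over (Spec (CommRingCat.of k))} (g : X ⟶ GA k A)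
    (hg : FwdFrom (b ≫ iP) iP g) : ∃ z : X ⟶ P, z ≫ iP = g := by
  obtain ⟨N, c, hc, hN, -⟩ := Groth.Agent.Lib.FreeRes.exists_closed_factor (P := GA k A) (X := B)
    (Groth.Agent.Lib.FreeRes.isEssentiallyFree_field _)
    (fst (GA k A) B * (snd (GA k A) B ≫ b ≫ iP) * (fst (GA k A) B)⁻¹) iP
  haveI := hc
  have hiff : ∀ {Y : Over (Spec (CommRingCat.of k))} (n : Y ⟶ GA k A), (∃ z, z ≫ c = n) ↔ FwdFrom (b ≫ iP) iP n := fun n => by
    rw [hN n, Groth.Agent.Lib.FreeRes.forall_pair_factor_iff]
    refine forall_congr' fun X' => forall_congr' fun x => forall_congr' fun h => exists_congr fun h' => ?_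
    simp only [MonObj.comp_mul, GrpObj.comp_inv, lift_fst, lift_snd_assoc]
  obtain ⟨z, hz⟩ := fac_universal iP b hB c ((hiff c).mp ⟨𝟙 N, Category.id_comp c⟩)
  obtain ⟨g', rfl⟩ := (hiff g).mpr hg
  exact ⟨g' ≫ z, by rw [Category.assoc, hz]⟩

end GA

/-- Over an algebraically closed field. -/
theorem factor_of_fwdFrom {G P B : Over (Spec (CommRingCat.of k))} [GrpObj G] [IsAffine G.left] [Smooth G.hom]
    [ConnectedSpace G.left] [GrpObj P] [GrpObj B] (iP : P ⟶ G) [IsMonHom iP] [IsClosedImmersion iP.left]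
    [Smooth P.hom] (b : B ⟶ P) (hB : Red.IsBorelOver k (b ≫ iP)) {X : Over (Spec (CommRingCat.of k))} (g : X ⟶ G)
    (hg : FwdFrom (b ≫ iP) iP g) : ∃ z, z ≫ iP = g := by
  obtain ⟨A, _, _, _, _, e, he⟩ := exists_GA G
  haveI := he
  haveI : IsIso e.hom.left := ((Over.forget _).mapIso e).isIso_hom
  haveI : IsClosedImmersion (iP ≫ e.hom).left := by rw [Over.comp_left]; infer_instance
  have hB' : Red.IsBorelOver k (b ≫ iP ≫ e.hom) := by rw [← Category.assoc]; exact isBorelOver_comp hB e
  obtain ⟨z, hz⟩ := fac_GA (iP ≫ e.hom) b hB' (g ≫ e.hom) fun X' x h => by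
    obtain ⟨h', hh'⟩ := hg X' x h
    exact ⟨h', by simpa only [MonObj.mul_comp, GrpObj.inv_comp, Category.assoc] using congrArg (· ≫ e.hom) hh'⟩
  exact ⟨z, by rw [← cancel_mono e.hom, Category.assoc, hz]⟩

end Groth.Agent.Lib.CentW.BorelTransp
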