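import Groth.Agent.Lib.CentW.InTori
import Groth.Agent.Lib.ImgMT.NilRank
import Groth.Agent.H1.Classical.MaxTorusApply
import Groth.Agent.H1.Classical.ConjIso
import Groth.Agent.S8496

/-!
# Maximal tori in groups of unipotent rank zero are their own centralisers
-/

set_option autoImplicit false
set_option linter.unusedSectionVars false
universe u

open CategoryTheory MonoidalCategory CartesianMonoidalCategory MonObj GrpObj AlgebraicGeometry
open CategoryTheory.Limits
open Groth.Agent.Lib.RedPts Groth.Agent.Lib.Tori Groth.Agent.H87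
open Groth.Agent.Lib.ImgMT.RedRank

namespace Groth.Agent.Lib.CentW

set_option linter.style.haveILetI false

variable {S : Scheme.{u}}

/-- Being one's own centraliser is invariant under an isomorphism of the source. -/
theorem isCentralizerOf_self_congr {G T T' : Over S} [GrpObj G] [GrpObj T] [GrpObj T'] {i : T ⟶ G} {j : T' ⟶ G}
    [IsMonHom i] [Mono i] (φ : T ≅ T') (hφ : φ.hom ≫ j = i) (h : Red.IsCentralizerOf j j) :
    Red.IsCentralizerOf i i := by
  haveI := h.2.1
  refine ⟨inferInstance, inferInstance, fun X g => ⟨?_, fun hg => ?_⟩⟩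
  · rintro ⟨z, rfl⟩ X' x t
    have h1 := (h.2.2 X ((z ≫ φ.hom) ≫ j)).1 ⟨_, rfl⟩ X' x (t ≫ φ.hom)
    simpa only [Category.assoc, hφ] using h1
  · obtain ⟨z, hz⟩ := (h.2.2 X g).2 fun X' x t => by
      have h1 := hg X' x (t ≫ φ.inv)
      simpa only [Category.assoc, ← hφ, Iso.inv_hom_id_assoc] using h1
    exact ⟨z ≫ φ.inv, by rw [Category.assoc, ← hφ, Iso.inv_hom_id_assoc, hz]⟩

variable (G : Over S) [GrpObj G] [Smooth G.hom] [IsAffineHom G.hom]

theorem centralizer_self_point_aux (hconn : ∀ s : S, _root_.IsConnected (G.hom ⁻¹' {s})) (hu : SGA3x.UnipotentRankZero G)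
    {L : Type u} [Field L] [IsAlgClosed L] (t : S)
    (q : Spec (CommRingCat.of L) ⟶ Spec (CommRingCat.of (AlgebraicClosure (S.residueField t))))
    {T : Over (Spec (CommRingCat.of L))} [GrpObj T] (i : T ⟶ Red.bc (q ≫ Red.geomPt t) G)
    (hi : Red.IsMaximalTorus i) : Red.IsCentralizerOf i i := by
  have hsm : ∀ {X : Scheme.{u}} (p : X ⟶ S), Smooth (Red.bc p G).hom := fun p =>
    inferInstanceAs (Smooth (pullback.snd G.hom p))
  have haff : ∀ {X : Scheme.{u}} (p : X ⟶ S), IsAffineHom (Red.bc p G).hom := fun p =>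
    isAffineHom_isStableUnderBaseChange.of_isPullback (IsPullback.of_hasPullback G.hom p) inferInstance
  haveI := hsm (Red.geomPt t)
  haveI := haff (Red.geomPt t)
  haveI := hsm (q ≫ Red.geomPt t)
  haveI := haff (q ≫ Red.geomPt t)
  haveI : IsAffine (Red.bc (q ≫ Red.geomPt t) G).left := isAffine_of_isAffineHom (Red.bc (q ≫ Red.geomPt t) G).hom
  haveI : ConnectedSpace ↥(Red.bc (q ≫ Red.geomPt t) G).left :=
    @IrreducibleSpace.connectedSpace _ _ (ActSep.irreducibleSpace_geomFibre (G := G) hconn (q ≫ Red.geomPt t))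
  obtain ⟨r, hr⟩ := exists_isRk G (Red.geomPt t)
  obtain ⟨u, hum, humono⟩ := hr.1
  haveI := hum
  haveI := humono
  have h₀ := isMaximalTorus_of_isRk (Red.geomPt t) G hr (Basic.isSplit_DS _ _) u
  have hc := hu t _ u h₀
  have h₁ : Red.IsMaximalTorus ((Over.pullback q).map u ≫ (compIso q (Red.geomPt t) G).hom) :=
    isMaximalTorus_iso (SmWeil.MaxTorusBC.isMaximalTorus_bc u h₀ q) (compIso q (Red.geomPt t) G)
  have hc₁ : Red.IsCentralizerOf ((Over.pullback q).map u ≫ (compIso q (Red.geomPt t) G).hom)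
      ((Over.pullback q).map u ≫ (compIso q (Red.geomPt t) G).hom) :=
    ImgMT.NilRank.isCentralizerOf_iso (Groth.Agent.H1.Classical.FieldDescent.isCentralizerOf_bc q hc)
      (compIso q (Red.geomPt t) G)
  have agf : ∀ {T' : Over (Spec (CommRingCat.of L))} [GrpObj T'] {j : T' ⟶ Red.bc (q ≫ Red.geomPt t) G},
      Red.IsMaximalTorus j → AGF.IsMaxTorus j := fun {T'} _ {j} hj =>
    ⟨hj.1, hj.2.1, hj.2.2.1, fun T'' _ j' _ _ f hT'' hf => SmWeil.maximal_of_isMaximalTorus hj j' f hT'' hf⟩
  obtain ⟨g, φ, hφ⟩ := H1.Classical.MaxTorusApply.maxTorus_conj (agf hi) (agf h₁)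
  haveI : IsMonHom (H1.Classical.ConjIso.conjIso g).symm.hom :=
    inferInstanceAs (IsMonHom (H1.Classical.ConjIso.conjIso g).inv)
  have hc₂ := ImgMT.NilRank.isCentralizerOf_iso hc₁ (H1.Classical.ConjIso.conjIso g).symm
  haveI := hi.1
  haveI := hi.2.1
  exact isCentralizerOf_self_congr φ (by
    rw [← Category.assoc φ.hom, hφ, ← H1.Classical.ConjIso.comp_conjIso, Category.assoc, Iso.symm_hom,
      Iso.hom_inv_id, Category.comp_id]) hc₂

/-- Over any algebraically closed point, a maximal torus is its own centraliser. -/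
theorem centralizer_self_point (hconn : ∀ s : S, _root_.IsConnected (G.hom ⁻¹' {s})) (hu : SGA3x.UnipotentRankZero G)
    {L : Type u} [Field L] [IsAlgClosed L] (k : Spec (CommRingCat.of L) ⟶ S) {T : Over (Spec (CommRingCat.of L))}
    [GrpObj T] (i : T ⟶ Red.bc k G) (hi : Red.IsMaximalTorus i) : Red.IsCentralizerOf i i := by
  obtain ⟨t, q, rfl⟩ : ∃ (t : S) (q : Spec (CommRingCat.of L) ⟶
      Spec (CommRingCat.of (AlgebraicClosure (S.residueField t)))), q ≫ Red.geomPt t = k := by
    refine ⟨ptOf k, ?_⟩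
    letI : Algebra (S.residueField (ptOf k)) L := (S.descResidueField (Scheme.stalkClosedPointTo k)).hom.toAlgebra
    let σ : AlgebraicClosure (S.residueField (ptOf k)) →ₐ[S.residueField (ptOf k)] L := IsAlgClosed.lift
    refine ⟨Spec.map (CommRingCat.ofHom σ.toRingHom), ?_⟩
    rw [← Category.assoc, ← Spec.map_comp]
    refine Eq.trans (congrArg (fun f => Spec.map f ≫ S.fromSpecResidueField (ptOf k))
      (CommRingCat.hom_ext σ.comp_algebraMap)) ?_
    exact Scheme.descResidueField_stalkClosedPointTo_fromSpecResidueField L S k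
  exact centralizer_self_point_aux G hconn hu t q i hi

set_option maxHeartbeats 800000 in
/-- **A maximal torus over any base is its own centraliser.** -/
theorem centralizer_self_comm (hconn : ∀ s : S, _root_.IsConnected (G.hom ⁻¹' {s})) (hu : SGA3x.UnipotentRankZero G)
    {W : Scheme.{u}} (w : W ⟶ S) {T : Over W} [GrpObj T] (i : T ⟶ Red.bc w G) (hi : Red.IsMaximalTorus i) :
    ∀ (X : Over W) (g : X ⟶ Red.bc w G),
      (∀ (X' : Over W) (x : X' ⟶ X) (t : X' ⟶ T), (x ≫ g) * (t ≫ i) = (t ≫ i) * (x ≫ g)) →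
        ∃ h : X ⟶ T, h ≫ i = g := by
  haveI : Smooth (Red.bc w G).hom := inferInstanceAs (Smooth (pullback.snd G.hom w))
  haveI : IsAffineHom (Red.bc w G).hom :=
    isAffineHom_isStableUnderBaseChange.of_isPullback (IsPullback.of_hasPullback G.hom w) inferInstance
  haveI := hi.1
  haveI := hi.2.1
  obtain ⟨C, gC, c, hC, -, hCs⟩ := SmWeil.exists_centralizer_torus hi.2.2.1 i
  haveI := hCs
  haveI := hC.2.1
  obtain ⟨a, ha⟩ := (hC.2.2 T i).2 fun X x t => by
    rw [← MonObj.mul_comp, ← MonObj.mul_comp, Comm.mul_comm_of_isTorus hi.2.2.1]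
  haveI : Mono (a ≫ c) := by rw [ha]; infer_instance
  haveI : Mono a := mono_of_mono a c
  haveI : Smooth T.hom := Basic.smooth_of_isTorus hi.2.2.1
  haveI : ∀ s : W, IsIso ((Over.pullback (W.fromSpecResidueField s)).map a).left := fun s => by
    let k := Red.geomPt s
    have hiso : IsIso ((Over.pullback k).map a).left := by
      have hk₁ := isMaximalTorus_iso (SmWeil.MaxTorusBC.isMaximalTorus_bc i hi k) (compIso k w G)
      have hk₂ := centralizer_self_point G hconn hu (k ≫ w) _ hk₁
      have hk₃ := ImgMT.NilRank.isCentralizerOf_iso (Groth.Agent.H1.Classical.FieldDescent.isCentralizerOf_bc k hC)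
        (compIso k w G)
      obtain ⟨e, he⟩ := SmWeil.CartanDim.exists_iso hk₂ hk₃
      have : (Over.pullback k).map a = e.hom := by
        haveI := hk₃.2.1
        rw [← cancel_mono ((Over.pullback k).map c ≫ (compIso k w G).hom), he, ← Category.assoc,
          ← Functor.map_comp, ha]
      rw [this]
      exact inferInstanceAs (IsIso ((Over.forget _).map e.hom))
    have h1 := (Charts.fib_point_iff (MorphismProperty.isomorphisms Scheme) k a).1 hiso
    rw [show k (IsLocalRing.closedPoint (AlgebraicClosure (W.residueField s))) = s from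
      W.fromSpecResidueField_apply s _] at h1
    exact h1
  haveI : Smooth a.left := (Groth.Agent.S8496.smooth_iff_fibrewise a).1.2 fun s => inferInstance
  haveI : Mono a.left := Over.mono_left_of_mono a
  haveI : IsOpenImmersion a.left := IsOpenImmersion.of_flat_of_mono _
  have hsurj : Surjective a.left := ⟨fun z => by
    obtain ⟨z', hz'⟩ : z ∈ Set.range (pullback.fst C.hom (W.fromSpecResidueField (C.hom z))) := by
      rw [Scheme.Pullback.range_fst, Set.mem_preimage, Scheme.range_fromSpecResidueField]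
      exact Set.mem_singleton _
    let b := ((Over.pullback (W.fromSpecResidueField (C.hom z))).map a).left
    obtain ⟨y, hy⟩ := b.homeomorph.surjective z'
    refine ⟨pullback.fst T.hom _ y, ?_⟩
    have hsq : b ≫ pullback.fst C.hom _ = pullback.fst T.hom _ ≫ a.left := pullback.lift_fst _ _ _
    rw [← Scheme.Hom.comp_apply, ← hsq, Scheme.Hom.comp_apply]
    exact (congrArg (pullback.fst C.hom _) hy).trans hz'⟩
  haveI := hsurj
  haveI : IsIso a.left :=
    isIso_of_isOpenImmersion_of_opensRange_eq_top a.left (TopologicalSpace.Opens.ext a.left.surjective.range_eq)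
  haveI : IsIso ((Over.forget W).map a) := ‹IsIso a.left›
  haveI : IsIso a := isIso_of_reflects_iso a (Over.forget W)
  intro X g hg
  obtain ⟨z, hz⟩ := (hC.2.2 X g).2 hg
  exact ⟨z ≫ CategoryTheory.inv a, by rw [← ha, Category.assoc, IsIso.inv_hom_id_assoc, hz]⟩

/-- A central point lies in every maximal torus. -/
theorem centralizer_self (hconn : ∀ s : S, _root_.IsConnected (G.hom ⁻¹' {s})) (hu : SGA3x.UnipotentRankZero G)
    {W : Scheme.{u}} (w : W ⟶ S) {T : Over W} [GrpObj T] (i : T ⟶ Red.bc w G) (hi : Red.IsMaximalTorus i) :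
    ∀ (X : Over W) (g : X ⟶ Red.bc w G), Cent g → ∃ h : X ⟶ T, h ≫ i = g :=
  fun X g hg => centralizer_self_comm G hconn hu w i hi X g fun X' x t => hg X' x (t ≫ i)

end Groth.Agent.Lib.CentW
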