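import Groth.Agent.Lib.CentW.Glue
import Groth.Agent.Lib.CentW.SelfCentral

/-!
# The centre of a smooth affine group of unipotent rank zero
-/

set_option autoImplicit false
set_option linter.unusedSectionVars false
universe u

open CategoryTheory MonoidalCategory CartesianMonoidalCategory MonObj GrpObj AlgebraicGeometry
open CategoryTheory.Limits
open Groth.Agent.Lib.RedPts Groth.Agent.Lib.Tori Groth.Agent.H87
open Groth.Agent.Lib.ImgMT.RedRank

namespace Groth.Agent.Lib.CentW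

set_option linter.style.haveILetI false

variable {S : Scheme.{u}} (G : Over S) [GrpObj G] [Smooth G.hom] [IsAffineHom G.hom]

/-- With unipotent rank zero the reductive rank is locally constant. -/
theorem redRankLocallyConstant_of_unipotentRankZero (hu : SGA3x.UnipotentRankZero G) :
    SGA3x.RedRankLocallyConstant G := by
  intro s
  obtain ⟨r, hr⟩ := exists_isRk G (Red.geomPt s)
  obtain ⟨u, hum, humono⟩ := hr.1
  haveI := hum
  haveI := humono
  have h₀ := isMaximalTorus_of_isRk (Red.geomPt s) G hr (Basic.isSplit_DS _ _) u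
  let O := {t : S | ∃ (C' : Over (Spec (CommRingCat.of (AlgebraicClosure (S.residueField t))))) (_ : GrpObj C')
      (c' : C' ⟶ Red.geomFibre t G),
      SGA3x.IsCartanOver (AlgebraicClosure (S.residueField t)) c' ∧ topologicalKrullDim ↥C'.left ≤ (r : WithBot ℕ∞)}
  have hO : IsOpen O := ImgMT.NilRank.isOpen_nilRank_le G _
  refine ⟨⟨O ∩ Set.range (locusMap G r), hO.inter (isOpen_range G r)⟩, ⟨?_, ?_⟩, r, fun t ht => ?_⟩
  · exact ⟨_, inferInstance, u, ⟨hum, humono, _, inferInstance, u, h₀, hu s _ u h₀⟩,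
      (ImgMT.TorusDim.topologicalKrullDim_split (Basic.isSplit_DS _ _)).le⟩
  · exact ptOf_geomPt s ▸ (subAt_iff_mem G (Red.geomPt s) r).1 hr.1
  obtain ⟨⟨C', gC', c', ⟨hcm, hcmono, T', gT', i', hi', hc'⟩, hdim⟩, hrange⟩ := ht
  letI := gC'
  letI := gT'
  obtain ⟨r', hr'⟩ := exists_isRk G (Red.geomPt t)
  have hle : r ≤ r' := hr'.2 r ((subAt_iff_mem G (Red.geomPt t) r).2 ((ptOf_geomPt t).symm ▸ hrange))
  obtain ⟨e, -⟩ := SmWeil.CartanDim.exists_iso (hu t T' i' hi') hc'
  have hd : topologicalKrullDim ↥C'.left = (r' : WithBot ℕ∞) := by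
    refine ((IsHomeomorph.topologicalKrullDim_eq _ (Scheme.homeoOfIso ((Over.forget _).mapIso e)).isHomeomorph) :
      topologicalKrullDim ↥T'.left = topologicalKrullDim ↥C'.left).symm.trans ?_
    exact dim_of_isMaximalTorus (Red.geomPt t) G hr' hi'
  have hge : r' ≤ r := by exact_mod_cast hd ▸ hdim
  refine (hasRedRank_iff G t _).2 ⟨r', ?_, hr'⟩
  rw [le_antisymm hle hge]

/-- **The centre.** -/
theorem exists_centre (hconn : ∀ s : S, _root_.IsConnected (G.hom ⁻¹' {s})) (hu : SGA3x.UnipotentRankZero G) :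
    ∃ (Z : Over S) (_ : GrpObj Z) (z : Z ⟶ G), Red.IsCentre z ∧ (IsMonHom z ∧ Mono z ∧ SGA3x.IsMultTypeFT Z ∧
      Cent z ∧ ∀ (S₁ : Scheme.{u}) (t : S₁ ⟶ S) (H : Over S₁) [GrpObj H] (v : H ⟶ Red.bc t G) [IsMonHom v],
        SGA3x.IsMultTypeFT H → Cent v → ∃ w : H ⟶ Red.bc t Z, w ≫ (Over.pullback t).map z = v) := by
  obtain ⟨Z, gZ, z, h1, h2, h3, h4, h5, h6⟩ :=
    exists_redCentre G hconn (redRankLocallyConstant_of_unipotentRankZero G hu)
  refine ⟨Z, gZ, z, ⟨h1, h2, fun X g => ⟨?_, fun hg => ?_⟩⟩, h1, h2, h3, h4, h6⟩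
  · rintro ⟨r, rfl⟩ X' x a
    rw [Category.comp_id, ← Category.assoc]
    exact h4 X' (x ≫ r) a
  · have hc : Cent g := fun X' q a => by simpa using hg X' q a
    refine h5 X g ⟨hc, fun W w m T gT i hi => centralizer_self G hconn hu w i hi _ _ ?_⟩
    rw [cent_bc, BC.down_up]
    exact cent_comp m hc

end Groth.Agent.Lib.CentW
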