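import Groth.Agent.Lib.CentW.SelfCentral
import Groth.Agent.H1.Classical.CentralizerRed
import Groth.Agent.Lib.SmWeil.TorusCentConn
import Groth.Agent.Lib.SmWeil.CartanDim
import Groth.Agent.Lib.IsogLaw.TorusIff
import Groth.Agent.Lib.ActSep.UnivOpen

/-!
# A torus which is its own centraliser on one geometric fibre
-/

set_option autoImplicit false
set_option linter.unusedSectionVars false
universe u

open CategoryTheory MonoidalCategory CartesianMonoidalCategory MonObj GrpObj AlgebraicGeometry
open CategoryTheory.Limits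
open Groth.Agent.Lib.RedPts Groth.Agent.Lib.Tori Groth.Agent.H87
open Groth.Agent.Lib.ImgMT.RedRank

namespace Groth.Agent.Lib.CentW

set_option linter.style.haveILetI false

variable {S : Scheme.{u}}

/-- A monomorphism of smooth schemes which is an isomorphism on every geometric fibre is an isomorphism. -/
theorem isIso_of_geomFibres {X Y : Over S} [Smooth X.hom] [Smooth Y.hom] (a : X ⟶ Y) [Mono a]
    (h : ∀ s : S, IsIso ((Over.pullback (Red.geomPt s)).map a)) : IsIso a := by
  haveI : ∀ s : S, IsIso ((Over.pullback (S.fromSpecResidueField s)).map a).left := fun s => by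
    let k := Red.geomPt s
    haveI := h s
    have hiso : IsIso ((Over.pullback k).map a).left :=
      inferInstanceAs (IsIso ((Over.forget _).map ((Over.pullback k).map a)))
    have h1 := (Charts.fib_point_iff (MorphismProperty.isomorphisms Scheme) k a).1 hiso
    rw [show k (IsLocalRing.closedPoint (AlgebraicClosure (S.residueField s))) = s from
      S.fromSpecResidueField_apply s _] at h1
    exact h1
  haveI : Smooth a.left := (Groth.Agent.S8496.smooth_iff_fibrewise a).1.2 fun s => inferInstance
  haveI : Mono a.left := Over.mono_left_of_mono a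
  haveI : IsOpenImmersion a.left := IsOpenImmersion.of_flat_of_mono _
  have hsurj : Surjective a.left := ⟨fun z => by
    obtain ⟨z', hz'⟩ : z ∈ Set.range (pullback.fst Y.hom (S.fromSpecResidueField (Y.hom z))) := by
      rw [Scheme.Pullback.range_fst, Set.mem_preimage, Scheme.range_fromSpecResidueField]
      exact Set.mem_singleton _
    let b := ((Over.pullback (S.fromSpecResidueField (Y.hom z))).map a).left
    obtain ⟨y, hy⟩ := b.homeomorph.surjective z'
    refine ⟨pullback.fst X.hom _ y, ?_⟩
    have hsq : b ≫ pullback.fst Y.hom _ = pullback.fst X.hom _ ≫ a.left := pullback.lift_fst _ _ _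
    rw [← Scheme.Hom.comp_apply, ← hsq, Scheme.Hom.comp_apply]
    exact (congrArg (pullback.fst Y.hom _) hy).trans hz'⟩
  haveI := hsurj
  haveI : IsIso a.left :=
    isIso_of_isOpenImmersion_of_opensRange_eq_top a.left (TopologicalSpace.Opens.ext a.left.surjective.range_eq)
  haveI : IsIso ((Over.forget S).map a) := ‹IsIso a.left›
  exact isIso_of_reflects_iso a (Over.forget S)

/-- The fibre dimension of a smooth group is constant near every point. -/
theorem exists_dim_nhds_smooth (G : Over S) [GrpObj G] [Smooth G.hom] (s : S) :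
    ∃ U : Set S, U ∈ nhds s ∧ ∀ t ∈ U, topologicalKrullDim ↥(G.hom ⁻¹' {t}) = topologicalKrullDim ↥(G.hom ⁻¹' {s}) :=
  ActSep.exists_dim_nhds G s ⊤ trivial fun _ _ _ _ _ g _ _ =>
    fun V hV => (pullback.snd G.hom g).isOpenMap.image_mem_nhds hV

variable (G : Over S) [GrpObj G] [Smooth G.hom] [IsAffineHom G.hom]

/-- A centraliser of a torus in a smooth affine group is a smooth closed subgroup. -/
theorem centralizer_props {T Z : Over S} [GrpObj T] [GrpObj Z] (i : T ⟶ G) [IsMonHom i] [Mono i] (hT : Red.IsTorus T)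
    (z : Z ⟶ G) (hz : Red.IsCentralizerOf i z) : IsClosedImmersion z.left ∧ Smooth Z.hom := by
  obtain ⟨C, _, c, hC, hcl, hsm⟩ := SmWeil.exists_centralizer_torus hT i
  obtain ⟨e, he⟩ := SmWeil.CartanDim.exists_iso hz hC
  haveI := hcl
  haveI := hsm
  haveI : IsIso e.hom.left := ((Over.forget _).mapIso e).isIso_hom
  exact ⟨by rw [← he, Over.comp_left]; infer_instance, by rw [← Over.w e.hom]; infer_instance⟩

/-- Over an algebraically closed point: a torus contained in its centralizer with the same dimension is all of it. -/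
theorem isIso_point {L : Type u} [Field L] [IsAlgClosed L] {G T Z : Over (Spec (CommRingCat.of L))}
    [GrpObj G] [GrpObj T] [GrpObj Z] [Smooth G.hom] [IsAffine G.left] [ConnectedSpace G.left]
    (i : T ⟶ G) [IsMonHom i] [Mono i] (hT : Red.IsTorus T) (z : Z ⟶ G) (hz : Red.IsCentralizerOf i z)
    (f : T ⟶ Z) (hf : f ≫ z = i) (hdim : topologicalKrullDim ↥Z.left ≤ topologicalKrullDim ↥T.left) :
    IsIso f ∧ Red.IsCentralizerOf i i := by
  haveI : QuasiCompact G.hom := inferInstance
  obtain ⟨hzc, hzs, hzconn⟩ := SmWeil.connectedSpace_centralizer hT i z hz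
  haveI := hzc
  haveI := hzs
  haveI := hzconn
  haveI := hz.1
  haveI := hz.2.1
  obtain ⟨hic, -, -, -⟩ := H1.Classical.TorusPts.torus_props i hT
  haveI := hic
  haveI : IsAffine Z.left := isAffine_of_isAffineHom z.left
  haveI : IrreducibleSpace Z.left := ActSep.irreducibleSpace_of_connected Z
  haveI : IsClosedImmersion (f.left ≫ z.left) := by rw [← Over.comp_left, hf]; infer_instance
  haveI : IsClosedImmersion f.left := IsClosedImmersion.of_comp f.left z.left
  haveI : Surjective f.left := IsogLaw.surjective_of_dim_eq Z.hom f.left hdim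
  haveI : IsIso f := IsogLaw.isIso_of_closed_surjective f
  refine ⟨inferInstance, inferInstance, inferInstance, fun X g => ⟨?_, fun h => ?_⟩⟩
  · rintro ⟨w, rfl⟩
    exact (hz.2.2 X _).1 ⟨w ≫ f, by rw [Category.assoc, hf]⟩
  · obtain ⟨w, hw⟩ := (hz.2.2 X g).2 h
    exact ⟨w ≫ CategoryTheory.inv f, by rw [← hw, Category.assoc, ← hf, IsIso.inv_hom_id_assoc]⟩

/-- A torus whose centralizer is itself on the geometric fibre at `s` is so, and maximal, near `s`. -/
theorem exists_nhd_self (hconn : ∀ s : S, _root_.IsConnected (G.hom ⁻¹' {s})) {T Z : Over S} [GrpObj T] [GrpObj Z]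
    (i : T ⟶ G) [IsMonHom i] [Mono i] (hT : Red.IsTorus T) (z : Z ⟶ G) (hz : Red.IsCentralizerOf i z)
    (f : T ⟶ Z) (hf : f ≫ z = i) (s : S)
    (hs : Red.IsCentralizerOf ((Over.pullback (Red.geomPt s)).map i) ((Over.pullback (Red.geomPt s)).map i)) :
    ∃ U : S.Opens, s ∈ U ∧ ∀ (L : Type u) [Field L] [IsAlgClosed L] (k : Spec (CommRingCat.of L) ⟶ S), ptOf k ∈ U →
      IsIso ((Over.pullback k).map f) ∧
      Red.IsCentralizerOf ((Over.pullback k).map i) ((Over.pullback k).map i) := by
  obtain ⟨-, hZs⟩ := centralizer_props G i hT z hz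
  haveI := hZs
  haveI := Tori.Basic.smooth_of_isTorus hT
  obtain ⟨U₁, hU₁, hd₁⟩ := exists_dim_nhds_smooth Z s
  obtain ⟨U₂, hU₂, hd₂⟩ := exists_dim_nhds_smooth T s
  obtain ⟨U, hUsub, hUo, hsU⟩ := mem_nhds_iff.1 (Filter.inter_mem hU₁ hU₂)
  refine ⟨⟨U, hUo⟩, hsU, fun L _ _ k hk => ?_⟩
  haveI := hz.1
  haveI := hz.2.1
  have hps : ptOf (Red.geomPt s) = s := S.fromSpecResidueField_apply s _
  obtain ⟨e, -⟩ := SmWeil.CartanDim.exists_iso hs
    (Groth.Agent.H1.Classical.FieldDescent.isCentralizerOf_bc (Red.geomPt s) hz)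
  have hds : topologicalKrullDim ↥(T.hom ⁻¹' {s}) = topologicalKrullDim ↥(Z.hom ⁻¹' {s}) := by
    have h1 := IsHomeomorph.topologicalKrullDim_eq _
      (Scheme.homeoOfIso ((Over.forget _).mapIso e)).isHomeomorph
    have h2 := ImgMT.NilRank.dim_bc (C := T) (Red.geomPt s)
    have h3 := ImgMT.NilRank.dim_bc (C := Z) (Red.geomPt s)
    rw [hps] at h2 h3
    exact h2.symm.trans (h1.trans h3)
  haveI : Smooth (Red.bc k G).hom := inferInstanceAs (Smooth (pullback.snd G.hom k))
  haveI : IsAffineHom (Red.bc k G).hom :=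
    isAffineHom_isStableUnderBaseChange.of_isPullback (IsPullback.of_hasPullback G.hom k) inferInstance
  haveI : IsAffine (Red.bc k G).left := isAffine_of_isAffineHom (Red.bc k G).hom
  haveI : ConnectedSpace ↥(Red.bc k G).left :=
    @IrreducibleSpace.connectedSpace _ _ (ActSep.irreducibleSpace_geomFibre (G := G) hconn k)
  refine isIso_point ((Over.pullback k).map i) (Tori.Basic.isTorus_bc hT k) ((Over.pullback k).map z)
    (Groth.Agent.H1.Classical.FieldDescent.isCentralizerOf_bc k hz) ((Over.pullback k).map f)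
    (by rw [← Functor.map_comp, hf]) ?_
  rw [show topologicalKrullDim ↥((Over.pullback k).obj Z).left = _ from ImgMT.NilRank.dim_bc (C := Z) k,
    show topologicalKrullDim ↥((Over.pullback k).obj T).left = _ from ImgMT.NilRank.dim_bc (C := T) k,
    hd₁ _ (hUsub hk).1, hd₂ _ (hUsub hk).2, hds]

/-- Base change in two steps is natural. -/
theorem compIso_nat {S' S'' : Scheme.{u}} (c : S'' ⟶ S') (t : S' ⟶ S) {X Y : Over S} (f : X ⟶ Y) :
    (Over.pullback c).map ((Over.pullback t).map f) ≫ (compIso c t Y).hom =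
      (compIso c t X).hom ≫ (Over.pullback (c ≫ t)).map f := by
  refine BC.down_injective ?_
  rw [BC.down_map, down_compIso, ← Category.id_comp ((compIso c t X).hom), down_compIso,
    ← Category.id_comp ((Over.pullback c).map _), BC.down_map, BC.down_map, Category.assoc]

/-- From the geometric points to the restriction. -/
theorem restrict_self {T Z : Over S} [GrpObj T] [GrpObj Z] [Smooth Z.hom] (i : T ⟶ G) [IsMonHom i] [Mono i]
    (hT : Red.IsTorus T) (z : Z ⟶ G) (f : T ⟶ Z) (hf : f ≫ z = i) {W : Scheme.{u}} (w : W ⟶ S)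
    (h : ∀ (L : Type u) [Field L] [IsAlgClosed L] (k : Spec (CommRingCat.of L) ⟶ W),
      IsIso ((Over.pullback (k ≫ w)).map f) ∧
      Red.IsCentralizerOf ((Over.pullback (k ≫ w)).map i) ((Over.pullback (k ≫ w)).map i)) :
    IsIso ((Over.pullback w).map f) ∧ Red.IsMaximalTorus ((Over.pullback w).map i) := by
  haveI := Tori.Basic.smooth_of_isTorus hT
  haveI : Smooth ((Over.pullback w).obj T).hom := inferInstanceAs (Smooth (pullback.snd T.hom w))
  haveI : Smooth ((Over.pullback w).obj Z).hom := inferInstanceAs (Smooth (pullback.snd Z.hom w))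
  haveI : Mono f := mono_of_mono_fac hf
  refine ⟨isIso_of_geomFibres _ fun t => ?_, inferInstance, inferInstance, Tori.Basic.isTorus_bc hT w,
    fun t T' _ j _ _ g hT' hg => ?_⟩
  · haveI := (h _ (Red.geomPt t)).1
    have e : (Over.pullback (Red.geomPt t)).map ((Over.pullback w).map f) = (compIso (Red.geomPt t) w T).hom ≫
        (Over.pullback (Red.geomPt t ≫ w)).map f ≫ (compIso (Red.geomPt t) w Z).inv := by
      rw [← Category.assoc, Iso.eq_comp_inv, compIso_nat]
    rw [e]
    infer_instance
  · have hc : Red.IsCentralizerOf ((Over.pullback (Red.geomPt t)).map ((Over.pullback w).map i))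
        ((Over.pullback (Red.geomPt t)).map ((Over.pullback w).map i)) := by
      haveI : IsMonHom (compIso (Red.geomPt t) w G).symm.hom :=
        inferInstanceAs (IsMonHom (compIso (Red.geomPt t) w G).inv)
      have h2 := ImgMT.NilRank.isCentralizerOf_iso (h _ (Red.geomPt t)).2 (compIso (Red.geomPt t) w G).symm
      refine isCentralizerOf_self_congr (compIso (Red.geomPt t) w T) ?_ h2
      rw [← Category.assoc, ← compIso_nat, Category.assoc, Iso.symm_hom, Iso.hom_inv_id, Category.comp_id]
    exact (H1.Classical.CentralizerRed.isMaxTorus_of_self (Tori.Basic.isTorus_bc (Tori.Basic.isTorus_bc hT w) _) hc).2.2.2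
      T' j g hT' hg

end Groth.Agent.Lib.CentW
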