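import Groth.Agent.Lib.CentW.Reductive
import Groth.Agent.Lib.CentW.TorusNhd
import Groth.Agent.S4148

/-!
# Centralisers of tori inside subgroups; critical tori
-/

set_option autoImplicit false
set_option linter.unusedSectionVars false
universe u

open CategoryTheory MonoidalCategory CartesianMonoidalCategory MonObj GrpObj AlgebraicGeometry
open CategoryTheory.Limits

namespace Groth.Agent.Lib.CentW

set_option linter.style.haveILetI false

variable {S : Scheme.{u}}

/-- A maximal torus of a group of multiplicative type contains every subtorus. -/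
theorem exists_fac_multType {M R Q : Over S} [GrpObj M] [GrpObj R] [GrpObj Q] (hM : SGA3x.IsMultTypeFT M)
    {r : R ⟶ M} (hr : Red.IsMaximalTorus r) (q : Q ⟶ M) [IsMonHom q] [Mono q] (hQ : Red.IsTorus Q) :
    ∃ f : Q ⟶ R, f ≫ r = q := by
  obtain ⟨T, _, i, hi, hle⟩ := Groth.Agent.S4148.result S M hM
  haveI := hr.1
  haveI := hr.2.1
  haveI := hi.1
  haveI := hi.2.1
  obtain ⟨a, ha⟩ := hle R r hr.2.2.1
  obtain ⟨b, hb⟩ := hle Q q hQ
  haveI : Mono a := mono_of_mono_fac ha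
  haveI : Smooth R.hom := Tori.Basic.smooth_of_isTorus hr.2.2.1
  haveI : Smooth T.hom := Tori.Basic.smooth_of_isTorus hi.2.2.1
  haveI : IsIso a := isIso_of_geomFibres a fun s => by
    haveI : IsMonHom ((Over.pullback (Red.geomPt s)).map i) := inferInstance
    haveI : Mono ((Over.pullback (Red.geomPt s)).map i) := inferInstance
    exact hr.2.2.2 s _ ((Over.pullback (Red.geomPt s)).map i) ((Over.pullback (Red.geomPt s)).map a)
      (Tori.Basic.isTorus_bc hi.2.2.1 _) (by rw [← Functor.map_comp, ha])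
  exact ⟨b ≫ CategoryTheory.inv a, by rw [← ha, Category.assoc, IsIso.inv_hom_id_assoc, hb]⟩

/-- The centraliser of a torus is the centraliser of the maximal torus of its centre. -/
theorem centralizer_critical {G Q Z ZZ R : Over S} [GrpObj G] [GrpObj Q] [GrpObj Z] [GrpObj ZZ] [GrpObj R]
    (hG : Red.IsReductive G) (q : Q ⟶ G) [IsMonHom q] [Mono q] (hQ : Red.IsTorus Q) (z : Z ⟶ G)
    (hZ : Red.IsCentralizerOf q z) (jz : ZZ ⟶ Z) (hZZ : Red.IsCentre jz) (r : R ⟶ ZZ) (hR : Red.IsMaximalTorus r) :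
    (∃ q' : Q ⟶ R, q' ≫ r ≫ jz ≫ z = q) ∧ Red.IsCentralizerOf (r ≫ jz ≫ z) z := by
  haveI := hZ.1
  haveI := hZ.2.1
  haveI := hZZ.1
  haveI := hZZ.2.1
  haveI := hR.1
  haveI := hR.2.1
  haveI := hG.1
  haveI := hG.2.1
  obtain ⟨Z₁, _, z₁, hz₁, -, hZ₁red⟩ := exists_centralizer_typeR hG q hQ
  obtain ⟨eZ, heZ⟩ := SmWeil.CartanDim.exists_iso hZ hz₁
  haveI := hz₁.1
  haveI := hz₁.2.1
  haveI : IsMonHom (eZ.hom ≫ z₁) := heZ.symm ▸ inferInstance
  haveI : IsMonHom eZ.hom := SmWeil.MaxTorusBC.isMonHom_of_mono_comp eZ.hom z₁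
  -- the centre of the reductive copy
  obtain ⟨M, _, m, hm, -, hM⟩ := exists_centre_closed hZ₁red
  haveI := hm.1
  haveI := hm.2.1
  have hjz' : Red.IsCentre (jz ≫ eZ.hom) := by
    have h := ImgMT.NilRank.isCentralizerOf_iso hZZ eZ
    refine ⟨h.1, h.2.1, fun X g => ?_⟩
    refine (h.2.2 X g).trans ⟨fun hg X' x a => ?_, fun hg X' x a => ?_⟩
    · simpa using hg X' x (a ≫ eZ.inv)
    · simpa using hg X' x (a ≫ eZ.hom)
  obtain ⟨e, he⟩ := SmWeil.CartanDim.exists_iso hjz' hm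
  haveI : IsMonHom (e.hom ≫ m) := he.symm ▸ inferInstance
  haveI : IsMonHom e.hom := SmWeil.MaxTorusBC.isMonHom_of_mono_comp e.hom m
  have hR' := isMaximalTorus_iso hR e
  -- `Q` in the centre
  obtain ⟨q₁, hq₁⟩ := (hz₁.2.2 Q q).2 fun X' x h => by
    rw [← MonObj.mul_comp, ← MonObj.mul_comp, Tori.Comm.mul_comm_of_isTorus hQ]
  haveI : IsMonHom (q₁ ≫ z₁) := hq₁.symm ▸ inferInstance
  haveI : IsMonHom q₁ := SmWeil.MaxTorusBC.isMonHom_of_mono_comp q₁ z₁
  haveI : Mono q₁ := mono_of_mono_fac hq₁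
  obtain ⟨q₂, hq₂⟩ := (hm.2.2 Q q₁).2 fun X' x h => by
    have h1 := (hz₁.2.2 X' (h ≫ z₁)).1 ⟨h, rfl⟩ X' (𝟙 X') x
    rw [Category.id_comp] at h1
    rw [Category.comp_id, ← cancel_mono z₁, MonObj.mul_comp, MonObj.mul_comp, Category.assoc, hq₁]
    exact h1.symm
  haveI : IsMonHom (q₂ ≫ m) := hq₂.symm ▸ inferInstance
  haveI : IsMonHom q₂ := SmWeil.MaxTorusBC.isMonHom_of_mono_comp q₂ m
  haveI : Mono q₂ := mono_of_mono_fac hq₂
  obtain ⟨f, hf⟩ := exists_fac_multType hM hR' q₂ hQ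
  have hfac : f ≫ r ≫ jz ≫ z = q := by
    rw [← heZ, ← Category.assoc jz, ← he]
    simp only [Category.assoc] at hf ⊢
    rw [reassoc_of% hf, reassoc_of% hq₂, hq₁]
  refine ⟨⟨f, hfac⟩, inferInstance, inferInstance, fun X g => ⟨?_, fun hg => (hZ.2.2 X g).2 fun X' x h => ?_⟩⟩
  · rintro ⟨w, rfl⟩ X' x h
    have h1 := (hZZ.2.2 ZZ jz).1 ⟨𝟙 ZZ, Category.id_comp jz⟩ X' (h ≫ r) (x ≫ w)
    rw [Category.comp_id] at h1
    have h2 := congrArg (· ≫ z) h1
    simp only [MonObj.mul_comp, Category.assoc] at h2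
    exact h2.symm
  · rw [← hfac, ← Category.assoc h]
    exact hg X' x (h ≫ f)

/-- Type (R) subgroups meet centralisers of tori in type (R) subgroups. -/
theorem isTypeR_inter_centralizer {G T Q Z H : Over S} [GrpObj G] [GrpObj T] [GrpObj Q] [GrpObj Z] [GrpObj H]
    (hG : Red.IsReductive G) (i : T ⟶ G) (hT : Red.IsMaximalTorus i) (q : Q ⟶ T) [IsMonHom q] [Mono q] (hQ : Red.IsTorus Q) (z : Z ⟶ G)
    (hZ : Red.IsCentralizerOf (q ≫ i) z) (h : H ⟶ G) (hH : RedSub.IsTypeR h) (t : T ⟶ H) (ht : t ≫ h = i)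
    (P : Over S) [GrpObj P] (a : P ⟶ H) (b : P ⟶ Z) [IsMonHom a] [IsMonHom b] (hP : IsPullback a b h z) :
    RedSub.IsTypeR b := by
  obtain ⟨⟨hhm, hhi⟩, hHs, hHq, hHc, -⟩ := hH
  haveI := hhm
  haveI := hG.1
  haveI := hG.2.1
  haveI := hhi
  haveI := hHs
  haveI := hHq
  haveI := hT.1
  haveI := hT.2.1
  haveI := hZ.1
  haveI := hZ.2.1
  haveI : Mono h := GrpQ.mono_of_left h
  haveI : IsMonHom (t ≫ h) := ht.symm ▸ inferInstance
  haveI : IsMonHom t := SmWeil.MaxTorusBC.isMonHom_of_mono_comp t h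
  haveI : Mono t := mono_of_mono_fac ht
  haveI : Mono a := hP.mono_fst_of_mono
  haveI : Mono b := hP.mono_snd_of_mono
  have hPc : Red.IsCentralizerOf (q ≫ t) a := by
    refine ⟨inferInstance, inferInstance, fun X g => ⟨?_, fun hg => ?_⟩⟩
    · rintro ⟨w, rfl⟩ X' x u
      rw [← cancel_mono h, MonObj.mul_comp, MonObj.mul_comp]
      have h1 := (hZ.2.2 X ((w ≫ b) ≫ z)).1 ⟨_, rfl⟩ X' x u
      simpa only [Category.assoc, hP.w, ht] using h1
    · obtain ⟨v, hv⟩ := (hZ.2.2 X (g ≫ h)).2 fun X' x u => by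
        have h1 := congrArg (· ≫ h) (hg X' x u)
        simpa only [MonObj.mul_comp, Category.assoc, ht] using h1
      exact ⟨hP.lift g v hv.symm, hP.lift_fst _ _ _⟩
  obtain ⟨C, _, c, hC, hCc, hCs⟩ := SmWeil.exists_centralizer_torus hQ (q ≫ t)
  obtain ⟨e, he⟩ := SmWeil.CartanDim.exists_iso hPc hC
  haveI := hCc
  haveI := hCs
  haveI : IsIso e.hom.left := ((Over.forget _).mapIso e).isIso_hom
  haveI : IsClosedImmersion a.left := by rw [← he, Over.comp_left]; infer_instance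
  haveI : Smooth P.hom := by rw [← Over.w e.hom]; infer_instance
  haveI : QuasiCompact P.hom := by rw [← Over.w a]; infer_instance
  have hP' := hP.map (Over.forget S)
  haveI : IsImmersion b.left := MorphismProperty.of_isPullback (P := @IsImmersion) hP' hhi
  refine ⟨⟨inferInstance, inferInstance⟩, inferInstance, inferInstance, fun s => ?_, fun s => ?_⟩
  · refine isConnected_fibre_of_geom P s ?_
    let k := Red.geomPt s
    haveI : Smooth ((Over.pullback k).obj H).hom := inferInstanceAs (Smooth (pullback.snd H.hom k))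
    haveI : QuasiCompact ((Over.pullback k).obj H).hom := inferInstanceAs (QuasiCompact (pullback.snd H.hom k))
    haveI : ConnectedSpace ↥((Over.pullback k).obj H).left :=
      @IrreducibleSpace.connectedSpace _ _ (ActSep.irreducibleSpace_geomFibre (G := H) hHc k)
    exact (SmWeil.connectedSpace_centralizer (Tori.Basic.isTorus_bc hQ k) ((Over.pullback k).map (q ≫ t))
      ((Over.pullback k).map a) (H1.Classical.FieldDescent.isCentralizerOf_bc k hPc)).2.2
  · obtain ⟨v, hv⟩ := (hZ.2.2 T i).2 fun X' x u => by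
      rw [← Category.assoc u, ← MonObj.mul_comp, ← MonObj.mul_comp, Tori.Comm.mul_comm_of_isTorus hT.2.2.1]
    let l := hP.lift t v (by rw [ht, hv])
    haveI : IsMonHom (l ≫ a) := by rw [hP.lift_fst]; infer_instance
    haveI : IsMonHom l := SmWeil.MaxTorusBC.isMonHom_of_mono_comp l a
    refine ⟨_, inferInstance, (Over.pullback (Red.geomPt s)).map l, inferInstance, ?_⟩
    rw [← Functor.map_comp, hP.lift_snd]
    have hi := SmWeil.MaxTorusBC.isMaximalTorus_bc i hT (Red.geomPt s)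
    haveI : IsMonHom (v ≫ z) := hv.symm ▸ inferInstance
    haveI : IsMonHom v := SmWeil.MaxTorusBC.isMonHom_of_mono_comp v z
    haveI : Mono v := mono_of_mono_fac hv
    refine SmWeil.isMaximalTorus_of_maximal _ hi.2.2.1 fun T'' _ j _ _ f hT'' hf => ?_
    exact SmWeil.maximal_of_isMaximalTorus hi (j ≫ (Over.pullback (Red.geomPt s)).map z) f hT''
      (by rw [reassoc_of% hf, ← Functor.map_comp, hv])

end Groth.Agent.Lib.CentW
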