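import Groth.Agent.Lib.CentW.Reductive
import Groth.Agent.Lib.SmWeil.TorusConjEtale
import Groth.Agent.Lib.SmWeil.CartanTorus

/-!
# Transitivity of type (R)
-/

set_option autoImplicit false
set_option linter.unusedSectionVars false
universe u

open CategoryTheory MonoidalCategory CartesianMonoidalCategory MonObj GrpObj AlgebraicGeometry
open CategoryTheory.Limits

namespace Groth.Agent.Lib.CentW

set_option linter.style.haveILetI false

/-- A maximal torus of a subgroup containing a maximal torus of the group is maximal in the group. -/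
theorem isMaximalTorus_comp_sub {K : Type u} [Field K] [IsAlgClosed K] {G H T T' : Over (Spec (CommRingCat.of K))}
    [GrpObj G] [GrpObj H] [GrpObj T] [GrpObj T'] [Smooth H.hom] [QuasiCompact H.hom] (e : H ⟶ G) [IsMonHom e] [Mono e]
    {t : T ⟶ H} (ht : Red.IsMaximalTorus t) {t' : T' ⟶ H} (ht' : Red.IsMaximalTorus (t' ≫ e)) [IsMonHom t'] :
    Red.IsMaximalTorus (t ≫ e) := by
  haveI := ht.1
  haveI := ht.2.1
  haveI := ht'.2.1
  haveI : Mono t' := mono_of_mono t' e
  have hmax' : Red.IsMaximalTorus t' := SmWeil.isMaximalTorus_of_maximal t' ht'.2.2.1 fun T'' _ j _ _ f hT'' hf => by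
    haveI : IsMonHom (j ≫ e) := inferInstance
    haveI : Mono (j ≫ e) := mono_comp _ _
    exact SmWeil.maximal_of_isMaximalTorus ht' (j ≫ e) f hT'' (by rw [reassoc_of% hf])
  obtain ⟨g, φ, hφ⟩ := SmWeil.exists_conjBy ht hmax'
  have hφ' : (toUnit T ≫ g ≫ e) * (t ≫ e) * (toUnit T ≫ g ≫ e)⁻¹ = φ.hom ≫ t' ≫ e := by
    have h := congrArg (· ≫ e) hφ
    simpa only [MonObj.mul_comp, GrpObj.inv_comp, Category.assoc] using h
  haveI : IsMonHom (t ≫ e) := inferInstance
  haveI : Mono (t ≫ e) := mono_comp _ _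
  refine SmWeil.isMaximalTorus_of_maximal (t ≫ e) ht.2.2.1 fun T'' _ j _ _ f hT'' hf => ?_
  let c := SmWeil.CartanTorus.conjIso (G := G) (g ≫ e)
  haveI : IsMonHom c.hom := SmWeil.CartanTorus.isMonHom_conjIso (g ≫ e)
  haveI : Mono c.hom := @IsIso.mono_of_iso _ _ _ _ _ (Iso.isIso_hom _)
  haveI : IsMonHom (j ≫ c.hom) := inferInstance
  haveI : Mono (j ≫ c.hom) := mono_comp _ _
  have h := SmWeil.maximal_of_isMaximalTorus ht' (j ≫ c.hom) (φ.inv ≫ f) hT'' (by
    rw [Category.assoc, reassoc_of% hf, Iso.inv_comp_eq, ← hφ', ← Category.assoc,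
      SmWeil.CartanTorus.comp_conjIso])
  haveI := h
  exact IsIso.of_isIso_comp_left φ.inv f

variable {S : Scheme.{u}} {G H K : Over S} [GrpObj G] [GrpObj H] [GrpObj K]

/-- Transitivity of type (R). -/
theorem isTypeR_trans_iff (i : H ⟶ G) (hH : RedSub.IsTypeR i) (k : K ⟶ H) [IsMonHom k] :
    RedSub.IsTypeR k ↔ RedSub.IsTypeR (k ≫ i) := by
  obtain ⟨⟨him, hii⟩, hHs, hHq, -, hHt⟩ := hH
  haveI := him
  haveI := hii
  haveI := hHs
  haveI := hHq
  haveI : Mono i := GrpQ.mono_of_left i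
  constructor
  · rintro ⟨⟨-, hki⟩, hs, hq, hc, ht⟩
    haveI := hki
    refine ⟨⟨inferInstance, by rw [Over.comp_left]; infer_instance⟩, hs, hq, hc, fun s => ?_⟩
    obtain ⟨T, _, t, htm, htmax⟩ := ht s
    obtain ⟨T', _, t', ht'm, ht'max⟩ := hHt s
    haveI := htm
    haveI := ht'm
    haveI : Smooth ((Over.pullback (Red.geomPt s)).obj H).hom := inferInstanceAs (Smooth (pullback.snd H.hom _))
    haveI : QuasiCompact ((Over.pullback (Red.geomPt s)).obj H).hom :=
      inferInstanceAs (QuasiCompact (pullback.snd H.hom _))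
    refine ⟨T, inferInstance, t, htm, ?_⟩
    rw [Functor.map_comp, ← Category.assoc]
    exact isMaximalTorus_comp_sub ((Over.pullback (Red.geomPt s)).map i) htmax ht'max
  · rintro ⟨⟨-, hki⟩, hs, hq, hc, ht⟩
    haveI : IsImmersion (k.left ≫ i.left) := by rw [← Over.comp_left]; exact hki
    refine ⟨⟨inferInstance, IsImmersion.of_comp k.left i.left⟩, hs, hq, hc, fun s => ?_⟩
    obtain ⟨T, _, t, htm, htmax⟩ := ht s
    haveI := htm
    refine ⟨T, inferInstance, t, htm, ?_⟩
    rw [Functor.map_comp, ← Category.assoc] at htmax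
    haveI := htmax.2.1
    haveI : Mono (t ≫ (Over.pullback (Red.geomPt s)).map k) :=
      mono_of_mono _ ((Over.pullback (Red.geomPt s)).map i)
    refine SmWeil.isMaximalTorus_of_maximal _ htmax.2.2.1 fun T'' _ j _ _ f hT'' hf => ?_
    haveI : Mono (j ≫ (Over.pullback (Red.geomPt s)).map i) := mono_comp _ _
    exact SmWeil.maximal_of_isMaximalTorus htmax (j ≫ (Over.pullback (Red.geomPt s)).map i) f hT''
      (by rw [reassoc_of% hf, Category.assoc])

end Groth.Agent.Lib.CentW
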