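import Groth.Agent.Lib.CentW.Critical
import Groth.Agent.Lib.ImgMT.CommTorus
import Groth.Agent.S8398
import Groth.Agent.Lib.CentW.TypeR

/-!
# Radicals of reductive subgroups of type (R)
-/

set_option autoImplicit false
set_option linter.unusedSectionVars false
universe u

open CategoryTheory MonoidalCategory CartesianMonoidalCategory MonObj GrpObj AlgebraicGeometry
open CategoryTheory.Limits
open Groth.Agent.Lib.RedPts Groth.Agent.Lib.Tori Groth.Agent.H87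
open Groth.Agent.Lib.ImgMT.RedRank

namespace Groth.Agent.Lib.CentW

set_option linter.style.haveILetI false

variable {S : Scheme.{u}}

/-- A subgroup of type (R) has the reductive rank of the group. -/
theorem isRk_of_typeR {H G : Over S} [GrpObj H] [GrpObj G] [Smooth H.hom] [IsAffineHom H.hom] [Smooth G.hom]
    [IsAffineHom G.hom] (k : H ⟶ G) [IsMonHom k] [Mono k] (hk : RedSub.IsTypeR k) {L : Type u} [Field L]
    [IsAlgClosed L] (p : Spec (CommRingCat.of L) ⟶ S) {r : ℕ} (h : IsRk H p r) : IsRk G p r := by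
  rw [isRk_iff_geom] at h ⊢
  set s := ptOf p
  obtain ⟨r', hr'⟩ := exists_isRk G (Red.geomPt s)
  obtain ⟨u, hum, humono⟩ := hr'.1
  haveI := hum
  haveI := humono
  have hu := isMaximalTorus_of_isRk (Red.geomPt s) G hr' (Basic.isSplit_DS _ _) u
  obtain ⟨T, _, t, htm, ht⟩ := hk.2.2.2.2 s
  haveI := htm
  haveI : Smooth (Red.geomFibre s G).hom := inferInstanceAs (Smooth (pullback.snd G.hom _))
  haveI : IsAffineHom (Red.geomFibre s G).hom :=
    isAffineHom_isStableUnderBaseChange.of_isPullback (IsPullback.of_hasPullback G.hom _) inferInstance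
  haveI : QuasiCompact (Red.geomFibre s G).hom := inferInstance
  obtain ⟨g, φ, hφ⟩ := SmWeil.exists_conjBy hu ht
  rw [← SmWeil.CartanTorus.comp_conjIso] at hφ
  haveI := SmWeil.CartanTorus.isMonHom_conjIso g
  haveI : Mono (SmWeil.CartanTorus.conjIso g).hom := @IsIso.mono_of_iso _ _ _ _ _ (Iso.isIso_hom _)
  let v : Red.DS _ (Fin r' → ℤ) ⟶ Red.geomFibre s H := φ.hom ≫ t
  have hv : v ≫ (Over.pullback (Red.geomPt s)).map k = u ≫ (SmWeil.CartanTorus.conjIso g).hom := by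
    rw [Category.assoc, hφ]
  haveI : IsMonHom (v ≫ (Over.pullback (Red.geomPt s)).map k) := hv.symm ▸ inferInstance
  haveI : IsMonHom v := SmWeil.MaxTorusBC.isMonHom_of_mono_comp v ((Over.pullback (Red.geomPt s)).map k)
  haveI : Mono (v ≫ (Over.pullback (Red.geomPt s)).map k) := by rw [hv]; exact mono_comp _ _
  haveI : Mono v := mono_of_mono v ((Over.pullback (Red.geomPt s)).map k)
  have h1 : r' ≤ r := h.2 r' ⟨v, inferInstance, inferInstance⟩
  have h2 : r ≤ r' := hr'.2 r (subAt_mono_hom k h.1)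
  rwa [le_antisymm h2 h1]

/-- **A central torus lies in every reductive subgroup of type (R).** -/
theorem exists_fac_central {G H R : Over S} [GrpObj G] [GrpObj H] [GrpObj R] (hG : Red.IsReductive G)
    (hH : Red.IsReductive H) (k : H ⟶ G) [IsMonHom k] [Mono k] (hk : RedSub.IsTypeR k) (u : R ⟶ G) [IsMonHom u]
    [Mono u] (hR : Red.IsTorus R) (hu : Cent u) : ∃ w : R ⟶ H, w ≫ k = u := by
  haveI := hG.1
  haveI := hG.2.1
  haveI := hH.1
  haveI := hH.2.1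
  obtain ⟨S', f, hf, hfs, T, _, i, hi⟩ := ImgMT.EtTorus.etLocal_of_rankConst H
    (redRankLocallyConstant_of_unipotentRankZero H (unipotentRankZero_of_reductive hH))
  haveI := hf
  haveI := hfs
  haveI := hi.1
  haveI := hi.2.1
  haveI : Smooth (Red.bc f G).hom := inferInstanceAs (Smooth (pullback.snd G.hom f))
  haveI : IsAffineHom (Red.bc f G).hom :=
    isAffineHom_isStableUnderBaseChange.of_isPullback (IsPullback.of_hasPullback G.hom f) inferInstance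
  haveI : Smooth (Red.bc f H).hom := inferInstanceAs (Smooth (pullback.snd H.hom f))
  haveI : IsAffineHom (Red.bc f H).hom :=
    isAffineHom_isStableUnderBaseChange.of_isPullback (IsPullback.of_hasPullback H.hom f) inferInstance
  haveI : Mono (i ≫ (Over.pullback f).map k) := mono_comp _ _
  have hiG : Red.IsMaximalTorus (i ≫ (Over.pullback f).map k) :=
    (isMaximalTorus_iff_all _ hi.2.2.1).2 fun L _ _ p r hr =>
      (isRk_comp_iff f G p r).2 (isRk_of_typeR k hk (p ≫ f) ((isRk_comp_iff f H p r).1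
        ((isMaximalTorus_iff_all i hi.2.2.1).1 hi L p r hr)))
  obtain ⟨w, hw⟩ := Groth.Agent.S8398.result S' (Red.bc f G)
    (fun s' => isConnected_fibre_bc G (isConnected_fibre_of_reductive hG) f s') T _ hiG (Red.bc f R)
    (GmFibre.isMultTypeFT_of_isTorus (Basic.isTorus_bc hR f)) ((Over.pullback f).map u)
    fun X x g => by
      have hc : Cent ((Over.pullback f).map u) := by
        rw [cent_bc, ← Category.id_comp ((Over.pullback f).map u), BC.down_map]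
        exact cent_comp _ hu
      exact hc X x g
  have hsq := (IsPullback.of_hasPullback k u).map (Over.pullback f)
  haveI : Mono (pullback.snd k u) := inferInstance
  haveI : Mono ((Over.pullback f).map (pullback.snd k u)) := inferInstance
  haveI : IsSplitEpi ((Over.pullback f).map (pullback.snd k u)) :=
    ⟨⟨hsq.lift (w ≫ i) (𝟙 _) (by rw [Category.assoc, hw, Category.id_comp]), hsq.lift_snd _ _ _⟩⟩
  haveI : IsIso ((Over.pullback f).map (pullback.snd k u)) := isIso_of_mono_of_isSplitEpi _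
  have h1 : Charts.Fib (MorphismProperty.isomorphisms Scheme) f (pullback.snd k u) :=
    inferInstanceAs (IsIso ((Over.forget _).map ((Over.pullback f).map (pullback.snd k u))))
  have hc : Basic.IsQCCover f := ImgMT.CommTorus.isQCCover_of_isOpenMap f f.isOpenMap
  have h2 : Charts.Fib (MorphismProperty.isomorphisms Scheme) (𝟙 S) (pullback.snd k u) :=
    Charts.fib_of_cover _ fun x => by
      obtain ⟨O, hO, hxO, -⟩ := exists_isAffineOpen_mem_and_subset (X := S) (x := x) (U := ⊤) trivial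
      obtain ⟨W, hle, hqc, hsj⟩ := MT.exists_qc_res f hc hO
      refine ⟨O, hxO, Charts.fib_descend _ (f.resLE O W hle) ?_⟩
      refine Charts.fib_congr _ ?_ _ (Charts.fib_base _ W.ι h1)
      simp
  haveI : IsIso (pullback.snd k u).left :=
    (Charts.iff_natIso (MorphismProperty.isomorphisms Scheme) Over.pullbackId (pullback.snd k u)).mp h2
  haveI : IsIso ((Over.forget S).map (pullback.snd k u)) := ‹IsIso (pullback.snd k u).left›
  haveI : IsIso (pullback.snd k u) := isIso_of_reflects_iso _ (Over.forget S)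
  exact ⟨CategoryTheory.inv (pullback.snd k u) ≫ pullback.fst k u,
    by rw [Category.assoc, pullback.condition, IsIso.inv_hom_id_assoc]⟩

variable {G : Over S} [GrpObj G]

/-- A central torus lies in the maximal torus of the centre. -/
theorem exists_fac_radical (hG : Red.IsReductive G) {Z R Q : Over S} [GrpObj Z] [GrpObj R] [GrpObj Q] {j : Z ⟶ G}
    (hZ : Red.IsCentre j) {r : R ⟶ Z} (hR : Red.IsMaximalTorus r) (q : Q ⟶ G) [IsMonHom q] [Mono q]
    (hQ : Red.IsTorus Q) (hq : Cent q) : ∃ f : Q ⟶ R, f ≫ r ≫ j = q := by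
  obtain ⟨M, _, m, hm, -, hM⟩ := exists_centre_closed hG
  haveI := hm.1
  haveI := hm.2.1
  haveI := hZ.1
  haveI := hZ.2.1
  obtain ⟨e, he⟩ := SmWeil.CartanDim.exists_iso hZ hm
  haveI : IsMonHom (e.hom ≫ m) := he.symm ▸ inferInstance
  haveI : IsMonHom e.hom := SmWeil.MaxTorusBC.isMonHom_of_mono_comp e.hom m
  obtain ⟨q₁, hq₁⟩ := (hm.2.2 Q q).2 fun X' x h => by simpa using hq X' x h
  haveI : IsMonHom (q₁ ≫ m) := hq₁.symm ▸ inferInstance
  haveI : IsMonHom q₁ := SmWeil.MaxTorusBC.isMonHom_of_mono_comp q₁ m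
  haveI : Mono q₁ := mono_of_mono_fac hq₁
  obtain ⟨f, hf⟩ := exists_fac_multType hM (isMaximalTorus_iso hR e) q₁ hQ
  exact ⟨f, by rw [← he, ← hq₁, ← hf]; simp only [Category.assoc]⟩

/-- The radical is central. -/
theorem cent_radical {Z R : Over S} [GrpObj Z] [GrpObj R] {j : Z ⟶ G} (hZ : Red.IsCentre j) (r : R ⟶ Z) :
    Cent (r ≫ j) := fun X' x g => by
  have h := (hZ.2.2 R (r ≫ j)).1 ⟨r, rfl⟩ X' x g
  simpa using h

/-- Radicals of reductive subgroups of type (R) decrease. -/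
theorem radical_antitone (hG : Red.IsReductive G) {H H' ZH ZH' R R' : Over S} [GrpObj H] [GrpObj H'] [GrpObj ZH]
    [GrpObj ZH'] [GrpObj R] [GrpObj R'] (i : H ⟶ G) (hi : RedSub.IsTypeR i) (hH : Red.IsReductive H)
    (i' : H' ⟶ G) (hi' : RedSub.IsTypeR i') (hH' : Red.IsReductive H') (k : H ⟶ H') (hk : k ≫ i' = i)
    (jz : ZH ⟶ H) (hZH : Red.IsCentre jz) (r : R ⟶ ZH) (hR : Red.IsMaximalTorus r)
    (jz' : ZH' ⟶ H') (hZH' : Red.IsCentre jz') (r' : R' ⟶ ZH') (hR' : Red.IsMaximalTorus r') :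
    ∃ m : R' ⟶ R, m ≫ r ≫ jz ≫ i = r' ≫ jz' ≫ i' := by
  haveI := hi.1.1
  haveI := hi.1.2
  haveI := hi'.1.1
  haveI := hi'.1.2
  haveI : Mono i := GrpQ.mono_of_left i
  haveI : Mono i' := GrpQ.mono_of_left i'
  haveI : IsMonHom (k ≫ i') := hk.symm ▸ inferInstance
  haveI : IsMonHom k := SmWeil.MaxTorusBC.isMonHom_of_mono_comp k i'
  haveI : Mono k := mono_of_mono_fac hk
  haveI := hZH'.1
  haveI := hZH'.2.1
  haveI := hR'.1
  haveI := hR'.2.1
  have hkR : RedSub.IsTypeR k := (isTypeR_trans_iff i' hi' k).2 (hk.symm ▸ hi)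
  haveI : Mono (r' ≫ jz') := mono_comp _ _
  have hc := cent_radical hZH' r'
  obtain ⟨w, hw⟩ := exists_fac_central hH' hH k hkR (r' ≫ jz') hR'.2.2.1 hc
  haveI : IsMonHom (w ≫ k) := hw.symm ▸ inferInstance
  haveI : IsMonHom w := SmWeil.MaxTorusBC.isMonHom_of_mono_comp w k
  haveI : Mono w := mono_of_mono_fac hw
  obtain ⟨m, hm⟩ := exists_fac_radical hH hZH hR w hR'.2.2.1 fun X' x g => by
    rw [← cancel_mono k, MonObj.mul_comp, MonObj.mul_comp, Category.assoc, hw]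
    exact hc X' x (g ≫ k)
  exact ⟨m, by
    have h1 := hw
    rw [← hm] at h1
    have h2 := congrArg (· ≫ i') h1
    simpa only [Category.assoc, hk] using h2⟩

/-- The radical of the centraliser of the radical. -/
theorem radical_C_critical (hG : Red.IsReductive G) {H ZH R Z ZZ RZ : Over S} [GrpObj H] [GrpObj ZH] [GrpObj R]
    [GrpObj Z] [GrpObj ZZ] [GrpObj RZ] (i : H ⟶ G) (hi : RedSub.IsTypeR i) (hH : Red.IsReductive H)
    (jz : ZH ⟶ H) (hZH : Red.IsCentre jz) (r : R ⟶ ZH) (hR : Red.IsMaximalTorus r)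
    (z : Z ⟶ G) (hZ : Red.IsCentralizerOf (r ≫ jz ≫ i) z)
    (jzz : ZZ ⟶ Z) (hZZ : Red.IsCentre jzz) (rz : RZ ⟶ ZZ) (hRZ : Red.IsMaximalTorus rz) :
    (∃ k : H ⟶ Z, k ≫ z = i) ∧ ∃ e : R ≅ RZ, e.hom ≫ rz ≫ jzz ≫ z = r ≫ jz ≫ i := by
  haveI := hi.1.1
  haveI := hi.1.2
  haveI : Mono i := GrpQ.mono_of_left i
  haveI := hZH.1
  haveI := hZH.2.1
  haveI := hR.1
  haveI := hR.2.1
  haveI := hZ.1
  haveI := hZ.2.1
  haveI := hZZ.1
  haveI := hZZ.2.1
  haveI := hRZ.1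
  haveI := hRZ.2.1
  haveI : Mono (r ≫ jz ≫ i) := mono_comp _ _
  haveI : Mono (rz ≫ jzz ≫ z) := mono_comp _ _
  obtain ⟨Z₁, _, z₁, hz₁, hz₁R, hz₁red⟩ := exists_centralizer_typeR hG (r ≫ jz ≫ i) hR.2.2.1
  obtain ⟨eZ, heZ⟩ := SmWeil.CartanDim.exists_iso hZ hz₁
  obtain ⟨k, hk⟩ := (hZ.2.2 H i).2 fun X' x h => by
    have h1 := congrArg (· ≫ i) (cent_radical hZH r X' h x)
    simpa only [MonObj.mul_comp, Category.assoc] using h1.symm
  refine ⟨⟨k, hk⟩, ?_⟩
  haveI := hz₁.1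
  haveI := hz₁.2.1
  haveI : IsMonHom (eZ.hom ≫ z₁) := heZ.symm ▸ inferInstance
  haveI : IsMonHom eZ.hom := SmWeil.MaxTorusBC.isMonHom_of_mono_comp eZ.hom z₁
  -- the centre of the copy
  obtain ⟨M, _, mc, hmc, -, hM⟩ := exists_centre_closed hz₁red
  haveI := hmc.1
  haveI := hmc.2.1
  have hjz' : Red.IsCentre (jzz ≫ eZ.hom) := by
    have h := ImgMT.NilRank.isCentralizerOf_iso hZZ eZ
    refine ⟨h.1, h.2.1, fun X g => (h.2.2 X g).trans ⟨fun hg X' x a => ?_, fun hg X' x a => ?_⟩⟩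
    · simpa using hg X' x (a ≫ eZ.inv)
    · simpa using hg X' x (a ≫ eZ.hom)
  -- `R ≤ RZ`
  obtain ⟨c, hc⟩ := (hz₁.2.2 R (r ≫ jz ≫ i)).2 fun X' x h => by
    rw [← MonObj.mul_comp, ← MonObj.mul_comp, Comm.mul_comm_of_isTorus hR.2.2.1]
  haveI : IsMonHom (c ≫ z₁) := hc.symm ▸ inferInstance
  haveI : IsMonHom c := SmWeil.MaxTorusBC.isMonHom_of_mono_comp c z₁
  haveI : Mono c := mono_of_mono_fac hc
  obtain ⟨a, ha⟩ := exists_fac_radical hz₁red hjz' hRZ c hR.2.2.1 fun X' x g => by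
    rw [← cancel_mono z₁, MonObj.mul_comp, MonObj.mul_comp, Category.assoc, hc]
    have h1 := (hz₁.2.2 X' (g ≫ z₁)).1 ⟨g, rfl⟩ X' (𝟙 X') x
    rw [Category.id_comp] at h1
    exact h1.symm
  -- `RZ ≤ R`
  obtain ⟨b, hb⟩ := radical_antitone hG i hi hH z₁ hz₁R hz₁red (k ≫ eZ.hom) (by rw [Category.assoc, heZ, hk])
    jz hZH r hR (jzz ≫ eZ.hom) hjz' rz hRZ
  have ha' : a ≫ rz ≫ jzz ≫ z = r ≫ jz ≫ i := by
    rw [← heZ, ← hc, ← ha]; simp only [Category.assoc]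
  have hb' : b ≫ r ≫ jz ≫ i = rz ≫ jzz ≫ z := by
    rw [hb, ← heZ]; simp only [Category.assoc]
  exact ⟨⟨a, b, by rw [← cancel_mono (r ≫ jz ≫ i), Category.assoc, hb', ha', Category.id_comp],
    by rw [← cancel_mono (rz ≫ jzz ≫ z), Category.assoc, ha', hb', Category.id_comp]⟩, ha'⟩

/-- The least critical subgroup. -/
theorem least_critical (hG : Red.IsReductive G) {H ZH R Z H'' ZH'' R'' : Over S} [GrpObj H] [GrpObj ZH] [GrpObj R]
    [GrpObj Z] [GrpObj H''] [GrpObj ZH''] [GrpObj R''] (i : H ⟶ G) (hi : RedSub.IsTypeR i) (hH : Red.IsReductive H)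
    (jz : ZH ⟶ H) (hZH : Red.IsCentre jz) (r : R ⟶ ZH) (hR : Red.IsMaximalTorus r)
    (z : Z ⟶ G) (hZ : Red.IsCentralizerOf (r ≫ jz ≫ i) z)
    (i'' : H'' ⟶ G) (hi'' : RedSub.IsTypeR i'') (hH'' : Red.IsReductive H'') (k : H ⟶ H'') (hk : k ≫ i'' = i)
    (jz'' : ZH'' ⟶ H'') (hZH'' : Red.IsCentre jz'') (r'' : R'' ⟶ ZH'') (hR'' : Red.IsMaximalTorus r'')
    (hcrit : Red.IsCentralizerOf (r'' ≫ jz'' ≫ i'') i'') : ∃ l : Z ⟶ H'', l ≫ i'' = z := by
  obtain ⟨m, hm⟩ := radical_antitone hG i hi hH i'' hi'' hH'' k hk jz hZH r hR jz'' hZH'' r'' hR''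
  refine (hcrit.2.2 Z z).2 fun X' x h => ?_
  rw [← hm, ← Category.assoc h]
  exact (hZ.2.2 Z z).1 ⟨𝟙 Z, Category.id_comp z⟩ X' x (h ≫ m)

/-- The least C-critical torus. -/
theorem least_C_critical {Q Z ZZ RZ Q' Z' ZZ' : Over S} [GrpObj Q] [GrpObj Z] [GrpObj ZZ] [GrpObj RZ] [GrpObj Q']
    [GrpObj Z'] [GrpObj ZZ'] (hG : Red.IsReductive G) (q : Q ⟶ G) [IsMonHom q] [Mono q] (z : Z ⟶ G)
    (hZ : Red.IsCentralizerOf q z) (jzz : ZZ ⟶ Z) (hZZ : Red.IsCentre jzz) (rz : RZ ⟶ ZZ) (hRZ : Red.IsMaximalTorus rz)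
    (q' : Q' ⟶ G) [IsMonHom q'] [Mono q'] (hQ' : Red.IsTorus Q') (k : Q ⟶ Q') (hk : k ≫ q' = q)
    (z' : Z' ⟶ G) (hZ' : Red.IsCentralizerOf q' z') (jzz' : ZZ' ⟶ Z') (hZZ' : Red.IsCentre jzz')
    (m' : Q' ⟶ ZZ') (hm' : m' ≫ jzz' ≫ z' = q') (hcrit : Red.IsMaximalTorus m') :
    ∃ l : RZ ⟶ Q', l ≫ q' = rz ≫ jzz ≫ z := by
  haveI := hZ.1
  haveI := hZ.2.1
  haveI := hZ'.1
  haveI := hZ'.2.1
  haveI := hZZ.1
  haveI := hZZ.2.1
  haveI := hRZ.1
  haveI := hRZ.2.1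
  haveI := hcrit.1
  obtain ⟨Z₁, _, z₁, hz₁, -, hz₁red⟩ := exists_centralizer_typeR hG q' hQ'
  obtain ⟨eZ, heZ⟩ := SmWeil.CartanDim.exists_iso hZ' hz₁
  haveI := hz₁.1
  haveI := hz₁.2.1
  haveI : IsMonHom (eZ.hom ≫ z₁) := heZ.symm ▸ inferInstance
  haveI : IsMonHom eZ.hom := SmWeil.MaxTorusBC.isMonHom_of_mono_comp eZ.hom z₁
  have hjz' : Red.IsCentre (jzz' ≫ eZ.hom) := by
    have h := ImgMT.NilRank.isCentralizerOf_iso hZZ' eZ
    refine ⟨h.1, h.2.1, fun X g => (h.2.2 X g).trans ⟨fun hg X' x a => ?_, fun hg X' x a => ?_⟩⟩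
    · simpa using hg X' x (a ≫ eZ.inv)
    · simpa using hg X' x (a ≫ eZ.hom)
  -- `Q' ≤ Z` and `Z' ≤ Z`
  obtain ⟨a, ha⟩ := (hZ.2.2 Q' q').2 fun X' x h => by
    rw [← hk, ← Category.assoc h, ← MonObj.mul_comp, ← MonObj.mul_comp, Comm.mul_comm_of_isTorus hQ']
  obtain ⟨b, hb⟩ := (hZ.2.2 Z₁ z₁).2 fun X' x h => by
    rw [← hk, ← Category.assoc h]
    exact (hz₁.2.2 Z₁ z₁).1 ⟨𝟙 Z₁, Category.id_comp z₁⟩ X' x (h ≫ k)
  have hc : ∀ {X : Over S} (p : X ⟶ RZ) (g : X ⟶ Z), (p ≫ rz ≫ jzz ≫ z) * (g ≫ z) = (g ≫ z) * (p ≫ rz ≫ jzz ≫ z) :=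
    fun {X} p g => by
      have h1 := congrArg (· ≫ z) (cent_radical hZZ rz X p g)
      simpa only [MonObj.mul_comp, Category.assoc] using h1
  obtain ⟨c, hc'⟩ := (hz₁.2.2 RZ (rz ≫ jzz ≫ z)).2 fun X' x h => by
    have h1 := hc x (h ≫ a)
    simpa only [Category.assoc, ha] using h1
  haveI : IsMonHom (c ≫ z₁) := hc'.symm ▸ inferInstance
  haveI : IsMonHom c := SmWeil.MaxTorusBC.isMonHom_of_mono_comp c z₁
  haveI : Mono (rz ≫ jzz ≫ z) := mono_comp _ _
  haveI : Mono c := mono_of_mono_fac hc'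
  obtain ⟨l, hl⟩ := exists_fac_radical hz₁red hjz' hcrit c hRZ.2.2.1 fun X' x g => by
    rw [← cancel_mono z₁, MonObj.mul_comp, MonObj.mul_comp, Category.assoc, hc']
    have h1 := hc x (g ≫ b)
    simpa only [Category.assoc, hb] using h1
  exact ⟨l, by rw [← hm', ← hc', ← hl, ← heZ]; simp only [Category.assoc]⟩

end Groth.Agent.Lib.CentW
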