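import Groth.Agent.Lib.CentW.Tangent
import Groth.Agent.Lib.CentW.Radical
import Groth.Agent.Lib.SmWeil.CartanTorus

/-!
# Points in all maximal tori are central
-/

set_option autoImplicit false
set_option linter.unusedSectionVars false
universe u

open CategoryTheory MonoidalCategory CartesianMonoidalCategory MonObj GrpObj AlgebraicGeometry
open CategoryTheory.Limits
open Groth.Agent.Lib.RedPts Groth.Agent.Lib.Tori Groth.Agent.H87
open scoped TensorProduct

namespace Groth.Agent.Lib.CentW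

set_option linter.style.haveILetI false

/-- All conjugates of a point lie in a subgroup. -/
def InConj {S : Scheme.{u}} {G T Y : Over S} [GrpObj G] (u : T ⟶ G) (y : Y ⟶ G) : Prop :=
  ∀ (Z : Over S) (g : Z ⟶ G) (q : Z ⟶ Y), ∃ t : Z ⟶ T, g⁻¹ * (q ≫ y) * g = t ≫ u

theorem inConj_transfer {S : Scheme.{u}} {G G' T T' Y : Over S} [GrpObj G] [GrpObj G'] {u : T ⟶ G} {y : Y ⟶ G}
    (E : G ≅ G') [IsMonHom E.hom] (e : T' ⟶ T) (e' : T ⟶ T') (he : e' ≫ e = 𝟙 T) (h : InConj u y) :
    InConj (e ≫ u ≫ E.hom) (y ≫ E.hom) := by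
  intro Z g q
  obtain ⟨t, ht⟩ := h Z (g ≫ E.inv) q
  refine ⟨t ≫ e', ?_⟩
  have h1 := congrArg (· ≫ E.hom) ht
  simp only [MonObj.mul_comp, GrpObj.inv_comp, Category.assoc, Iso.inv_hom_id, Category.comp_id] at h1
  rw [Category.assoc, reassoc_of% he]
  exact h1

section Affine

variable {R A : Type u} [CommRing R] [CommRing A] [Algebra R A] [GrpObj (GS R A)] {M : Type} [AddCommGroup M]
  (u : Red.DS (Spec (CommRingCat.of R)) M ⟶ GS R A) [IsMonHom u]

theorem cent_of_inConj [Algebra.Smooth R A]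
    (hirr : ∀ p : PrimeSpectrum R, IsIrreducible (PrimeSpectrum.comap (algebraMap R A) ⁻¹' {p}))
    {X : Over (Spec (CommRingCat.of R))} (x : X ⟶ Red.DS (Spec (CommRingCat.of R)) M) (h : InConj u (x ≫ u)) :
    Cent (x ≫ u) := by
  classical
  obtain ⟨ε, hε⟩ := exists_counit (R := R) (A := A)
  intro X' q g
  rw [eq_comm, comm_iff, ← Category.assoc]
  refine hom_ext_charts _ _ fun B _ _ q' => ?_
  rw [MonObj.comp_mul, MonObj.comp_mul, GrpObj.comp_inv, ← Category.assoc q' _ u]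
  refine gfn_injective fun a => ?_
  rw [gfn_conj]
  conv_rhs => rw [← sum_proj u a, map_sum]
  refine Finset.sum_congr rfl fun k _ => ?_
  choose χ hχ using fun m => iota_surjective B (Gm.dsFn (q' ≫ q ≫ x) m)
  obtain ⟨φ, hφ⟩ := exists_gpt (q' ≫ g)
  suffices h0 : φ (proj u k.toAdd a) * (χ k.toAdd - 1) = 0 by
    rw [hφ, gfn_gpt, ← hχ]
    have h1 := congrArg (iota B) h0
    rw [map_mul, map_zero, map_sub, map_one, mul_sub, _root_.mul_one, sub_eq_zero] at h1
    exact h1
  by_contra hne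
  let J : Ideal B := LinearMap.ker (LinearMap.toSpanSingleton B B (φ (proj u k.toAdd a) * (χ k.toAdd - 1)))
  obtain ⟨Q, hQ, hJQ⟩ := Ideal.exists_le_maximal J fun hJ => hne (by
    simpa [J] using (Ideal.eq_top_iff_one J).1 hJ)
  let p : PrimeSpectrum R := PrimeSpectrum.comap (algebraMap R B) ⟨Q, hQ.isPrime⟩
  have hχ0 : χ 0 = 1 := iota_injective B (by rw [hχ, Gm.dsFn_zero, map_one])
  have hχadd : ∀ m m', χ (m + m') = χ m * χ m' := fun m m' =>
    iota_injective B (by rw [hχ, map_mul, hχ, hχ, Gm.dsFn_add])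
  let H : AddSubgroup M :=
    { carrier := {k | ∃ b ∉ Q, b * (χ k - 1) = 0}
      zero_mem' := ⟨1, fun h => hQ.ne_top ((Ideal.eq_top_iff_one Q).2 h), by rw [hχ0, sub_self, mul_zero]⟩
      add_mem' := fun {k k'} => by
        rintro ⟨b, hb, hb0⟩ ⟨b', hb', hb0'⟩
        refine ⟨b * b', fun h => (hQ.isPrime.mem_or_mem h).elim hb hb', ?_⟩
        rw [hχadd, show b * b' * (χ k * χ k' - 1) = b' * (b * (χ k - 1)) * χ k' + b * (b' * (χ k' - 1)) by ring,
          hb0, hb0', mul_zero, zero_mul, mul_zero, add_zero]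
      neg_mem' := fun {k} => by
        rintro ⟨b, hb, hb0⟩
        refine ⟨b, hb, ?_⟩
        have h1 := hχadd k (-k)
        rw [add_neg_cancel, hχ0] at h1
        calc b * (χ (-k) - 1) = b * (χ (-k) - χ k * χ (-k)) := by rw [← h1]
          _ = -(b * (χ k - 1)) * χ (-k) := by ring
          _ = 0 := by rw [hb0, neg_zero, zero_mul] }
  by_cases hk : k.toAdd ∈ H
  · obtain ⟨b, hb, hb0⟩ := hk
    exact hb (hJQ (by
      simp only [J, LinearMap.mem_ker, LinearMap.toSpanSingleton_apply, smul_eq_mul]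
      linear_combination φ (proj u k.toAdd a) * hb0))
  · have hH : ∀ m ≠ 0, ∀ c, (∃ ν : A →ₐ[R] TrivSqZeroExt R R, (∀ b, (ν b).fst = ε b) ∧
        (ν (proj u m c)).snd ∉ p.asIdeal) → m ∈ H := by
      rintro m hm c ⟨ν, hν, hνm⟩
      refine ⟨algebraMap R B (ν (proj u m c)).snd, hνm, ?_⟩
      refine tan_kill u hε (q' ≫ q ≫ x) (fun C _ _ q₂ g₂ => ?_) χ hχ m hm ν hν c
      obtain ⟨t, ht⟩ := h _ g₂ (q₂ ≫ q' ≫ q)
      exact ⟨t, by simpa only [Category.assoc] using ht⟩
    obtain ⟨e', he', heb'⟩ := exists_killing_bad u H p (weights_le u hε p (hirr p) H hH)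
    have hP : (Q.comap φ.toRingHom).comap (algebraMap R A) = p.asIdeal := by
      rw [Ideal.comap_comap, show φ.toRingHom.comp (algebraMap R A) = algebraMap R B from φ.comp_algebraMap]
      rfl
    refine he' (Q.comap φ.toRingHom) (Ideal.comap_isPrime _ _) hP (Ideal.mem_comap.2 (hJQ ?_))
    have h1 := congrArg φ (heb' _ hk a)
    rw [map_mul, map_zero] at h1
    simp only [J, LinearMap.mem_ker, LinearMap.toSpanSingleton_apply, smul_eq_mul]
    show φ e' * _ = 0
    linear_combination (χ k.toAdd - 1) * h1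

end Affine

variable {S : Scheme.{u}} (G : Over S) [GrpObj G] [Smooth G.hom] [IsAffineHom G.hom]

/-- A point in all maximal tori has all its conjugates in each. -/
theorem inConj_of_inTori {Y : Over S} {y : Y ⟶ G} (hy : InTori G y) {S₁ : Scheme.{u}} (k : S₁ ⟶ S) {T : Over S₁}
    [GrpObj T] (i : T ⟶ Red.bc k G) (hi : Red.IsMaximalTorus i) : InConj i ((Over.pullback k).map y) := by
  intro Z g q
  haveI : Smooth (Red.bc k G).hom := inferInstanceAs (Smooth (pullback.snd G.hom k))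
  haveI : IsAffineHom (Red.bc k G).hom :=
    isAffineHom_isStableUnderBaseChange.of_isPullback (IsPullback.of_hasPullback G.hom k) inferInstance
  haveI : IsSeparated (Red.bc k G).hom := inferInstance
  haveI := hi.1
  let w := Z.hom
  let θ : (Over.map w).obj (Over.mk (𝟙 Z.left)) ≅ Z := Over.isoMk (Iso.refl _) (by simp [w])
  let gam : 𝟙_ (Over Z.left) ⟶ Red.bc w (Red.bc k G) := BC.up w (θ.hom ≫ g)
  haveI := SmWeil.CartanTorus.isMonHom_conjIso gam
  have hiW := isMaximalTorus_iso (isMaximalTorus_iso (SmWeil.MaxTorusBC.isMaximalTorus_bc i hi w)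
    (SmWeil.CartanTorus.conjIso gam)) (compIso w k G)
  let m : (Over.map (w ≫ k)).obj (Over.mk (𝟙 Z.left)) ⟶ Y :=
    (theta w k _).hom ≫ (Over.map k).map (θ.hom ≫ q) ≫ BC.down k (𝟙 _)
  obtain ⟨t, ht⟩ := hy Z.left (w ≫ k) m (Red.bc w T) inferInstance _ hiW
  refine ⟨θ.inv ≫ BC.down w t, ?_⟩
  have e1 : (BC.up (w ≫ k) (m ≫ y)) = BC.up w (θ.hom ≫ q ≫ (Over.pullback k).map y) ≫ (compIso w k G).hom := by
    refine BC.down_injective ?_
    rw [BC.down_up, down_compIso, BC.down_up]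
    simp only [m, Category.assoc]
    refine congrArg ((theta w k _).hom ≫ ·) ?_
    rw [← BC.down_map, Category.id_comp, ← BC.down_comp, Category.assoc]
  rw [e1, ← Category.assoc, ← Category.assoc] at ht
  haveI : Mono (compIso w k G).hom := @IsIso.mono_of_iso _ _ _ _ _ (Iso.isIso_hom _)
  rw [cancel_mono, SmWeil.CartanTorus.comp_conjIso] at ht
  have h2 := congrArg (BC.down w) ht
  rw [toUnit_unique (toUnit (Over.mk (𝟙 Z.left))) (𝟙 _), BC.down_mul, BC.down_mul, BC.down_inv, BC.down_map] at h2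
  erw [Category.id_comp] at h2
  simp only [gam, BC.down_up] at h2
  have h3 := congrArg (θ.inv ≫ ·) h2
  simp only [MonObj.comp_mul, GrpObj.comp_inv, Iso.inv_hom_id_assoc] at h3
  rw [Category.assoc, ← h3]
  simp only [_root_.mul_assoc, inv_mul_cancel_left, inv_mul_cancel, _root_.mul_one]

set_option maxHeartbeats 800000 in
/-- **A point in all maximal tori is central.** -/
theorem cent_of_inTori (hconn : ∀ s : S, _root_.IsConnected (G.hom ⁻¹' {s})) (hr : SGA3x.HasMaxTorusEtaleLocally G)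
    {Y : Over S} (y : Y ⟶ G) (hy : InTori G y) : Cent y := by
  obtain ⟨S', f, hf, hfs, T, _, i, hi⟩ := hr
  haveI := hf
  haveI := hfs
  haveI := hi.1
  haveI := hi.2.1
  haveI : Smooth (Red.bc f G).hom := inferInstanceAs (Smooth (pullback.snd G.hom f))
  haveI : IsAffineHom (Red.bc f G).hom :=
    isAffineHom_isStableUnderBaseChange.of_isPullback (IsPullback.of_hasPullback G.hom f) inferInstance
  obtain ⟨S₂, f₂, hf₂, hf₂s, -, hsplit⟩ := hi.2.2.1
  haveI := hf₂
  haveI := hf₂s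
  intro X' q g
  let F := f₂ ≫ f
  let π := pullback.fst X'.hom F
  haveI : Flat π := inferInstance
  haveI : Surjective π := inferInstance
  haveI : Epi π := Flat.epi_of_flat_of_surjective π
  refine Over.OverMorphism.ext ((cancel_epi π).1 (Scheme.hom_ext_of_forall _ _ fun z => ?_))
  obtain ⟨U, hU, r, ⟨e₀⟩⟩ := hsplit (pullback.snd X'.hom F z)
  obtain ⟨V, hV, hzV, hVU⟩ := exists_isAffineOpen_mem_and_subset hU
  let R : Type u := Γ(S₂, V)
  let ρ : Spec (CommRingCat.of R) ⟶ (U : Scheme.{u}) := hV.isoSpec.inv ≫ S₂.homOfLE hVU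
  let t : Spec (CommRingCat.of R) ⟶ S' := ρ ≫ U.ι ≫ f₂
  let k : Spec (CommRingCat.of R) ⟶ S := t ≫ f
  let eR := Tori.BaseChange.bcCongr (show t = ρ ≫ U.ι ≫ f₂ from rfl) T ≪≫ Charts.resChart e₀ ρ
  let iR : Red.bc t T ⟶ Red.bc k G := (Over.pullback t).map i ≫ (compIso t f G).hom
  have hiR : Red.IsMaximalTorus iR := isMaximalTorus_iso (SmWeil.MaxTorusBC.isMaximalTorus_bc i hi t) (compIso t f G)
  haveI := hiR.1
  have hIC := inConj_of_inTori G hy k iR hiR
  haveI : IsAffine (Red.bc k G).left :=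
    haveI : IsAffineHom (Red.bc k G).hom := inferInstanceAs (IsAffineHom (pullback.snd G.hom k))
    isAffine_of_isAffineHom (Red.bc k G).hom
  haveI : Smooth (Red.bc k G).hom := inferInstanceAs (Smooth (pullback.snd G.hom k))
  let A : Type u := Γ((Red.bc k G).left, ⊤)
  let ψ : CommRingCat.of R ⟶ Γ((Red.bc k G).left, ⊤) :=
    Spec.preimage ((Red.bc k G).left.isoSpec.inv ≫ (Red.bc k G).hom)
  letI : Algebra R A := ψ.hom.toAlgebra
  let E : Red.bc k G ≅ GS R A := Over.isoMk (Red.bc k G).left.isoSpec (by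
    show (Red.bc k G).left.isoSpec.hom ≫ Spec.map ψ = (Red.bc k G).hom
    rw [Spec.map_preimage, Iso.hom_inv_id_assoc])
  letI : GrpObj (GS R A) := GrpObj.ofIso E
  haveI : IsMonHom E.hom :=
    { one_hom := rfl
      mul_hom := by
        show μ ≫ E.hom = (E.hom ⊗ₘ E.hom) ≫ ((E.inv ⊗ₘ E.inv) ≫ μ ≫ E.hom)
        rw [← Category.assoc (E.hom ⊗ₘ E.hom), MonoidalCategory.tensorHom_comp_tensorHom, E.hom_inv_id,
          MonoidalCategory.id_tensorHom_id, Category.id_comp] }
  haveI : Algebra.Smooth R A := by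
    have h1 : Smooth (Spec.map ψ) := by
      rw [Spec.map_preimage]; infer_instance
    rw [HasRingHomProperty.Spec_iff (P := @Smooth)] at h1
    exact RingHom.smooth_algebraMap.1 h1
  have hirr : ∀ p : PrimeSpectrum R, IsIrreducible (PrimeSpectrum.comap (algebraMap R A) ⁻¹' {p}) := by
    intro p
    have h1 := (isIrreducible_fibre_bc G hconn k p).image _
      (Scheme.Hom.continuous E.hom.left).continuousOn
    have heq : (PrimeSpectrum.comap (algebraMap R A) ⁻¹' {p} : Set (PrimeSpectrum A)) =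
        (E.hom.left '' ((Red.bc k G).hom ⁻¹' {p}) : Set (PrimeSpectrum A)) := by
      refine Set.ext fun (P : PrimeSpectrum A) => ?_
      constructor
      · intro hP
        refine ⟨E.inv.left P, ?_, ?_⟩
        · have h2 := congrArg (fun f : (GS R A).left ⟶ Spec (CommRingCat.of R) => f P) (Over.w E.inv)
          exact h2.trans hP
        · exact congrArg (fun f : (GS R A) ⟶ GS R A => f.left P) E.inv_hom_id
      · rintro ⟨z, hz, rfl⟩
        exact (congrArg (fun f : (Red.bc k G).left ⟶ Spec (CommRingCat.of R) => f z) (Over.w E.hom)).trans hz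
    rw [heq]
    exact h1
  let u : Red.DS (Spec (CommRingCat.of R)) (Fin r → ℤ) ⟶ GS R A := eR.inv.hom.hom ≫ iR ≫ E.hom
  haveI : IsMonHom eR.inv.hom.hom := inferInstance
  haveI : IsMonHom u := inferInstance
  have hIC' : InConj u ((Over.pullback k).map y ≫ E.hom) :=
    inConj_transfer E eR.inv.hom.hom eR.hom.hom.hom (congrArg (fun f => f.hom.hom) eR.hom_inv_id) hIC
  obtain ⟨x, hx⟩ := hIC' _ 1 (𝟙 _)
  rw [_root_.inv_one, _root_.one_mul, _root_.mul_one, Category.id_comp] at hx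
  have hc : Cent ((Over.pullback k).map y) := by
    rw [← cent_iso E, hx]
    exact cent_of_inConj u hirr x (hx ▸ hIC')
  -- the piece
  refine ⟨pullback.snd X'.hom F ⁻¹ᵁ V, hzV, ?_⟩
  set O := pullback.snd X'.hom F ⁻¹ᵁ V
  let a : (O : Scheme.{u}) ⟶ Spec (CommRingCat.of R) :=
    (pullback.snd X'.hom F).resLE V O le_rfl ≫ hV.isoSpec.hom
  let P : Over (Spec (CommRingCat.of R)) := Over.mk a
  have hk : a ≫ k = O.ι ≫ π ≫ X'.hom := by
    simp only [a, k, t, ρ, π, F, pullback.condition, Category.assoc, Iso.hom_inv_id_assoc]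
    erw [Scheme.homOfLE_ι_assoc, Scheme.Hom.resLE_comp_ι_assoc]
  let ι₁ : (Over.map k).obj P ⟶ X' := Over.homMk (O.ι ≫ π) (by
    show (O.ι ≫ π) ≫ X'.hom = a ≫ k
    rw [hk, Category.assoc])
  have h1 := hc P (BC.up k (ι₁ ≫ q)) (BC.up k (ι₁ ≫ g))
  have h2 := congrArg (BC.down k) h1
  rw [BC.down_mul, BC.down_mul, BC.down_map, BC.down_up, BC.down_up, Category.assoc, ← MonObj.comp_mul,
    ← MonObj.comp_mul] at h2
  have h3 := congrArg (fun f : (Over.map k).obj P ⟶ G => f.left) h2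
  simp only [Over.comp_left, ι₁, Over.homMk_left, Category.assoc] at h3
  exact h3

end Groth.Agent.Lib.CentW
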