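import Groth.Agent.Lib.CentW.InTori
import Groth.Agent.Lib.ImgMT.EtTorus
import Groth.Agent.Lib.ImgMT.CommTorus
import Groth.Agent.Lib.Tori.Character

/-!
# The reductive centre of a smooth affine group whose reductive rank is locally constant
-/

set_option autoImplicit false
set_option linter.unusedSectionVars false
universe u

open CategoryTheory MonoidalCategory CartesianMonoidalCategory MonObj GrpObj AlgebraicGeometry
open CategoryTheory.Limits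
open Groth.Agent.Lib.RedPts Groth.Agent.Lib.Tori Groth.Agent.H87

namespace Groth.Agent.Lib.CentW

set_option linter.style.haveILetI false

variable {S : Scheme.{u}} (G : Over S) [GrpObj G] [Smooth G.hom] [IsAffineHom G.hom]

section Piece

variable {W O : Scheme.{u}} (w : W ⟶ S) (d : O ⟶ W) {M : Type} [AddCommGroup M] (N : AddSubgroup M)
  (u₀ : Red.DS W M ⟶ Red.bc w G)

/-- The embedding of a piece. -/
noncomputable def pieceHom : Red.DS O (M ⧸ N) ⟶ Red.bc (d ≫ w) G :=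
  (BaseChange.overIso (DS.dsBC (M ⧸ N) d)).inv ≫
    (Over.pullback d).map (Red.DSmap W (QuotientAddGroup.mk' N) ≫ u₀) ≫ (compIso d w G).hom

theorem isMonHom_pieceHom [IsMonHom u₀] : IsMonHom (pieceHom G w d N u₀) := by
  haveI : IsMonHom (Red.DSmap W (QuotientAddGroup.mk' N)) := Gm.isMonHom_DSmap _
  haveI : IsMonHom (BaseChange.overIso (DS.dsBC (M ⧸ N) d)).hom := BaseChange.isMonHom_overIso _
  haveI : IsMonHom (BaseChange.overIso (DS.dsBC (M ⧸ N) d)).inv := inferInstance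
  exact inferInstanceAs (IsMonHom (_ ≫ _ ≫ _))

theorem mono_pieceHom [Mono u₀] : Mono (pieceHom G w d N u₀) := by
  haveI : Mono (Red.DSmap W (QuotientAddGroup.mk' N)) :=
    Loci.mono_DSmap_of_surjective _ (QuotientAddGroup.mk'_surjective N)
  haveI : Mono (BaseChange.overIso (DS.dsBC (M ⧸ N) d)).inv := @IsIso.mono_of_iso _ _ _ _ _ (Iso.isIso_inv _)
  haveI : Mono (compIso d w G).hom := @IsIso.mono_of_iso _ _ _ _ _ (Iso.isIso_hom _)
  exact inferInstanceAs (Mono (_ ≫ _ ≫ _))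

variable {N u₀} {V : W.Opens} (hdV : ∀ z, d z ∈ V)
  (hN : ∀ (X : Over W) (x : X ⟶ Red.DS W M), (∀ z, X.hom z ∈ V) → (Cent (x ≫ u₀) ↔ ∀ m ∈ N, Gm.dsFn x m = 1))

include hdV hN

theorem cent_pieceHom : Cent (pieceHom G w d N u₀) := by
  refine cent_comp _ ((cent_iso (compIso d w G) _).2 ?_)
  rw [cent_bc, ← Category.id_comp ((Over.pullback d).map _), BC.down_map, ← Category.assoc]
  refine (hN _ _ fun z => hdV _).2 fun m hm => ?_
  rw [Gm.dsFn_DSmap, show (QuotientAddGroup.mk' N) m = 0 from (QuotientAddGroup.eq_zero_iff m).2 hm, Gm.dsFn_zero]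

theorem exists_fac_piece [Smooth (Red.bc w G).hom] [IsSeparated (Red.bc w G).hom] {T₀ : Over W} [GrpObj T₀]
    (i₀ : T₀ ⟶ Red.bc w G) (hi₀ : Red.IsMaximalTorus i₀) (e : T₀ ≅ Red.DS W M) (hu : e.hom ≫ u₀ = i₀)
    {Y : Over O} (y : Y ⟶ Red.bc (d ≫ w) G) (hy : (ctr G).P (BC.down (d ≫ w) y)) :
    ∃ h, h ≫ pieceHom G w d N u₀ = y := by
  let y₀ : Y ⟶ Red.bc d (Red.bc w G) := y ≫ (compIso d w G).inv
  have hy₀ : y₀ ≫ (compIso d w G).hom = y := by simp [y₀]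
  have hy₁ : (ctr G).P (BC.down w (BC.down d y₀)) := by
    have h1 := (ctr G).comp (theta d w Y).inv _ hy
    rw [← hy₀, down_compIso, Iso.inv_hom_id_assoc] at h1
    exact h1
  obtain ⟨x₁, hx₁⟩ := exists_fac_of_ctr G w i₀ hi₀ (BC.down d y₀) hy₁
  have hx₂ : (x₁ ≫ e.hom) ≫ u₀ = BC.down d y₀ := by rw [Category.assoc, hu, hx₁]
  obtain ⟨z, hz⟩ := ImgMT.exists_fac_quot N (x₁ ≫ e.hom)
    ((hN _ _ fun z => hdV _).1 (hx₂ ▸ (cent_bc w _).2 hy₁.1))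
  refine ⟨BC.up d z ≫ (BaseChange.overIso (DS.dsBC (M ⧸ N) d)).hom, ?_⟩
  rw [pieceHom, Category.assoc, Iso.hom_inv_id_assoc, ← Category.assoc]
  refine Eq.trans (congrArg (· ≫ (compIso d w G).hom) ?_) hy₀
  exact BC.down_injective (by rw [BC.down_map, BC.down_up, ← Category.assoc, hz, hx₂])

theorem piece_iff (hconn : ∀ s : S, _root_.IsConnected (G.hom ⁻¹' {s})) [AddGroup.FG (M ⧸ N)] [IsMonHom u₀]
    [Smooth (Red.bc w G).hom] [IsSeparated (Red.bc w G).hom] {T₀ : Over W} [GrpObj T₀]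
    (i₀ : T₀ ⟶ Red.bc w G) (hi₀ : Red.IsMaximalTorus i₀) (e : T₀ ≅ Red.DS W M) (hu : e.hom ≫ u₀ = i₀)
    {Y : Over O} (y : Y ⟶ Red.bc (d ≫ w) G) :
    (∃ h, h ≫ pieceHom G w d N u₀ = y) ↔ (ctr G).P (BC.down (d ≫ w) y) := by
  refine ⟨?_, exists_fac_piece G w d hdV hN i₀ hi₀ e hu y⟩
  rintro ⟨h, rfl⟩
  haveI := isMonHom_pieceHom G w d N u₀
  rw [BC.down_comp]
  exact (ctr G).comp _ _
    (ctr_of_mult G hconn (d ≫ w) (Character.isMultTypeFT_DS _ _) _ (cent_pieceHom G w d hdV hN))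

end Piece

/-- The piece near a point, over an abstract chart. -/
theorem exists_piece_chart (hconn : ∀ s : S, _root_.IsConnected (G.hom ⁻¹' {s})) {W S' : Scheme.{u}} (c : W ⟶ S')
    (f : S' ⟶ S) {T : Over S'} [GrpObj T] (i : T ⟶ Red.bc f G) (hi : Red.IsMaximalTorus i)
    {r : ℕ} (e : Grp.mk (Red.bc c T) ≅ Grp.mk (Red.DS W (Fin r → ℤ))) (w₀ : W) :
    ∃ V : W.Opens, w₀ ∈ V ∧ ∀ (O : Scheme.{u}) (d : O ⟶ W), (∀ z, d z ∈ V) → ∀ g : O ⟶ S, d ≫ c ≫ f = g →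
      ∃ (Q : Type) (_ : AddCommGroup Q) (_ : AddGroup.FG Q) (z' : Red.DS O Q ⟶ Red.bc g G) (_ : IsMonHom z')
        (_ : Mono z'), ∀ (Y : Over O) (y : Y ⟶ Red.bc g G), (∃ h, h ≫ z' = y) ↔ (ctr G).P (BC.down g y) := by
  have hsm : ∀ {X : Scheme.{u}} (p : X ⟶ S), Smooth (Red.bc p G).hom := fun p =>
    inferInstanceAs (Smooth (pullback.snd G.hom p))
  have haff : ∀ {X : Scheme.{u}} (p : X ⟶ S), IsAffineHom (Red.bc p G).hom := fun p =>
    isAffineHom_isStableUnderBaseChange.of_isPullback (IsPullback.of_hasPullback G.hom p) inferInstance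
  haveI := hsm f
  haveI := haff f
  haveI := hsm (c ≫ f)
  haveI := haff (c ≫ f)
  haveI := hi.1
  haveI := hi.2.1
  have hi₀ : Red.IsMaximalTorus ((Over.pullback c).map i ≫ (compIso c f G).hom) :=
    isMaximalTorus_iso (SmWeil.MaxTorusBC.isMaximalTorus_bc i hi _) (compIso c f G)
  haveI := hi₀.1
  haveI := hi₀.2.1
  haveI : IsMonHom (BaseChange.overIso e).hom := BaseChange.isMonHom_overIso _
  haveI : IsMonHom (BaseChange.overIso e).inv := inferInstance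
  haveI : Mono (BaseChange.overIso e).inv := @IsIso.mono_of_iso _ _ _ _ _ (Iso.isIso_inv _)
  obtain ⟨V, hxV, N, hN⟩ := exists_local_gen (Red.bc (c ≫ f) G)
    (fun s => isConnected_fibre_bc G hconn (c ≫ f) s)
    ((BaseChange.overIso e).inv ≫ (Over.pullback c).map i ≫ (compIso c f G).hom) w₀
  refine ⟨V, hxV, fun O d hdV g hg => ?_⟩
  subst hg
  haveI : Module.Finite ℤ ((Fin r → ℤ) ⧸ N) :=
    Module.Finite.of_surjective (QuotientAddGroup.mk' N).toIntLinearMap (QuotientAddGroup.mk'_surjective N)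
  haveI : AddGroup.FG ((Fin r → ℤ) ⧸ N) := Module.Finite.iff_addGroup_fg.mp inferInstance
  exact ⟨_, inferInstance, inferInstance, pieceHom G _ d N _, isMonHom_pieceHom G _ d N _,
    mono_pieceHom G _ d N _, fun Y y => piece_iff G _ d hdV hN hconn _ hi₀ (BaseChange.overIso e)
      (Iso.hom_inv_id_assoc _ _) y⟩

/-- The piece near a point of a cover on which the maximal torus splits. -/
theorem exists_piece (hconn : ∀ s : S, _root_.IsConnected (G.hom ⁻¹' {s})) {S₁ S' : Scheme.{u}} (f₁ : S₁ ⟶ S')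
    (f : S' ⟶ S) {T : Over S'} [GrpObj T] (i : T ⟶ Red.bc f G) (hi : Red.IsMaximalTorus i)
    {U₀ : S₁.Opens} {r : ℕ} (e : Grp.mk (Red.bc (U₀.ι ≫ f₁) T) ≅ Grp.mk (Red.DS (U₀ : Scheme.{u}) (Fin r → ℤ)))
    (x₀ : S₁) (hx₀ : x₀ ∈ U₀) :
    ∃ O : S₁.Opens, x₀ ∈ O ∧ ∃ (Q : Type) (_ : AddCommGroup Q) (_ : AddGroup.FG Q)
      (z' : Red.DS (O : Scheme.{u}) Q ⟶ Red.bc (O.ι ≫ f₁ ≫ f) G) (_ : IsMonHom z') (_ : Mono z'),
      ∀ (Y : Over (O : Scheme.{u})) (y : Y ⟶ Red.bc (O.ι ≫ f₁ ≫ f) G),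
        (∃ h, h ≫ z' = y) ↔ (ctr G).P (BC.down (O.ι ≫ f₁ ≫ f) y) := by
  obtain ⟨V, hxV, hV⟩ := exists_piece_chart G hconn (U₀.ι ≫ f₁) f i hi e ⟨x₀, hx₀⟩
  refine ⟨U₀.ι ''ᵁ V, ⟨⟨x₀, hx₀⟩, hxV, rfl⟩, hV _ (S₁.homOfLE (U₀.ι_image_le V)) (fun z => ?_) _ ?_⟩
  · obtain ⟨v, hv, hvz⟩ := z.2
    have h1 : U₀.ι (S₁.homOfLE (U₀.ι_image_le V) z) = U₀.ι v := by
      rw [← Scheme.Hom.comp_apply, S₁.homOfLE_ι]
      exact hvz.symm
    rw [U₀.ι.isOpenEmbedding.injective h1]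
    exact hv
  · rw [Category.assoc, ← Category.assoc, S₁.homOfLE_ι]

/-- Equalities of points may be checked on the pieces. -/
theorem cent_of_pieces {S₁ : Scheme.{u}} (g : S₁ ⟶ S) [Flat g] [Surjective g] (O : ↥S₁ → S₁.Opens)
    (hO : ∀ x, x ∈ O x) {W : Over S} (w : W ⟶ G) (h : ImgMT.Crit (ctr G) (fun x => (O x).ι ≫ g) w) : Cent w := by
  intro X q a
  refine LocalEq.ext_of_local g _ _ O hO fun x => ?_
  rw [MonObj.comp_mul, MonObj.comp_mul, ← Category.assoc]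
  have h1 := (h x (Red.bc ((O x).ι ≫ g) X) (BC.down ((O x).ι ≫ g) (𝟙 _) ≫ q)).1 _ (𝟙 _)
    (BC.down ((O x).ι ≫ g) (𝟙 _) ≫ a)
  rwa [Category.id_comp] at h1

set_option maxHeartbeats 800000 in
/-- **The reductive centre.** -/
theorem exists_redCentre (hconn : ∀ s : S, _root_.IsConnected (G.hom ⁻¹' {s}))
    (hr : SGA3x.RedRankLocallyConstant G) :
    ∃ (Z : Over S) (_ : GrpObj Z) (z : Z ⟶ G), IsMonHom z ∧ Mono z ∧ SGA3x.IsMultTypeFT Z ∧ Cent z ∧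
      (∀ (X : Over S) (x : X ⟶ G), (ctr G).P x → ∃ h, h ≫ z = x) ∧
      ∀ (S₁ : Scheme.{u}) (t : S₁ ⟶ S) (H : Over S₁) [GrpObj H] (v : H ⟶ Red.bc t G) [IsMonHom v],
        SGA3x.IsMultTypeFT H → Cent v → ∃ w : H ⟶ Red.bc t Z, w ≫ (Over.pullback t).map z = v := by
  obtain ⟨S', f, hf, hfs, T, gT, i, hi⟩ := ImgMT.EtTorus.etLocal_of_rankConst G hr
  letI := gT
  haveI := hf
  haveI := hfs
  obtain ⟨S₁, f₁, hf₁, hf₁s, hc₁, hloc⟩ := hi.2.2.1
  haveI := hf₁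
  haveI := hf₁s
  have hcov : Basic.IsQCCover (f₁ ≫ f) :=
    Charts.isQCCover_comp hc₁ (ImgMT.CommTorus.isQCCover_of_isOpenMap f f.isOpenMap)
  choose U₀ hU₀ r e using hloc
  choose O hO Q iQ hQ z' hz' hzm hiff using fun x : S₁ => exists_piece G hconn f₁ f i hi (e x).some x (hU₀ x)
  letI := iQ
  haveI := hz'
  haveI := hzm
  haveI : ∀ x, IsAffineHom (Red.DS (O x : Scheme.{u}) (Q x)).hom := fun x => DS.isAffineHom _ _
  obtain ⟨Z, gZ, z, hzhom, hzmono, hch, hcrit⟩ := ImgMT.exists_subgroup (Φ := ctr G)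
    (f := fun x => (O x).ι ≫ f₁ ≫ f) (z' := z')
    (HomFam.mem_fpqc (f₁ ≫ f) hcov O fun x => ⟨x, hO x⟩) (fun x Y y => hiff x Y y)
    (ctr_one G) (ctr_mul G) (ctr_inv G)
  letI := gZ
  haveI := hzhom
  haveI := hzmono
  refine ⟨Z, gZ, z, hzhom, hzmono, ?_, ?_, fun X x hx => (hcrit x).2 (ImgMT.crit_of_P hx), ?_⟩
  · refine ⟨S₁, f₁ ≫ f, inferInstance, inferInstance, hcov, fun x => ⟨O x, hO x, Q x, iQ x, hQ x, ?_⟩⟩
    obtain ⟨φ, -⟩ := hch x
    exact ⟨φ⟩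
  · exact cent_of_pieces G (f₁ ≫ f) O hO z ((hcrit z).1 ⟨𝟙 _, Category.id_comp _⟩)
  · intro S₂ t H _ v _ hH hv
    obtain ⟨w, hw⟩ := (hcrit (BC.down t v)).2 (ImgMT.crit_of_P (ctr_of_mult G hconn t hH v hv))
    exact ⟨BC.up t w, BC.down_injective (by rw [BC.down_map, BC.down_up, hw])⟩

end Groth.Agent.Lib.CentW
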