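import Groth.Agent.Lib.CentW.Basic
import Groth.Agent.Lib.SmWeil.MaxTorusBC
import Groth.Agent.Lib.ImgMT.Sub
import Groth.Agent.S8398

/-!
# Points lying in all maximal tori
-/

set_option autoImplicit false
set_option linter.unusedSectionVars false
universe u

open CategoryTheory MonoidalCategory CartesianMonoidalCategory MonObj GrpObj AlgebraicGeometry
open CategoryTheory.Limits
open Groth.Agent.Lib.RedPts Groth.Agent.Lib.Tori Groth.Agent.H87

namespace Groth.Agent.Lib.CentW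

set_option linter.style.haveILetI false

variable {S S' S'' : Scheme.{u}} (c : S'' ⟶ S') (t : S' ⟶ S)

/-- The two ways of seeing an object over `S`. -/
noncomputable def theta (Z : Over S'') : (Over.map (c ≫ t)).obj Z ≅ (Over.map t).obj ((Over.map c).obj Z) :=
  Over.isoMk (Iso.refl _) (by
    show 𝟙 _ ≫ (Z.hom ≫ c) ≫ t = Z.hom ≫ c ≫ t
    rw [Category.id_comp, Category.assoc])

theorem theta_nat {Z Z' : Over S''} (h : Z' ⟶ Z) :
    (Over.map (c ≫ t)).map h ≫ (theta c t Z).hom = (theta c t Z').hom ≫ (Over.map t).map ((Over.map c).map h) :=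
  Over.OverMorphism.ext (by simp [theta])

/-- Base change in two steps. -/
noncomputable def compIso (G : Over S) : Red.bc c (Red.bc t G) ≅ Red.bc (c ≫ t) G where
  hom := BC.up (c ≫ t) ((theta c t _).hom ≫ BC.down t (BC.down c (𝟙 _)))
  inv := BC.up c (BC.up t ((theta c t _).inv ≫ BC.down (c ≫ t) (𝟙 _)))
  hom_inv_id := by
    refine BC.down_injective (BC.down_injective ?_)
    rw [BC.down_comp, BC.down_up, BC.down_comp, BC.down_up, ← Category.assoc, ← cancel_epi (theta c t _).hom,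
      ← Category.assoc, ← Category.assoc, ← theta_nat]
    simp only [Category.assoc, Iso.hom_inv_id_assoc]
    rw [← BC.down_comp, Category.comp_id, BC.down_up]
  inv_hom_id := by
    refine BC.down_injective ?_
    rw [BC.down_comp, BC.down_up, ← Category.assoc, theta_nat, Category.assoc, ← BC.down_comp, ← BC.down_comp,
      Category.comp_id, BC.down_up, BC.down_up, Iso.hom_inv_id_assoc]

theorem down_compIso (G : Over S) {Z : Over S''} (a : Z ⟶ Red.bc c (Red.bc t G)) :
    BC.down (c ≫ t) (a ≫ (compIso c t G).hom) = (theta c t Z).hom ≫ BC.down t (BC.down c a) := by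
  rw [BC.down_comp, compIso, BC.down_up, ← Category.assoc, theta_nat, Category.assoc, ← BC.down_comp,
    ← BC.down_comp, Category.comp_id]

instance isMonHom_compIso (G : Over S) [GrpObj G] : IsMonHom (compIso c t G).hom :=
  HomDS.isMonHom_of_points _ fun X a b => BC.down_injective (by
    rw [BC.down_mul (a ≫ _), down_compIso, down_compIso, down_compIso, BC.down_mul, BC.down_mul, MonObj.comp_mul])

/-- Maximal tori are carried along isomorphisms. -/
theorem isMaximalTorus_iso {G G' T : Over S} [GrpObj G] [GrpObj G'] [GrpObj T] {i : T ⟶ G}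
    (hT : Red.IsMaximalTorus i) (e : G ≅ G') [IsMonHom e.hom] : Red.IsMaximalTorus (i ≫ e.hom) := by
  obtain ⟨hi, hm, hTt, hmax⟩ := hT
  haveI := hi
  haveI := hm
  haveI : IsMonHom e.inv := inferInstance
  haveI : Mono e.hom := @IsIso.mono_of_iso _ _ _ _ _ (Iso.isIso_hom _)
  refine ⟨inferInstance, mono_comp _ _, hTt, fun s T' _ j _ _ f hT' hf => ?_⟩
  haveI : Mono e.inv := @IsIso.mono_of_iso _ _ _ _ _ (Iso.isIso_inv _)
  haveI : IsMonHom (j ≫ (Over.pullback (Red.geomPt s)).map e.inv) := inferInstance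
  haveI : Mono (j ≫ (Over.pullback (Red.geomPt s)).map e.inv) := mono_comp _ _
  exact hmax s T' (j ≫ (Over.pullback (Red.geomPt s)).map e.inv) f hT' (by
    rw [reassoc_of% hf, ← Functor.map_comp, Category.assoc, Iso.hom_inv_id, Category.comp_id])

variable (G : Over S) [GrpObj G]

/-- A point lying in every maximal torus. -/
def InTori {Y : Over S} (y : Y ⟶ G) : Prop :=
  ∀ (W : Scheme.{u}) (w : W ⟶ S) (m : (Over.map w).obj (Over.mk (𝟙 W)) ⟶ Y) (T : Over W) (_ : GrpObj T)
    (i : T ⟶ Red.bc w G), Red.IsMaximalTorus i → ∃ h : Over.mk (𝟙 W) ⟶ T, h ≫ i = BC.up w (m ≫ y)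

/-- The central points lying in every maximal torus. -/
def ctr : ImgMT.Sub G where
  P y := Cent y ∧ InTori G y
  comp r y h := ⟨cent_comp r h.1, fun W w m T gT i hi => by
    obtain ⟨h', hh⟩ := h.2 W w (m ≫ r) T gT i hi
    exact ⟨h', by rw [hh, Category.assoc]⟩⟩

theorem ctr_one (Y : Over S) : (ctr G).P (1 : Y ⟶ G) :=
  ⟨fun W q g => by rw [MonObj.comp_one, _root_.one_mul, _root_.mul_one], fun W w m T gT i hi => by
    haveI := hi.1
    refine ⟨1, ?_⟩
    rw [MonObj.one_comp, MonObj.comp_one]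
    exact BC.down_injective (by rw [BC.down_one, BC.down_up])⟩

theorem ctr_mul (Y : Over S) (a b : Y ⟶ G) (ha : (ctr G).P a) (hb : (ctr G).P b) : (ctr G).P (a * b) :=
  ⟨fun W q g => by
    rw [MonObj.comp_mul, _root_.mul_assoc, hb.1 W q g, ← _root_.mul_assoc, ha.1 W q g, _root_.mul_assoc],
  fun W w m T gT i hi => by
    haveI := hi.1
    obtain ⟨p, hp⟩ := ha.2 W w m T gT i hi
    obtain ⟨q, hq⟩ := hb.2 W w m T gT i hi
    exact ⟨p * q, by rw [MonObj.mul_comp, hp, hq, ← BC.up_mul, MonObj.comp_mul]⟩⟩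

theorem ctr_inv (Y : Over S) (a : Y ⟶ G) (ha : (ctr G).P a) : (ctr G).P a⁻¹ :=
  ⟨fun W q g => by
    rw [GrpObj.comp_inv]
    exact ((Commute.inv_left (ha.1 W q g : Commute (q ≫ a) g)) :),
  fun W w m T gT i hi => by
    haveI := hi.1
    obtain ⟨p, hp⟩ := ha.2 W w m T gT i hi
    refine ⟨p⁻¹, BC.down_injective ?_⟩
    rw [GrpObj.inv_comp, BC.down_inv, hp, BC.down_up, BC.down_up, GrpObj.comp_inv]⟩

variable [Smooth G.hom] [IsAffineHom G.hom]

/-- **The image of a central group of multiplicative type lies in all maximal tori.** -/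
theorem ctr_of_mult (hconn : ∀ s : S, _root_.IsConnected (G.hom ⁻¹' {s})) {S₁ : Scheme.{u}} (t : S₁ ⟶ S)
    {H : Over S₁} [GrpObj H] (hH : SGA3x.IsMultTypeFT H) (v : H ⟶ Red.bc t G) [IsMonHom v] (hv : Cent v) :
    (ctr G).P (BC.down t v) := by
  refine ⟨(cent_bc t v).1 hv, fun W w m T gT i hi => ?_⟩
  suffices aux : ∀ (c : W ⟶ S₁) (m₁ : Over.mk c ⟶ H) (w : W ⟶ S), c ≫ t = w →
      ∀ (m : (Over.map w).obj (Over.mk (𝟙 W)) ⟶ (Over.map t).obj H), m.left = m₁.left →
      ∀ (i : T ⟶ Red.bc w G), Red.IsMaximalTorus i →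
      ∃ h : Over.mk (𝟙 W) ⟶ T, h ≫ i = BC.up w (m ≫ BC.down t v) from
    aux (m.left ≫ H.hom) (Over.homMk m.left) w (by
      have h1 : m.left ≫ H.hom ≫ t = 𝟙 W ≫ w := Over.w m
      rw [Category.assoc, h1, Category.id_comp]) m rfl i hi
  intro c m₁ w hw m hm i hi
  subst hw
  haveI := hi.1
  haveI : Smooth (Red.bc (c ≫ t) G).hom := inferInstanceAs (Smooth (pullback.snd G.hom (c ≫ t)))
  haveI : IsAffineHom (Red.bc (c ≫ t) G).hom :=
    isAffineHom_isStableUnderBaseChange.of_isPullback (IsPullback.of_hasPullback G.hom (c ≫ t)) inferInstance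
  let v' : Red.bc c H ⟶ Red.bc (c ≫ t) G := (Over.pullback c).map v ≫ (compIso c t G).hom
  haveI : IsMonHom v' := inferInstance
  have hv' : Cent v' := by
    rw [cent_iso (compIso c t G), cent_bc, ← Category.id_comp ((Over.pullback c).map v), BC.down_map]
    exact cent_comp _ hv
  obtain ⟨ω, hω⟩ := Groth.Agent.S8398.result W (Red.bc (c ≫ t) G)
    (fun s' => isConnected_fibre_bc G hconn (c ≫ t) s') T i hi (Red.bc c H) (Normal.multTypeFT_bc hH c) v'
    fun X x g => hv' X x g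
  let θ : (Over.map c).obj (Over.mk (𝟙 W)) ⟶ Over.mk c :=
    Over.homMk (U := (Over.map c).obj (Over.mk (𝟙 W))) (𝟙 W) rfl
  refine ⟨BC.up c (θ ≫ m₁) ≫ ω, BC.down_injective ?_⟩
  rw [Category.assoc, hω, BC.down_up, ← Category.assoc, down_compIso, BC.down_map, BC.down_up, BC.down_comp,
    ← Category.assoc]
  refine congrArg (· ≫ BC.down t v) (Over.OverMorphism.ext ?_)
  simp [theta, θ, hm]

/-- A central point in every maximal torus is on each torus. -/
theorem exists_fac_of_ctr {S₁ : Scheme.{u}} (t : S₁ ⟶ S) {T : Over S₁} [GrpObj T] (i : T ⟶ Red.bc t G)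
    (hi : Red.IsMaximalTorus i) [IsSeparated (Red.bc t G).hom] [Smooth (Red.bc t G).hom]
    {Y : Over S₁} (y : Y ⟶ Red.bc t G) (hy : (ctr G).P (BC.down t y)) : ∃ x : Y ⟶ T, x ≫ i = y := by
  let m : (Over.map (Y.hom ≫ t)).obj (Over.mk (𝟙 Y.left)) ⟶ (Over.map t).obj Y :=
    Over.homMk (U := (Over.map (Y.hom ≫ t)).obj (Over.mk (𝟙 Y.left))) (𝟙 Y.left) (by simp)
  obtain ⟨h, hh⟩ := hy.2 Y.left (Y.hom ≫ t) m (Red.bc Y.hom T) inferInstance
    ((Over.pullback Y.hom).map i ≫ (compIso Y.hom t G).hom)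
    (isMaximalTorus_iso (SmWeil.MaxTorusBC.isMaximalTorus_bc i hi Y.hom) (compIso Y.hom t G))
  let θ : Y ⟶ (Over.map Y.hom).obj (Over.mk (𝟙 Y.left)) :=
    Over.homMk (V := (Over.map Y.hom).obj (Over.mk (𝟙 Y.left))) (𝟙 Y.left) (by simp)
  refine ⟨θ ≫ BC.down Y.hom h, BC.down_injective ?_⟩
  have h1 := congrArg (BC.down (Y.hom ≫ t)) hh
  rw [← Category.assoc, down_compIso, BC.down_map, BC.down_up] at h1
  rw [Category.assoc, BC.down_comp]
  refine Over.OverMorphism.ext ?_
  have h2 := congrArg (fun f : (Over.map (Y.hom ≫ t)).obj (Over.mk (𝟙 Y.left)) ⟶ G => f.left) h1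
  simp [theta, m] at h2
  simp [θ]
  exact h2

end Groth.Agent.Lib.CentW
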