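import Groth.Agent.Lib.CentW.RedCentre
import Groth.Agent.Lib.WittU.Criteria
import Groth.Agent.Lib.RedPts.AlgClosedDescend
import Groth.Agent.Lib.Tori.Character

/-!
# Central isogenies and centres
-/

set_option autoImplicit false
set_option linter.unusedSectionVars false
universe u

open CategoryTheory MonoidalCategory CartesianMonoidalCategory MonObj GrpObj AlgebraicGeometry
open CategoryTheory.Limits
open Groth.Agent.Lib.RedPts Groth.Agent.Lib.Tori Groth.Agent.H87
open Groth.Agent.Lib.Tori.BaseChange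

namespace Groth.Agent.Lib.CentW

set_option linter.style.haveILetI false

theorem finite_lifts {W : Scheme.{u}} {A B : Over W} (f : A ⟶ B) [IsFinite f.left] {L : Type u} [Field L]
    [IsAlgClosed L] (g : Spec (CommRingCat.of L) ⟶ W) (b : Over.mk g ⟶ B) :
    {y : Over.mk g ⟶ A | y ≫ f = b}.Finite := by
  let P : Over (WittU.Pts.base L) := Over.mk (pullback.snd f.left b.left)
  haveI : IsFinite P.hom := inferInstanceAs (IsFinite (pullback.snd f.left b.left))
  haveI : Finite (WittU.Pts.pt L ⟶ P) := WittU.Criteria.finite_pts_of_isFinite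
  rw [← Set.finite_coe_iff]
  refine Finite.of_injective (β := WittU.Pts.pt L ⟶ P) (fun y => Over.homMk
    (pullback.lift y.1.left (𝟙 (Spec (CommRingCat.of L)))
      ((congrArg CommaMorphism.left y.2).trans (Category.id_comp _).symm))
    (pullback.lift_snd _ _ _)) fun y y' h => ?_
  have h1 := congrArg (fun q : WittU.Pts.pt L ⟶ P => q.left ≫ pullback.fst f.left b.left) h
  simp only [Over.homMk_left, pullback.lift_fst] at h1
  exact Subtype.ext (Over.OverMorphism.ext h1)

/-- An endomorphism of a torus with image in a finite subgroup is trivial. -/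
theorem eq_one_of_finite_factor {W : Scheme.{u}} {T A B : Over W} [GrpObj T] [GrpObj A] [GrpObj B]
    (hT : Red.IsTorus T) (φ : T ⟶ T) [IsMonHom φ] (i : T ⟶ A) [Mono i] (f : A ⟶ B) [IsFinite f.left]
    (h : φ ≫ i ≫ f = 1) : φ = 1 := by
  classical
  obtain ⟨S', p, hp, hs, -, hloc⟩ := hT
  choose U hU r hr using hloc
  refine LocalEq.ext_of_local p _ _ U hU fun s' => ?_
  obtain ⟨e⟩ := hr s'
  let g := (U s').ι ≫ p
  let φ' := (overIso e).inv ≫ (Over.pullback g).map φ ≫ (overIso e).hom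
  haveI : IsMonHom (overIso e).inv := inferInstanceAs (IsMonHom (overIso e.symm).hom)
  haveI : IsMonHom φ' := inferInstance
  suffices key : φ' = 1 by
    have h1 : (Over.pullback g).map φ = 1 := by
      have h2 : (overIso e).hom ≫ φ' ≫ (overIso e).inv = 1 := by rw [key, MonObj.one_comp, MonObj.comp_one]
      simpa only [φ', Category.assoc, Iso.hom_inv_id_assoc, Iso.hom_inv_id, Category.comp_id] using h2
    rw [← BC.down_map, Category.id_comp]
    erw [h1]
    rw [BC.down_one, MonObj.comp_one]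
  choose A' V' hV' hVc' hW' using fun v =>
    H87.HomDS.exists_local_form (Groth.Agent.Lib.Tori.Character.isMultTypeFT_DS _ (Fin (r s') → ℤ)) φ' v
  refine LocalEq.ext_of_local (𝟙 _) _ _ V' hV' fun v => ?_
  have hv := hV' v
  have hW := hW' v
  generalize A' v = A₀ at hW
  generalize V' v = V at hv hW
  rw [MonObj.comp_one]
  refine (hW _ (Over.homMk (Red.bc (V.ι ≫ 𝟙 _) (Red.DS _ (Fin (r s') → ℤ))).hom (by simp)) _).trans ?_
  refine Gm.dsFn_ext fun n => ?_
  rw [Gm.dsFn_DSmap, Gm.dsFn_one]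
  suffices hA : A₀ n = 0 by rw [hA, Gm.dsFn_zero]
  by_contra hne
  obtain ⟨j, hj⟩ := Function.ne_iff.1 hne
  let L := AlgebraicClosure ((U s' : Scheme.{u}).residueField v)
  let gp : Spec (CommRingCat.of L) ⟶ (U s' : Scheme.{u}) := Red.geomPt v
  have hgp : Set.range gp ⊆ Set.range V.ι := by
    rintro _ ⟨z, rfl⟩
    rw [Scheme.Opens.range_ι]
    rw [show gp z = v from (U s' : Scheme.{u}).fromSpecResidueField_apply v _]
    exact hv
  let X₁ : Over (U s' : Scheme.{u}) := Over.mk gp
  let q₁ : X₁ ⟶ Over.mk V.ι := Over.homMk (IsOpenImmersion.lift V.ι gp hgp) (IsOpenImmersion.lift_fac _ _ _)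
  let χ : Lˣ → (Multiplicative (Fin (r s') → ℤ) →* Γ(X₁.left, ⊤)) := fun c =>
    (Scheme.ΓSpecIso (CommRingCat.of L)).inv.hom.toMonoidHom.comp
      ((Units.coeHom L).comp ((zpowersHom Lˣ c).comp
        (AddMonoidHom.toMultiplicative (Pi.evalAddMonoidHom (fun _ : Fin (r s') => ℤ) j))))
  let y : Lˣ → (X₁ ⟶ Red.DS (U s' : Scheme.{u}) (Fin (r s') → ℤ)) := fun c => Gm.dsPt (χ c) ≫ φ'
  have hy : ∀ c, Gm.dsFn (y c) n = (Scheme.ΓSpecIso (CommRingCat.of L)).inv ((c ^ (A₀ n j) : Lˣ) : L) := fun c => by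
    simp only [y]
    rw [hW X₁ q₁ (Gm.dsPt (χ c)), Gm.dsFn_DSmap, Gm.dsFn_dsPt]
    rfl
  have hfin : (Set.range y).Finite := by
    let Φ : (X₁ ⟶ Red.DS (U s' : Scheme.{u}) (Fin (r s') → ℤ)) → (Over.mk (gp ≫ g) ⟶ A) :=
      fun z => BC.down g (z ≫ (overIso e).inv) ≫ i
    refine Set.Finite.of_finite_image (f := Φ) ?_ ?_
    · refine Set.Finite.subset (finite_lifts f (gp ≫ g) 1) ?_
      rintro _ ⟨_, ⟨c, rfl⟩, rfl⟩
      show (BC.down g (y c ≫ (overIso e).inv) ≫ i) ≫ f = 1
      simp only [y, φ', Category.assoc, Iso.hom_inv_id, Category.comp_id]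
      rw [← Category.assoc (Gm.dsPt (χ c)), BC.down_map, Category.assoc, h]
      exact MonObj.comp_one _
    · intro a _ b _ hab
      have h1 := BC.down_injective ((cancel_mono i).1 hab)
      exact (cancel_mono (overIso e).inv).1 h1
  have hu : (Set.univ : Set Lˣ).Finite := by
    have h1 : (Set.range fun c : Lˣ => c ^ (A₀ n j)).Finite := by
      refine Set.Finite.of_finite_image (f := fun c : Lˣ => (Scheme.ΓSpecIso (CommRingCat.of L)).inv (c : L))
        ((hfin.image fun z => Gm.dsFn z n).subset ?_) ?_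
      · rintro _ ⟨_, ⟨c, rfl⟩, rfl⟩
        exact ⟨y c, ⟨c, rfl⟩, hy c⟩
      · intro a _ b _ hab
        exact Units.ext ((Scheme.ΓSpecIso (CommRingCat.of L)).symm.commRingCatIsoToRingEquiv.injective hab)
    refine h1.subset fun uu _ => ?_
    have hk : 0 < (A₀ n j).natAbs := Int.natAbs_pos.2 hj
    obtain ⟨z, hz⟩ := IsAlgClosed.exists_pow_nat_eq (uu : L) hk
    have hz0 : z ≠ 0 := fun h0 => uu.ne_zero (by rw [← hz, h0, zero_pow hk.ne'])
    have hzuu : Units.mk0 z hz0 ^ (A₀ n j).natAbs = uu := Units.ext (by rw [Units.val_pow_eq_pow_val, Units.val_mk0, hz])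
    rcases Int.natAbs_eq (A₀ n j) with he | he
    · refine ⟨Units.mk0 z hz0, ?_⟩
      show _ ^ (A₀ n j) = uu
      rw [he, zpow_natCast, hzuu]
    · refine ⟨(Units.mk0 z hz0)⁻¹, ?_⟩
      show _ ^ (A₀ n j) = uu
      rw [he, zpow_neg, inv_zpow, _root_.inv_inv, zpow_natCast, hzuu]
  haveI : Finite Lˣ := Set.finite_univ_iff.1 hu
  exact (Set.infinite_univ.sdiff (Set.finite_singleton (0 : L))).not_finite
    ((Set.finite_range fun c : Lˣ => (c : L)).subset fun c hc => ⟨Units.mk0 c hc.2, rfl⟩)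

/-- A central isogeny of reductive groups matches the centres. -/
theorem cent_iff_cent_comp {S : Scheme.{u}} {G' G : Over S} [GrpObj G'] [GrpObj G]
    (hG' : Red.IsReductive G') (hG : Red.IsReductive G) (f : G' ⟶ G) [IsMonHom f]
    (hfin : IsFinite f.left) (hfl : Flat f.left) (hsurj : Surjective f.left)
    (hcen : ∀ (T : Over S) (k y : T ⟶ G'), k ≫ f = 1 → k * y = y * k)
    {T : Over S} (x : T ⟶ G') : Cent x ↔ Cent (x ≫ f) := by
  constructor
  · intro h T' p z
    let π : Over.mk (pullback.snd f.left z.left ≫ T'.hom) ⟶ T' := Over.homMk (pullback.snd f.left z.left) rfl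
    let z' : Over.mk (pullback.snd f.left z.left ≫ T'.hom) ⟶ G' := Over.homMk (pullback.fst f.left z.left) (by
      show pullback.fst f.left z.left ≫ G'.hom = pullback.snd f.left z.left ≫ T'.hom
      rw [← Over.w f, pullback.condition_assoc, Over.w z])
    have hz : z' ≫ f = π ≫ z := Over.OverMorphism.ext pullback.condition
    haveI : Epi π.left := Flat.epi_of_flat_of_surjective (pullback.snd f.left z.left)
    haveI : Epi π := Over.epi_of_epi_left π
    rw [← cancel_epi π, MonObj.comp_mul, MonObj.comp_mul, ← hz, ← Category.assoc, ← Category.assoc,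
      ← MonObj.mul_comp, ← MonObj.mul_comp, h _ (π ≫ p) z']
  · intro hxf
    haveI := hG'.1
    haveI := hG'.2.1
    refine cent_of_inTori G' (isConnected_fibre_of_reductive hG') (hasMaxTorus_of_reductive hG') x ?_
    intro W w m T _ i hi
    haveI := hi.1
    haveI := hi.2.1
    let F : Red.bc w G' ⟶ Red.bc w G := (Over.pullback w).map f
    haveI : IsMonHom F := AlgClosedDescend.isMonHom_map w f
    haveI : IsFinite F.left := MorphismProperty.overPullbackMap (P := @IsFinite) _ _ hfin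
    let xW : Over.mk (𝟙 W) ⟶ Red.bc w G' := BC.up w (m ≫ x)
    have hx : Cent (xW ≫ F) := by
      rw [cent_bc, BC.down_map, BC.down_up, Category.assoc]
      exact cent_comp m hxf
    have hK : ∀ {X : Over W} (k : X ⟶ Red.bc w G'), k ≫ F = 1 → Cent k := fun {X} k hk => by
      rw [cent_bc]
      intro X' q g
      refine hcen X' _ g ?_
      rw [Category.assoc, ← BC.down_map, hk, BC.down_one, MonObj.comp_one]
    let c : T ⟶ Red.bc w G' := toUnit T ≫ xW
    let ψ : T ⟶ Red.bc w G' := c * i * c⁻¹ * i⁻¹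
    have hψF : ψ ≫ F = 1 := by
      have h1 : (c ≫ F) * (i ≫ F) = (i ≫ F) * (c ≫ F) := by
        rw [show c ≫ F = toUnit T ≫ (xW ≫ F) from Category.assoc _ _ _]
        exact hx T (toUnit T) (i ≫ F)
      simp only [ψ, MonObj.mul_comp, GrpObj.inv_comp, h1, _root_.mul_inv_cancel_right, mul_inv_cancel]
    have hψc : Cent ψ := hK ψ hψF
    obtain ⟨φ, hφ⟩ := centralizer_self G' (isConnected_fibre_of_reductive hG')
      (unipotentRankZero_of_reductive hG') w i hi T ψ hψc
    haveI : IsMonHom φ := AlgClosedDescend.isMonHom_of_points φ fun X a b => by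
      rw [← cancel_mono i, MonObj.mul_comp (a ≫ φ) (b ≫ φ) i, Category.assoc, Category.assoc, Category.assoc, hφ]
      have hb := hψc X b (a ≫ i)
      simp only [ψ, c, MonObj.comp_mul, GrpObj.comp_inv, ← Category.assoc, comp_toUnit, MonObj.mul_comp] at hb ⊢
      generalize toUnit X ≫ xW = cc at hb ⊢
      generalize a ≫ i = aa at hb ⊢
      generalize b ≫ i = bb at hb ⊢
      rw [_root_.mul_inv_rev,
        show cc * (aa * bb) * cc⁻¹ * (bb⁻¹ * aa⁻¹) = cc * aa * cc⁻¹ * ((cc * bb * cc⁻¹ * bb⁻¹) * aa⁻¹) by group,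
        show cc * aa * cc⁻¹ * ((cc * bb * cc⁻¹ * bb⁻¹) * aa⁻¹) =
          cc * aa * cc⁻¹ * aa⁻¹ * (aa * (cc * bb * cc⁻¹ * bb⁻¹) * aa⁻¹) by group]
      rw [show aa * (cc * bb * cc⁻¹ * bb⁻¹) = (cc * bb * cc⁻¹ * bb⁻¹) * aa from hb.symm,
        _root_.mul_inv_cancel_right]
    have hφ1 : φ = 1 := eq_one_of_finite_factor hi.2.2.1 φ i F (by rw [← Category.assoc, hφ, hψF])
    rw [hφ1, MonObj.one_comp] at hφ
    obtain ⟨h', hh⟩ := centralizer_self_comm G' (isConnected_fibre_of_reductive hG')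
      (unipotentRankZero_of_reductive hG') w i hi (Over.mk (𝟙 W)) xW fun X q t => by
        have h1 : (1 : X ⟶ Red.bc w G') = t ≫ ψ := by
          rw [← hφ, MonObj.comp_one]
        simp only [ψ, c, MonObj.comp_mul, GrpObj.comp_inv, ← Category.assoc] at h1
        rw [toUnit_unique (t ≫ toUnit T) q] at h1
        generalize q ≫ xW = cc at h1 ⊢
        generalize t ≫ i = tt at h1 ⊢
        rw [eq_comm, mul_inv_eq_one, mul_inv_eq_iff_eq_mul] at h1
        exact h1
    exact ⟨h', hh⟩

end Groth.Agent.Lib.CentW
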