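import Groth.Agent.Lib.CentW.RedCentre
import Groth.Agent.Lib.ActSep.HomogFlat
import Groth.Agent.Lib.GrpQ.FlatHom
import Groth.Agent.Lib.Tori.Character
import Groth.Agent.Lib.TorsorSch.Descent
import Groth.Agent.H87.SplitHom
import Groth.Agent.H87.MT
import Groth.Agent.Lib.RedPts.AlgClosedDescend

/-!
# Kernels of surjective homomorphisms of reductive groups
-/

set_option autoImplicit false
set_option linter.unusedSectionVars false
universe u

open CategoryTheory MonoidalCategory CartesianMonoidalCategory MonObj GrpObj AlgebraicGeometry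
open CategoryTheory.Limits
open Groth.Agent.Lib.RedPts Groth.Agent.Lib.Tori Groth.Agent.H87

namespace Groth.Agent.Lib.CentW

set_option linter.style.haveILetI false

variable {S S' : Scheme.{u}}

set_option backward.isDefEq.respectTransparency false in
/-- A property may be checked on a flat quasi-compact cover followed by an open cover. -/
theorem prop_local (P : MorphismProperty Scheme.{u}) [IsZariskiLocalAtTarget P]
    [P.IsStableUnderBaseChange] [P.DescendsAlong (@Surjective ⊓ @Flat ⊓ @QuasiCompact)]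
    (H : Over S) (f : S' ⟶ S) [Flat f] (hc : Basic.IsQCCover f)
    (hloc : ∀ s' : S', ∃ U : S'.Opens, s' ∈ U ∧ P (Red.bc (U.ι ≫ f) H).hom) : P H.hom := by
  choose U hU hP using hloc
  have hUS : TopologicalSpace.IsOpenCover U :=
    TopologicalSpace.IsOpenCover.mk (eq_top_iff.mpr fun x _ => TopologicalSpace.Opens.mem_iSup.mpr ⟨x, hU x⟩)
  have h' : P (pullback.snd H.hom f) := by
    refine IsZariskiLocalAtTarget.of_openCover (𝒰 := S'.openCoverOfIsOpenCover U hUS) fun x => ?_
    change P (pullback.snd (pullback.snd H.hom f) (U x).ι)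
    rw [← pullbackLeftPullbackSndIso_hom_snd]
    exact (P.cancel_left_of_respectsIso _ _).2 (hP x)
  refine IsZariskiLocalAtTarget.of_openCover
    (𝒰 := S.openCoverOfIsOpenCover (fun V : S.affineOpens => V.1) (iSup_affineOpens_eq_top S)) ?_
  intro (V : S.affineOpens)
  obtain ⟨W, hle, hqc, hqs⟩ := MT.exists_qc_res f hc V.2
  change P (pullback.snd H.hom V.1.ι)
  refine MorphismProperty.of_pullback_snd_of_descendsAlong (P := P)
    (Q := @Surjective ⊓ @Flat ⊓ @QuasiCompact) (g := f.resLE V.1 W hle) ⟨⟨hqs, inferInstance⟩, hqc⟩ ?_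
  rw [← pullbackLeftPullbackSndIso_hom_snd]
  refine (P.cancel_left_of_respectsIso _ _).2 ?_
  have h3 : P (pullback.snd (pullback.snd H.hom f) W.ι) :=
    MorphismProperty.of_isPullback (IsPullback.of_hasPullback _ _) h'
  have key : ∀ g : (W : Scheme.{u}) ⟶ S, g = W.ι ≫ f → P (pullback.snd H.hom g) := by
    rintro _ rfl
    rw [← pullbackLeftPullbackSndIso_inv_snd_snd H.hom f W.ι]
    exact (P.cancel_left_of_respectsIso _ _).2 h3
  exact key _ (Scheme.Hom.resLE_comp_ι _ _)

theorem exists_fac_quot {M N : Type} [AddCommGroup M] [AddCommGroup N] (φ : N →+ M) {X : Over S}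
    (x : X ⟶ Red.DS S M) (h : x ≫ Red.DSmap S φ = 1) :
    ∃ y : X ⟶ Red.DS S (M ⧸ φ.range), y ≫ Red.DSmap S (QuotientAddGroup.mk' φ.range) = x := by
  let χ : M →+ Additive Γ(X.left, ⊤) :=
    { toFun := fun m => Additive.ofMul (Gm.dsFn x m)
      map_zero' := congrArg Additive.ofMul (Gm.dsFn_zero x)
      map_add' := fun a b => congrArg Additive.ofMul (Gm.dsFn_add x a b) }
  have hk : φ.range ≤ χ.ker := by
    rintro _ ⟨n, rfl⟩
    have h1 := congrArg (fun z => Gm.dsFn z n) h
    simp only [Gm.dsFn_DSmap, Gm.dsFn_one] at h1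
    exact congrArg Additive.ofMul h1
  refine ⟨Gm.dsPt (AddMonoidHom.toMultiplicativeLeft (QuotientAddGroup.lift φ.range χ hk)), Gm.dsFn_ext fun m => ?_⟩
  rw [Gm.dsFn_DSmap, Gm.dsFn_dsPt]
  rfl

theorem DSmap_kills {M N : Type} [AddCommGroup M] [AddCommGroup N] (φ : N →+ M) :
    Red.DSmap S (QuotientAddGroup.mk' φ.range) ≫ Red.DSmap S φ = 1 :=
  Gm.dsFn_ext fun n => by
    rw [Gm.dsFn_DSmap, ← Category.id_comp (Red.DSmap S (QuotientAddGroup.mk' φ.range)), Gm.dsFn_DSmap,
      show QuotientAddGroup.mk' φ.range (φ n) = 0 from (QuotientAddGroup.eq_zero_iff _).2 ⟨n, rfl⟩,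
      Gm.dsFn_zero, Gm.dsFn_one]

set_option backward.isDefEq.respectTransparency false in
theorem isFinite_DS' (V : Scheme.{u}) (Q : Type) [AddCommGroup Q] [Finite Q] : IsFinite (Red.DS V Q).hom := by
  haveI : IsFinite (Red.diag (ULift.{u} ℤ) Q).hom := by
    haveI : Module.Finite (ULift.{u} ℤ) (MonoidAlgebra (ULift.{u} ℤ) (Multiplicative Q)) :=
      Module.Finite.equiv (MonoidAlgebra.coeffLinearEquiv (ULift.{u} ℤ)).symm
    show IsFinite (Spec.map _)
    rw [IsFinite.SpecMap_iff]
    exact RingHom.finite_algebraMap.mpr ‹_›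
  exact MorphismProperty.pullback_snd (P := @IsFinite) _ _ ‹_›

theorem mono_DSmap_mk {M N : Type} [AddCommGroup M] [AddCommGroup N] (φ : N →+ M) :
    Mono (Red.DSmap S (QuotientAddGroup.mk' φ.range)) :=
  ⟨fun a b hab => Gm.dsFn_ext fun q => by
    obtain ⟨m, rfl⟩ := QuotientAddGroup.mk'_surjective φ.range q
    rw [← Gm.dsFn_DSmap, ← Gm.dsFn_DSmap, hab]⟩

theorem iso_bc_of_fac {T V : Scheme.{u}} (k : V ⟶ T) {A B C : Over T} (a : A ⟶ C) (b : B ⟶ C) [Mono a] [Mono b]
    (hab : ∀ (X : Over V) (x : (Over.map k).obj X ⟶ A), ∃ y, y ≫ b = x ≫ a)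
    (hba : ∀ (X : Over V) (y : (Over.map k).obj X ⟶ B), ∃ x, x ≫ a = y ≫ b) :
    Nonempty (Red.bc k A ≅ Red.bc k B) := by
  obtain ⟨y, hy⟩ := hab (Red.bc k A) (BC.down k (𝟙 _))
  obtain ⟨x, hx⟩ := hba (Red.bc k B) (BC.down k (𝟙 _))
  refine ⟨⟨BC.up k y, BC.up k x, BC.down_injective ?_, BC.down_injective ?_⟩⟩
  · rw [BC.down_comp, BC.down_up, ← cancel_mono a, Category.assoc, hx, ← Category.assoc, ← BC.down_comp,
      Category.comp_id, BC.down_up, hy]
  · rw [BC.down_comp, BC.down_up, ← cancel_mono b, Category.assoc, hy, ← Category.assoc, ← BC.down_comp,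
      Category.comp_id, BC.down_up, hx]

/-- Locally a kernel between groups of multiplicative type is diagonalisable. -/
theorem ker_chart {H H' N : Over S} [GrpObj H] [GrpObj H'] (v : H ⟶ H') [IsMonHom v] (n : N ⟶ H)
    (hn : AlgGrp.IsKernel n v) {U : Scheme.{u}} (g : U ⟶ S) {M M' : Type} [AddCommGroup M] [AddCommGroup M']
    [AddGroup.FG M] [AddGroup.FG M'] (eH : Grp.mk (Red.bc g H) ≅ Grp.mk (Red.DS U M))
    (eH' : Grp.mk (Red.bc g H') ≅ Grp.mk (Red.DS U M')) (v' : U) :
    ∃ V : U.Opens, v' ∈ V ∧ ∃ (Q : Type) (_ : AddCommGroup Q),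
      Nonempty (Red.bc V.ι (Red.bc g N) ≅ Red.bc V.ι (Red.DS U Q)) := by
  let E := BaseChange.overIso eH
  let E' := BaseChange.overIso eH'
  let vg : Red.bc g H ⟶ Red.bc g H' := (Over.pullback g).map v
  haveI : IsMonHom vg := AlgClosedDescend.isMonHom_map g v
  haveI : IsMonHom E.inv := inferInstanceAs (IsMonHom (BaseChange.overIso eH.symm).hom)
  haveI : IsMonHom E'.inv := inferInstanceAs (IsMonHom (BaseChange.overIso eH'.symm).hom)
  haveI : IsMonHom E'.hom := BaseChange.isMonHom_overIso eH'
  let vU : Red.DS U M ⟶ Red.DS U M' := E.inv ≫ vg ≫ E'.hom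
  haveI : IsMonHom vU := inferInstance
  obtain ⟨φ, V, hv', -, hW⟩ := HomDS.exists_local_form (Character.isMultTypeFT_DS _ M) vU v'
  refine ⟨V, hv', M ⧸ φ.range, inferInstance, ?_⟩
  haveI : Mono n := ⟨fun a b hab => hn.hom_ext hab (toUnit_unique _ _)⟩
  let ng : Red.bc g N ⟶ Red.bc g H := (Over.pullback g).map n
  haveI : Mono ng := ⟨fun a b hab => BC.down_injective ((cancel_mono n).1 (by
    simpa only [ng, BC.down_map] using congrArg (BC.down g) hab))⟩
  haveI : Mono E.hom := @IsIso.mono_of_iso _ _ _ _ _ (Iso.isIso_hom _)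
  haveI := mono_DSmap_mk (S := U) φ
  refine iso_bc_of_fac V.ι (ng ≫ E.hom) (Red.DSmap U (QuotientAddGroup.mk' φ.range))
    (fun X x => exists_fac_quot φ _ ?_) (fun X y => ?_)
  · rw [← hW _ (Over.homMk X.hom rfl)]
    simp only [vU, Category.assoc, Iso.hom_inv_id_assoc]
    have h1 : (x ≫ ng) ≫ vg = 1 := BC.down_injective (by
      show BC.down g ((x ≫ ng) ≫ (Over.pullback g).map v) = _
      rw [BC.down_map, BC.down_map, Category.assoc, hn.w, BC.down_one, Hom.one_def, ← Category.assoc]
      exact congrArg (· ≫ η[H']) (toUnit_unique _ _))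
    rw [← Category.assoc x ng, ← Category.assoc (x ≫ ng), h1, MonObj.one_comp]
  · have h2 : (y ≫ Red.DSmap U (QuotientAddGroup.mk' φ.range)) ≫ vU = 1 := by
      rw [hW _ (Over.homMk X.hom rfl), Category.assoc, DSmap_kills, MonObj.comp_one]
    have h1 : BC.down g (y ≫ Red.DSmap U (QuotientAddGroup.mk' φ.range) ≫ E.inv) ≫ v = 1 := by
      rw [← BC.down_map]
      have h3 : (y ≫ Red.DSmap U (QuotientAddGroup.mk' φ.range) ≫ E.inv) ≫ vg = 1 := by
        have h4 := congrArg (· ≫ E'.inv) h2
        simpa only [vU, Category.assoc, Iso.hom_inv_id, Category.comp_id, MonObj.one_comp] using h4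
      erw [h3]
      exact BC.down_one
    refine ⟨BC.up g (hn.lift _ (toUnit _) (h1.trans Hom.one_def)), ?_⟩
    have h5 : BC.up g (hn.lift (BC.down g (y ≫ Red.DSmap U (QuotientAddGroup.mk' φ.range) ≫ E.inv)) (toUnit _)
        (h1.trans Hom.one_def)) ≫ ng = y ≫ Red.DSmap U (QuotientAddGroup.mk' φ.range) ≫ E.inv :=
      BC.down_injective (by
        show BC.down g (_ ≫ (Over.pullback g).map n) = _
        rw [BC.down_map, BC.down_up, hn.lift_fst])
    rw [← Category.assoc, h5, Category.assoc, Category.assoc, Iso.inv_hom_id, Category.comp_id]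

set_option backward.isDefEq.respectTransparency false in
theorem prop_ker (P : MorphismProperty Scheme.{u}) [IsZariskiLocalAtTarget P] [P.IsStableUnderBaseChange]
    [P.DescendsAlong (@Surjective ⊓ @Flat ⊓ @QuasiCompact)]
    {H H' N : Over S} [GrpObj H] [GrpObj H'] (hH : SGA3x.IsMultTypeFT H) (hH' : SGA3x.IsMultTypeFT H')
    (v : H ⟶ H') [IsMonHom v] (n : N ⟶ H) (hn : AlgGrp.IsKernel n v)
    (hP : ∀ (U : Scheme.{u}) (g : U ⟶ S) (V : U.Opens) (_ : (V : Scheme.{u})) (Q : Type) (_ : AddCommGroup Q),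
      Nonempty (Red.bc V.ι (Red.bc g N) ≅ Red.bc V.ι (Red.DS U Q)) → P (Red.DS U Q).hom) :
    P N.hom := by
  obtain ⟨S₁, f, hf, hs, hc, hloc⟩ := Charts.exists_common_charts hH hH'
  refine prop_local P N f hc fun s' => ?_
  obtain ⟨U, hU, M, M', iM, iM', hM, hM', ⟨eH⟩, ⟨eH'⟩⟩ := hloc s'
  haveI : AddGroup.FG M' := hM'
  haveI : AddGroup.FG M := hM
  refine ⟨U, hU, prop_local P (Red.bc (U.ι ≫ f) N) (𝟙 _) (Basic.isQCCover_of_qc _) fun v' => ?_⟩
  obtain ⟨V, hv', Q, iQ, ⟨e⟩⟩ := ker_chart v n hn (U.ι ≫ f) eH eH' v'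
  refine ⟨V, hv', ?_⟩
  haveI : IsIso e.hom.left := inferInstanceAs (IsIso ((Over.forget _).map e.hom))
  rw [Category.comp_id, ← Over.w e.hom]
  refine (P.cancel_left_of_respectsIso _ _).2 ?_
  exact MorphismProperty.pullback_snd (P := P) _ _ (hP _ (U.ι ≫ f) V ⟨v', hv'⟩ Q iQ ⟨e⟩)

set_option backward.isDefEq.respectTransparency false in
/-- Kernels between groups of multiplicative type are flat. -/
theorem flat_ker {H H' N : Over S} [GrpObj H] [GrpObj H'] (hH : SGA3x.IsMultTypeFT H) (hH' : SGA3x.IsMultTypeFT H')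
    (v : H ⟶ H') [IsMonHom v] (n : N ⟶ H) (hn : AlgGrp.IsKernel n v) : Flat N.hom :=
  prop_ker @Flat hH hH' v n hn fun U _ _ _ Q _ _ => DS.flat U Q

set_option backward.isDefEq.respectTransparency false in
/-- Kernels between groups of multiplicative type with finite fibres are finite. -/
theorem finite_ker {H H' N : Over S} [GrpObj H] [GrpObj H'] (hH : SGA3x.IsMultTypeFT H) (hH' : SGA3x.IsMultTypeFT H')
    (v : H ⟶ H') [IsMonHom v] (n : N ⟶ H) (hn : AlgGrp.IsKernel n v)
    (hfin : ∀ s : S, IsFinite (pullback.snd N.hom (S.fromSpecResidueField s))) : IsFinite N.hom := by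
  refine prop_ker @IsFinite hH hH' v n hn fun U g V z Q iQ ⟨e⟩ => ?_
  letI := iQ
  suffices Finite Q from isFinite_DS' U Q
  let L := (V : Scheme.{u}).residueField z
  let q := (V : Scheme.{u}).fromSpecResidueField z
  let c := q ≫ V.ι ≫ g
  haveI hNk : IsFinite (Red.bc c N).hom := by
    let s := (V.ι ≫ g) z
    have hk : c = Spec.map ((V.ι ≫ g).residueFieldMap z) ≫ S.fromSpecResidueField s :=
      ((V.ι ≫ g).SpecMap_residueFieldMap_fromSpecResidueField z).symm
    rw [hk]
    let e₁ := compIso (Spec.map ((V.ι ≫ g).residueFieldMap z)) (S.fromSpecResidueField s) N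
    haveI : IsIso e₁.inv.left := inferInstanceAs (IsIso ((Over.forget _).map e₁.inv))
    rw [← Over.w e₁.inv]
    exact (MorphismProperty.cancel_left_of_respectsIso @IsFinite _ _).2
      (MorphismProperty.pullback_snd (P := @IsFinite) _ _ (hfin s))
  let E : Red.DS (Spec L) Q ≅ Red.bc c N :=
    (BaseChange.overIso (DS.dsBC Q (q ≫ V.ι))).symm ≪≫ (compIso q V.ι _).symm ≪≫
      (Over.pullback q).mapIso e.symm ≪≫ (Over.pullback q).mapIso (compIso V.ι g N) ≪≫ compIso q (V.ι ≫ g) N
  haveI : IsIso E.hom.left := inferInstanceAs (IsIso ((Over.forget _).map E.hom))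
  haveI : IsFinite (Red.DS (Spec L) Q).hom := by
    rw [← Over.w E.hom]
    exact (MorphismProperty.cancel_left_of_respectsIso @IsFinite _ _).2 hNk
  exact H87.HomFam.finite_of_isFinite_spec ((V : Scheme.{u}).residueField z) Q

set_option backward.isDefEq.respectTransparency false in
theorem lfp_ker {A B C : Over S} [GrpObj C] (i : A ⟶ B) (f : B ⟶ C) [LocallyOfFinitePresentation f.left]
    (h : AlgGrp.IsKernel i f) : LocallyOfFinitePresentation A.hom := by
  have h1 : LocallyOfFinitePresentation (toUnit A).left :=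
    MorphismProperty.of_isPullback (P := @LocallyOfFinitePresentation) (h.map (Over.forget S)) ‹_›
  have h2 : A.hom = (toUnit A).left := ((Over.w (toUnit A)).symm.trans (Category.comp_id _))
  rw [h2]
  exact h1

set_option backward.isDefEq.respectTransparency false in
/-- Flatness may be checked on the fibres. -/
theorem flat_of_fibrewise {X Y : Over S} (a : X ⟶ Y) [Flat X.hom] [LocallyOfFinitePresentation X.hom]
    [LocallyOfFiniteType Y.hom]
    (h : ∀ s : S, Flat ((Over.pullback (S.fromSpecResidueField s)).map a).left) : Flat a.left := by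
  haveI : LocallyOfFinitePresentation a.left := by
    have : LocallyOfFinitePresentation (a.left ≫ Y.hom) := by rw [Over.w a]; infer_instance
    exact Groth.Agent.Lib.Flat55.FibreTransfer.locallyOfFinitePresentation_of_comp (f := a.left) (g := Y.hom) this
      inferInstance
  open Groth.Agent.Lib.ActSep Groth.Agent.Lib.GrpSch in
  have hx : ∀ x, x ∈ nhdLocus @Flat a.left := by
    intro x
    let R : Over S := Over.mk (S.fromSpecResidueField (X.hom x))
    obtain ⟨r, hr⟩ : x ∈ Set.range (fst X R).left := by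
      show x ∈ Set.range (Limits.pullback.fst X.hom (S.fromSpecResidueField (X.hom x)))
      rw [Scheme.Pullback.range_fst, Set.mem_preimage, Scheme.range_fromSpecResidueField]
      exact Set.mem_singleton _
    rw [← hr]
    refine (fibreCrit_flat a (X.hom x) r).1 ⟨⊤, trivial, ?_⟩
    haveI : Flat (a ▷ R).left := by rw [← map_left_eq_whiskerRight a]; exact h (X.hom x)
    infer_instance
  choose U hU hUP using hx
  refine (IsZariskiLocalAtSource.iff_of_iSup_eq_top (P := @Flat) U ?_).2 hUP
  exact top_le_iff.1 fun x _ => TopologicalSpace.Opens.mem_iSup.2 ⟨x, hU x⟩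

set_option backward.isDefEq.respectTransparency false in
set_option maxHeartbeats 1000000 in
/-- Surjective homomorphisms of reductive groups with fibrewise finite central kernel. -/
theorem kernel_central_finite {G' G K : Over S}
    [GrpObj G'] [GrpObj G] (hG' : Red.IsReductive G') (hG : Red.IsReductive G) (f : G' ⟶ G) [IsMonHom f]
    (hf : Surjective f.left) (i : K ⟶ G') (hK : AlgGrp.IsKernel i f)
    (hfin : ∀ s : S, IsFinite (K.hom.fiberToSpecResidueField s))
    (hcen : ∀ (s : S) (X : Over (Spec (S.residueField s))) (x : X ⟶ Red.bc (S.fromSpecResidueField s) K)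
      (g : X ⟶ Red.bc (S.fromSpecResidueField s) G'),
      (x ≫ (Over.pullback (S.fromSpecResidueField s)).map i) * g = g * (x ≫ (Over.pullback (S.fromSpecResidueField s)).map i)) :
    Flat f.left ∧ IsFinite K.hom ∧
      ∀ (X : Over S) (x : X ⟶ K) (g : X ⟶ G'), (x ≫ i) * g = g * (x ≫ i) := by
  haveI := hG'.1
  haveI := hG'.2.1
  haveI := hG.1
  haveI := hG.2.1
  haveI := hf
  haveI hflat : Flat f.left := flat_of_fibrewise f fun s => by
    let k := S.fromSpecResidueField s
    haveI : Smooth (Red.bc k G).hom := inferInstanceAs (Smooth (pullback.snd G.hom k))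
    haveI : Smooth (Red.bc k G').hom := inferInstanceAs (Smooth (pullback.snd G'.hom k))
    haveI : IsAffineHom (Red.bc k G).hom :=
      isAffineHom_isStableUnderBaseChange.of_isPullback (IsPullback.of_hasPullback G.hom k) inferInstance
    haveI : IsAffineHom (Red.bc k G').hom :=
      isAffineHom_isStableUnderBaseChange.of_isPullback (IsPullback.of_hasPullback G'.hom k) inferInstance
    haveI : IsMonHom ((Over.pullback k).map f : Red.bc k G' ⟶ Red.bc k G) := AlgClosedDescend.isMonHom_map k f
    haveI : Surjective ((Over.pullback k).map f : Red.bc k G' ⟶ Red.bc k G).left :=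
      MorphismProperty.overPullbackMap (P := @Surjective) _ _ hf
    exact GrpQ.flat_of_surjective_of_smooth ((Over.pullback k).map f : Red.bc k G' ⟶ Red.bc k G)
  haveI : QuasiCompact f.left := by
    haveI : QuasiCompact (f.left ≫ G.hom) := by rw [Over.w]; infer_instance
    exact QuasiCompact.of_comp f.left G.hom
  haveI : LocallyOfFinitePresentation f.left := by
    have : LocallyOfFinitePresentation (f.left ≫ G.hom) := by rw [Over.w f]; infer_instance
    exact Groth.Agent.Lib.Flat55.FibreTransfer.locallyOfFinitePresentation_of_comp (f := f.left) (g := G.hom) this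
      inferInstance
  obtain ⟨Z', gZ', j', hj', hcl', hm'⟩ := exists_centre_closed hG'
  obtain ⟨Z, gZ, j, hj, hcl, hm⟩ := exists_centre_closed hG
  haveI := hj'.1
  haveI := hj'.2.1
  haveI := hj.1
  haveI := hj.2.1
  have hj'c : Cent j' := fun X q h => by
    simpa using (hj'.2.2 Z' j').1 ⟨𝟙 Z', Category.id_comp _⟩ X q h
  have hjc : Cent (j' ≫ f) := by
    intro T' p z
    let π : Over.mk (pullback.snd f.left z.left ≫ T'.hom) ⟶ T' := Over.homMk (pullback.snd f.left z.left) rfl
    let z' : Over.mk (pullback.snd f.left z.left ≫ T'.hom) ⟶ G' := Over.homMk (pullback.fst f.left z.left) (by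
      show pullback.fst f.left z.left ≫ G'.hom = pullback.snd f.left z.left ≫ T'.hom
      rw [← Over.w f, pullback.condition_assoc, Over.w z])
    have hz : z' ≫ f = π ≫ z := Over.OverMorphism.ext pullback.condition
    haveI : Epi π.left := Flat.epi_of_flat_of_surjective (pullback.snd f.left z.left)
    haveI : Epi π := Over.epi_of_epi_left π
    rw [← cancel_epi π, MonObj.comp_mul, MonObj.comp_mul, ← hz, ← Category.assoc, ← Category.assoc,
      ← MonObj.mul_comp, ← MonObj.mul_comp, hj'c _ (π ≫ p) z']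
  obtain ⟨v, hv⟩ := (hj.2.2 Z' (j' ≫ f)).2 fun X' q h => by simpa using hjc X' q h
  haveI : IsMonHom (v ≫ j) := by rw [hv]; infer_instance
  haveI : IsMonHom v := SmWeil.MaxTorusBC.isMonHom_of_mono_comp v j
  let N : Over S := Over.mk (pullback.fst i.left j'.left ≫ K.hom)
  let a : N ⟶ K := Over.homMk (pullback.fst i.left j'.left) rfl
  let n : N ⟶ Z' := Over.homMk (pullback.snd i.left j'.left) (by
    show pullback.snd i.left j'.left ≫ Z'.hom = pullback.fst i.left j'.left ≫ K.hom
    rw [← Over.w i, ← Over.w j', ← Category.assoc, ← pullback.condition, Category.assoc])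
  have han : a ≫ i = n ≫ j' := Over.OverMorphism.ext pullback.condition
  have hpb : IsPullback a n i j' := IsPullback.of_map (Over.forget S) han (IsPullback.of_hasPullback _ _)
  have hn : AlgGrp.IsKernel n v := by
    have h2 : IsPullback n (a ≫ toUnit K) (v ≫ j) η[G] := hv.symm ▸ hpb.flip.paste_vert hK
    have hη : η[Z] ≫ j = η[G] := IsMonHom.one_hom j
    have hw : n ≫ v = toUnit N ≫ η[Z] := by
      rw [← cancel_mono j, Category.assoc, Category.assoc, hη, h2.w]
      exact congrArg (· ≫ η[G]) (toUnit_unique _ _)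
    refine ⟨⟨hw⟩, ⟨PullbackCone.IsLimit.mk _ (fun c => h2.lift c.fst c.snd (by
      rw [← Category.assoc, c.condition, Category.assoc, hη])) (fun c => h2.lift_fst _ _ _)
      (fun c => toUnit_unique _ _) (fun c m h1 _ => h2.hom_ext (h1.trans (h2.lift_fst _ _ _).symm) (toUnit_unique _ _))⟩⟩
  haveI := flat_ker hm' hm v n hn
  haveI : IsClosedImmersion a.left := inferInstanceAs (IsClosedImmersion (pullback.fst i.left j'.left))
  haveI : LocallyOfFinitePresentation Z'.hom := MT.locallyOfFinitePresentation hm'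
  haveI : LocallyOfFinitePresentation Z.hom := MT.locallyOfFinitePresentation hm
  haveI : LocallyOfFinitePresentation v.left := by
    have : LocallyOfFinitePresentation (v.left ≫ Z.hom) := by rw [Over.w v]; infer_instance
    exact Groth.Agent.Lib.Flat55.FibreTransfer.locallyOfFinitePresentation_of_comp (f := v.left) (g := Z.hom) this
      inferInstance
  haveI hKlfp : LocallyOfFinitePresentation K.hom := lfp_ker i f hK
  haveI : LocallyOfFinitePresentation N.hom := lfp_ker n v hn
  haveI : Mono a.left := inferInstance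
  have hiso : ∀ s : S, IsIso ((Over.pullback (S.fromSpecResidueField s)).map a).left := fun s => by
    let k := S.fromSpecResidueField s
    haveI : Mono a := Over.mono_of_mono_left a
    have hc1 : Cent ((Over.pullback k).map i) := fun X q g => hcen s X q g
    have hc2 : Cent (BC.down k ((Over.pullback k).map i)) := (cent_bc k _).1 hc1
    obtain ⟨z, hz⟩ := (hj'.2.2 _ (BC.down k ((Over.pullback k).map i))).2 fun X q h => by simpa using hc2 X q h
    have hd : BC.down k (𝟙 (Red.bc k K)) ≫ i = BC.down k ((Over.pullback k).map i) := by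
      rw [← BC.down_map, Category.id_comp]
    let r : Red.bc k K ⟶ Red.bc k N := BC.up k (hpb.lift (BC.down k (𝟙 _)) z (by rw [hd, hz]))
    have h1 : r ≫ (Over.pullback k).map a = 𝟙 (Red.bc k K) :=
      BC.down_injective (by rw [BC.down_map, BC.down_up, hpb.lift_fst])
    haveI : IsSplitEpi ((Over.pullback k).map a) := ⟨⟨r, h1⟩⟩
    haveI : IsIso ((Over.pullback k).map a) := isIso_of_mono_of_isSplitEpi _
    exact inferInstanceAs (IsIso ((Over.forget _).map ((Over.pullback k).map a)))
  haveI : Flat a.left := flat_of_fibrewise a fun s => by haveI := hiso s; infer_instance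
  haveI : LocallyOfFinitePresentation a.left := by
    have : LocallyOfFinitePresentation (a.left ≫ K.hom) := by rw [Over.w a]; infer_instance
    exact Groth.Agent.Lib.Flat55.FibreTransfer.locallyOfFinitePresentation_of_comp (f := a.left) (g := K.hom) this
      inferInstance
  haveI : IsOpenImmersion a.left := IsOpenImmersion.of_flat_of_mono _
  haveI : Surjective a.left := ⟨fun z => by
    obtain ⟨z', hz'⟩ : z ∈ Set.range (pullback.fst K.hom (S.fromSpecResidueField (K.hom z))) := by
      rw [Scheme.Pullback.range_fst, Set.mem_preimage, Scheme.range_fromSpecResidueField]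
      exact Set.mem_singleton _
    let b := ((Over.pullback (S.fromSpecResidueField (K.hom z))).map a).left
    haveI := hiso (K.hom z)
    obtain ⟨y, hy⟩ := b.homeomorph.surjective z'
    refine ⟨pullback.fst N.hom _ y, ?_⟩
    have hsq : b ≫ pullback.fst K.hom _ = pullback.fst N.hom _ ≫ a.left := pullback.lift_fst _ _ _
    rw [← Scheme.Hom.comp_apply, ← hsq, Scheme.Hom.comp_apply]
    exact (congrArg (pullback.fst K.hom _) hy).trans hz'⟩
  haveI : IsIso a.left :=
    isIso_of_isOpenImmersion_of_opensRange_eq_top a.left (TopologicalSpace.Opens.ext a.left.surjective.range_eq)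
  haveI : IsIso ((Over.forget S).map a) := ‹IsIso a.left›
  haveI : IsIso a := isIso_of_reflects_iso a (Over.forget S)
  refine ⟨hflat, ?_, fun X x g => ?_⟩
  · have : IsFinite N.hom := finite_ker hm' hm v n hn fun s => by
      haveI := hiso s
      have h1 : ((Over.pullback (S.fromSpecResidueField s)).map a).left ≫
          pullback.snd K.hom (S.fromSpecResidueField s) = pullback.snd N.hom (S.fromSpecResidueField s) :=
        Over.w ((Over.pullback (S.fromSpecResidueField s)).map a)
      rw [← h1]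
      exact (MorphismProperty.cancel_left_of_respectsIso @IsFinite _ _).2 (hfin s)
    rw [← (MorphismProperty.cancel_left_of_respectsIso @IsFinite a.left K.hom), Over.w a]
    exact this
  · have : x ≫ i = (x ≫ inv a ≫ n) ≫ j' := by
      rw [Category.assoc, Category.assoc, ← han, IsIso.inv_hom_id_assoc]
    rw [this]
    simpa using hj'c X (x ≫ inv a ≫ n) g

end Groth.Agent.Lib.CentW
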