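import Groth.Agent.Lib.CentW.Radical
import Groth.Agent.H1.Classical.ParabolicNormalizer
import Groth.Agent.H1.Classical.MaxTorusExists
import Groth.Agent.Lib.SmWeil.BorelHull

/-!
# Parabolic subgroups: étale local maximal tori, minimal parabolics
-/

set_option autoImplicit false
set_option linter.unusedSectionVars false
universe u

open CategoryTheory MonoidalCategory CartesianMonoidalCategory MonObj GrpObj AlgebraicGeometry
open CategoryTheory.Limits
open Groth.Agent.Lib.RedPts Groth.Agent.Lib.Tori Groth.Agent.H87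
open Groth.Agent.Lib.ImgMT.RedRank

namespace Groth.Agent.Lib.CentW

set_option linter.style.haveILetI false

variable {S : Scheme.{u}}

/-- A subgroup containing maximal tori of the geometric fibres has the reductive rank of the group. -/
theorem isRk_of_fibreTorus {H G : Over S} [GrpObj H] [GrpObj G] [Smooth H.hom] [IsAffineHom H.hom] [Smooth G.hom]
    [IsAffineHom G.hom] (k : H ⟶ G) [IsMonHom k] [Mono k] (hk : ∀ s : S, ∃ (T : Over (Spec (CommRingCat.of (AlgebraicClosure (S.residueField s))))) (_ : GrpObj T)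
      (t : T ⟶ Red.geomFibre s H), IsMonHom t ∧ Red.IsMaximalTorus (t ≫ (Over.pullback (Red.geomPt s)).map k)) {L : Type u} [Field L]
    [IsAlgClosed L] (p : Spec (CommRingCat.of L) ⟶ S) {r : ℕ} (h : IsRk H p r) : IsRk G p r := by
  rw [isRk_iff_geom] at h ⊢
  set s := ptOf p
  obtain ⟨r', hr'⟩ := exists_isRk G (Red.geomPt s)
  obtain ⟨u, hum, humono⟩ := hr'.1
  haveI := hum
  haveI := humono
  have hu := isMaximalTorus_of_isRk (Red.geomPt s) G hr' (Basic.isSplit_DS _ _) u
  obtain ⟨T, _, t, htm, ht⟩ := hk s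
  haveI := htm
  haveI : Smooth (Red.geomFibre s G).hom := inferInstanceAs (Smooth (pullback.snd G.hom _))
  haveI : IsAffineHom (Red.geomFibre s G).hom :=
    isAffineHom_isStableUnderBaseChange.of_isPullback (IsPullback.of_hasPullback G.hom _) inferInstance
  haveI : QuasiCompact (Red.geomFibre s G).hom := inferInstance
  obtain ⟨g, φ, hφ⟩ := SmWeil.exists_conjBy hu ht
  rw [← SmWeil.CartanTorus.comp_conjIso] at hφ
  haveI := SmWeil.CartanTorus.isMonHom_conjIso g
  haveI : Mono (SmWeil.CartanTorus.conjIso g).hom := @IsIso.mono_of_iso _ _ _ _ _ (Iso.isIso_hom _)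
  let v : Red.DS _ (Fin r' → ℤ) ⟶ Red.geomFibre s H := φ.hom ≫ t
  have hv : v ≫ (Over.pullback (Red.geomPt s)).map k = u ≫ (SmWeil.CartanTorus.conjIso g).hom := by
    rw [Category.assoc, hφ]
  haveI : IsMonHom (v ≫ (Over.pullback (Red.geomPt s)).map k) := hv.symm ▸ inferInstance
  haveI : IsMonHom v := SmWeil.MaxTorusBC.isMonHom_of_mono_comp v ((Over.pullback (Red.geomPt s)).map k)
  haveI : Mono (v ≫ (Over.pullback (Red.geomPt s)).map k) := by rw [hv]; exact mono_comp _ _
  haveI : Mono v := mono_of_mono v ((Over.pullback (Red.geomPt s)).map k)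
  have h1 : r' ≤ r := h.2 r' ⟨v, inferInstance, inferInstance⟩
  have h2 : r ≤ r' := hr'.2 r (subAt_mono_hom k h.1)
  rwa [le_antisymm h2 h1]

variable {G : Over S} [GrpObj G]

theorem parabolic_torus (hG : Red.IsReductive G) {P : Over S} [GrpObj P] {p : P ⟶ G} (hP : Red.IsParabolic p) (s : S) :
    ∃ (T : Over (Spec (CommRingCat.of (AlgebraicClosure (S.residueField s))))) (_ : GrpObj T)
      (t : T ⟶ Red.geomFibre s P), IsMonHom t ∧ Red.IsMaximalTorus (t ≫ (Over.pullback (Red.geomPt s)).map p) := by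
  obtain ⟨hpm, hpc, -, B, _, b, hB⟩ := hP.2.2.2 s
  haveI := hpm
  haveI := hpc
  haveI : IsAffine (Red.geomFibre s G).left := (hG.2.2 s).1
  haveI : Smooth (Red.geomFibre s G).hom := (hG.2.2 s).2.1
  haveI : ConnectedSpace ↥(Red.geomFibre s G).left := (hG.2.2 s).2.2.1
  haveI : Mono ((Over.pullback (Red.geomPt s)).map p) := Over.mono_of_mono_left _
  obtain ⟨T, _, iT, t, hT, ht⟩ := H1.Classical.MaxTorusExists.exists_maxTorus_borel hB
  haveI := hT.1
  haveI := hT.2.1
  have e : (t ≫ b) ≫ (Over.pullback (Red.geomPt s)).map p = iT := by rw [Category.assoc, ht]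
  haveI : IsMonHom ((t ≫ b) ≫ (Over.pullback (Red.geomPt s)).map p) := e.symm ▸ inferInstance
  refine ⟨T, inferInstance, t ≫ b,
    SmWeil.MaxTorusBC.isMonHom_of_mono_comp (t ≫ b) ((Over.pullback (Red.geomPt s)).map p), ?_⟩
  rw [e]
  exact SmWeil.isMaximalTorus_of_maximal iT hT.2.2.1 fun T' _ j _ _ f hT' hf => hT.2.2.2 T' j f hT' hf

/-- **A parabolic subgroup contains a maximal torus étale locally.** -/
theorem exists_maxTorus_parabolic (hG : Red.IsReductive G) {P : Over S} [GrpObj P] {p : P ⟶ G}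
    (hP : Red.IsParabolic p) (s : S) :
    ∃ (S' : Scheme.{u}) (f : S' ⟶ S) (_ : Etale f), s ∈ Set.range f.base ∧
      ∃ (T : Over S') (_ : GrpObj T) (t : T ⟶ Red.bc f P), IsMonHom t ∧
        Red.IsMaximalTorus (t ≫ (Over.pullback f).map p) := by
  have hpt := fun s => parabolic_torus hG hP s
  haveI := hG.1
  haveI := hG.2.1
  obtain ⟨hpm, hpc, hps, -⟩ := hP
  haveI := hpm
  haveI := hpc
  haveI := hps
  haveI : IsAffineHom P.hom := by rw [← Over.w p]; infer_instance
  haveI : Mono p := Over.mono_of_mono_left p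
  have hrk : ∀ (s : S) (r : ℕ), IsRk P (Red.geomPt s) r → IsRk G (Red.geomPt s) r := fun s r h =>
    isRk_of_fibreTorus p hpt (Red.geomPt s) h
  have hr : SGA3x.RedRankLocallyConstant P := fun t => by
    obtain ⟨U, hU, x, hx⟩ := redRankLocallyConstant_of_unipotentRankZero G (unipotentRankZero_of_reductive hG) t
    refine ⟨U, hU, x, fun t' ht' => ?_⟩
    obtain ⟨n, hn, hn'⟩ := (hasRedRank_iff G t' x).1 (hx t' ht')
    obtain ⟨r, hr⟩ := exists_isRk P (Red.geomPt t')
    exact (hasRedRank_iff P t' x).2 ⟨r, by rw [hn, hn'.unique (hrk t' r hr)], hr⟩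
  obtain ⟨S', f, hf, hfs, T, _, i, hi⟩ := ImgMT.EtTorus.etLocal_of_rankConst P hr
  haveI := hf
  haveI := hfs
  haveI := hi.1
  haveI := hi.2.1
  haveI : Smooth (Red.bc f G).hom := inferInstanceAs (Smooth (pullback.snd G.hom f))
  haveI : IsAffineHom (Red.bc f G).hom :=
    isAffineHom_isStableUnderBaseChange.of_isPullback (IsPullback.of_hasPullback G.hom f) inferInstance
  haveI : Smooth (Red.bc f P).hom := inferInstanceAs (Smooth (pullback.snd P.hom f))
  haveI : IsAffineHom (Red.bc f P).hom :=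
    isAffineHom_isStableUnderBaseChange.of_isPullback (IsPullback.of_hasPullback P.hom f) inferInstance
  haveI : Mono (i ≫ (Over.pullback f).map p) := mono_comp _ _
  exact ⟨S', f, hf, f.surjective s, T, inferInstance, i, inferInstance,
    (isMaximalTorus_iff_all _ hi.2.2.1).2 fun L _ _ k r hr' =>
      (isRk_comp_iff f G k r).2 (isRk_of_fibreTorus p hpt (k ≫ f) ((isRk_comp_iff f P k r).1
        ((isMaximalTorus_iff_all i hi.2.2.1).1 hi L k r hr')))⟩

theorem connected_parabolic (hG : Red.IsReductive G) {P : Over S} [GrpObj P] {p : P ⟶ G} (hP : Red.IsParabolic p)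
    (s : S) : ConnectedSpace ↥(Red.geomFibre s P).left := by
  haveI : IsAffine (Red.geomFibre s G).left := (hG.2.2 s).1
  haveI : Smooth (Red.geomFibre s G).hom := (hG.2.2 s).2.1
  haveI : ConnectedSpace ↥(Red.geomFibre s G).left := (hG.2.2 s).2.2.1
  exact (H1.Classical.ParabolicNormalizer.props_closed (hP.2.2.2 s)).1

/-- **A minimal parabolic over a connected base.** -/
theorem exists_minimal_parabolic [ConnectedSpace ↥S] (hG : Red.IsReductive G) :
    ∃ (P : Over S) (_ : GrpObj P) (p : P ⟶ G), Red.IsParabolic p ∧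
      ∀ (P₁ : Over S) [GrpObj P₁] (p₁ : P₁ ⟶ G) (f : P₁ ⟶ P), Red.IsParabolic p₁ → f ≫ p = p₁ → IsIso f := by
  haveI := hG.1
  haveI := hG.2.1
  have htop : Red.IsParabolic (𝟙 G) := by
    refine ⟨inferInstance, by rw [Over.id_left]; infer_instance, hG.2.1, fun s => ?_⟩
    haveI : Smooth (Red.geomFibre s G).hom := (hG.2.2 s).2.1
    haveI : IsAffine (Red.geomFibre s G).left := (hG.2.2 s).1
    haveI : ConnectedSpace ↥(Red.geomFibre s G).left := (hG.2.2 s).2.2.1
    haveI : QuasiCompact (Red.geomFibre s G).hom := inferInstance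
    obtain ⟨B, gB, b, hB, -⟩ := SmWeil.BorelHull.exists_borel_point (Red.geomFibre s G) 1
    rw [CategoryTheory.Functor.map_id]
    exact ⟨inferInstance, by rw [Over.id_left]; infer_instance, (hG.2.2 s).2.1, B, gB, b, by rwa [Category.comp_id]⟩
  obtain ⟨s₀⟩ : Nonempty ↥S := inferInstance
  let D : Set (WithBot ℕ∞) := {d | ∃ (P : Over S) (_ : GrpObj P) (p : P ⟶ G),
    Red.IsParabolic p ∧ topologicalKrullDim ↥(P.hom ⁻¹' {s₀}) = d}
  obtain ⟨d, ⟨P, gP, p, hP, hd⟩, hmin⟩ :=
    (IsWellFounded.wf (r := ((· < ·) : WithBot ℕ∞ → WithBot ℕ∞ → Prop))).has_min D ⟨_, G, inferInstance, 𝟙 G, htop, rfl⟩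
  refine ⟨P, gP, p, hP, fun P₁ _ p₁ f hP₁ hf => ?_⟩
  have hc := fun s => connected_parabolic hG hP s
  obtain ⟨hpm, hpc, hps, -⟩ := hP
  obtain ⟨hqm, hqc, hqs, -⟩ := id hP₁
  haveI := hpm
  haveI := hpc
  haveI := hps
  haveI := hqm
  haveI := hqc
  haveI := hqs
  haveI : IsClosedImmersion (f.left ≫ p.left) := by rw [← Over.comp_left, hf]; infer_instance
  haveI : IsClosedImmersion f.left := IsClosedImmersion.of_comp f.left p.left
  haveI : Mono f := Over.mono_of_mono_left f
  have hconst : ∀ (X : Over S) [GrpObj X] [Smooth X.hom] (s : S),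
      topologicalKrullDim ↥(X.hom ⁻¹' {s}) = topologicalKrullDim ↥(X.hom ⁻¹' {s₀}) := fun X _ _ s => by
    have h : IsLocallyConstant (fun t : S => topologicalKrullDim ↥(X.hom ⁻¹' {t})) :=
      (IsLocallyConstant.iff_eventually_eq _).2 fun t => by
        obtain ⟨U, hU, hd⟩ := exists_dim_nhds_smooth X t
        exact Filter.mem_of_superset hU hd
    exact h.apply_eq_of_preconnectedSpace s s₀
  refine isIso_of_geomFibres f fun s => ?_
  let k := Red.geomPt s
  haveI : Smooth ((Over.pullback k).obj P).hom := inferInstanceAs (Smooth (pullback.snd P.hom k))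
  haveI : ConnectedSpace ↥((Over.pullback k).obj P).left := hc s
  haveI : IsAffineHom P.hom := by rw [← Over.w p]; infer_instance
  haveI : IsAffineHom ((Over.pullback k).obj P).hom :=
    isAffineHom_isStableUnderBaseChange.of_isPullback (IsPullback.of_hasPullback P.hom k) inferInstance
  haveI : IsAffine ((Over.pullback k).obj P).left := isAffine_of_isAffineHom ((Over.pullback k).obj P).hom
  haveI : IrreducibleSpace ↥((Over.pullback k).obj P).left := ActSep.irreducibleSpace_of_connected _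
  haveI : IsClosedImmersion ((Over.pullback k).map f).left :=
    MorphismProperty.of_isPullback (P := @IsClosedImmersion) (Charts.isPullback_map k f) ‹_›
  haveI : Surjective ((Over.pullback k).map f).left := IsogLaw.surjective_of_dim_eq ((Over.pullback k).obj P).hom _ (by
    rw [show topologicalKrullDim ↥((Over.pullback k).obj P).left = _ from ImgMT.NilRank.dim_bc (C := P) k,
      show topologicalKrullDim ↥((Over.pullback k).obj P₁).left = _ from ImgMT.NilRank.dim_bc (C := P₁) k,
      hconst P, hconst P₁, hd]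
    exact not_lt.1 (hmin _ ⟨P₁, inferInstance, p₁, hP₁, rfl⟩))
  exact IsogLaw.isIso_of_closed_surjective _

end Groth.Agent.Lib.CentW
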