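import Groth.Agent.Lib.CentW.BorelTransp
import Groth.Agent.Lib.CentW.Parabolic
import Groth.Agent.Lib.SmWeil.BorelNormalizer

/-!
# The transporter of a parabolic subgroup into a larger one
-/

set_option autoImplicit false
set_option linter.style.haveILetI false
set_option linter.unusedSectionVars false
universe u

open CategoryTheory CategoryTheory.Limits AlgebraicGeometry MonoidalCategory CartesianMonoidalCategory
open CategoryTheory.MonObj CategoryTheory.GrpObj
open Groth.Agent.Lib Groth.Agent.H87
open Groth.Agent.Lib.RedPts Groth.Agent.Lib.SmWeil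

namespace Groth.Agent.Lib.CentW

variable {S : Scheme.{u}} {G Q I : Over S} [GrpObj G] [GrpObj Q] [GrpObj I]

/-- A point conjugating a parabolic subgroup into a parabolic subgroup containing it lies in the latter. -/
theorem factor_of_fwdFrom_parabolic (hG : Red.IsReductive G) (q : Q ⟶ G) (hQ : Red.IsParabolic q) (j : I ⟶ Q)
    (hI : Red.IsParabolic (j ≫ q)) {X : Over S} (g : X ⟶ G) (hg : BorelTransp.FwdFrom (j ≫ q) q g) :
    ∃ z, z ≫ q = g := by
  haveI := hG.1
  haveI := hG.2.1
  haveI := hQ.1
  haveI := hQ.2.1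
  haveI := hQ.2.2.1
  haveI := hI.1
  haveI := hI.2.1
  haveI := hI.2.2.1
  haveI : Mono q := Over.mono_of_mono_left q
  haveI : Mono (j ≫ q) := Over.mono_of_mono_left _
  haveI : IsMonHom j := H1.Classical.CentralizerBorel.isMonHom_of_mono_comp j q
  haveI : QuasiSeparated I.hom := by rw [← Over.w (j ≫ q)]; infer_instance
  haveI : GeometricallyConnected I.hom :=
    CartanOpen.geometricallyConnected_of_fibres I fun s =>
      isConnected_fibre_of_geom I s (connected_parabolic hG hI s)
  haveI := lfp_left q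
  obtain ⟨C, c, hc, hcfp, hC⟩ := exists_transporter_mono (j ≫ q) q
  haveI := hc
  haveI : Mono c := GrpQ.mono_of_left c
  haveI : LocallyOfFiniteType C.hom := by rw [← Over.w c]; infer_instance
  obtain ⟨u, hu⟩ := (hC q).2 fun X' x h =>
    ⟨x * (h ≫ j) * x⁻¹, by simp only [MonObj.mul_comp, GrpObj.inv_comp, Category.assoc]⟩
  haveI : Mono u := mono_of_mono_fac hu
  haveI : IsIso u := CartanAux.isIso_of_geom_fibres u fun s => by
    let γ' := Red.geomPt s
    haveI : IsAffine (Red.bc γ' G).left := (hG.2.2 s).1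
    haveI : Smooth (Red.bc γ' G).hom := (hG.2.2 s).2.1
    haveI : ConnectedSpace ↥(Red.bc γ' G).left := (hG.2.2 s).2.2.1
    obtain ⟨hqm, hqc, hqs, -⟩ := hQ.2.2.2 s
    haveI := hqm
    haveI := hqc
    haveI := hqs
    obtain ⟨-, -, -, B, gB, b, hB⟩ := hI.2.2.2 s
    letI := gB
    have hB' : Red.IsBorelOver _ ((b ≫ (Over.pullback γ').map j) ≫ (Over.pullback γ').map q) := by
      rw [Category.assoc, ← Functor.map_comp]
      exact hB
    obtain ⟨r, hr⟩ := BorelTransp.factor_of_fwdFrom ((Over.pullback γ').map q) (b ≫ (Over.pullback γ').map j) hB'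
      ((Over.pullback γ').map c) fun Y y h => by
        obtain ⟨κ, hκ⟩ := (hC (BC.down γ' y ≫ c)).1 ⟨_, rfl⟩ _ (𝟙 _) (BC.down γ' (h ≫ b))
        refine ⟨BC.up γ' κ, BC.down_injective ?_⟩
        rw [Category.assoc b, ← Functor.map_comp, ← Category.assoc h b]
        rw [BC.down_mul, BC.down_mul, BC.down_inv, BC.down_map, BC.down_map, BC.down_map, BC.down_up]
        simpa only [Category.id_comp] using hκ
    refine CartanTorus.isIso_of_split _ r ?_
    rw [← cancel_mono ((Over.pullback γ').map c), Category.assoc, ← Functor.map_comp, hu, hr, Category.id_comp]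
  obtain ⟨z, hz⟩ := (hC g).2 hg
  exact ⟨z ≫ CategoryTheory.inv u, by rw [← hu, Category.assoc, IsIso.inv_hom_id_assoc, hz]⟩

end Groth.Agent.Lib.CentW
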