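import Groth.Agent.Lib.CentW.Density

/-!
# The centre of a reductive group as intersection of maximal tori
-/

set_option autoImplicit false
set_option linter.unusedSectionVars false
universe u

open CategoryTheory MonoidalCategory CartesianMonoidalCategory MonObj GrpObj AlgebraicGeometry
open CategoryTheory.Limits
open Groth.Agent.Lib.RedPts Groth.Agent.Lib.Tori Groth.Agent.H87

namespace Groth.Agent.Lib.CentW

set_option linter.style.haveILetI false

variable {S : Scheme.{u}} {G : Over S} [GrpObj G]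

theorem hasMaxTorus_of_reductive (hG : Red.IsReductive G) : SGA3x.HasMaxTorusEtaleLocally G := by
  haveI := hG.1
  haveI := hG.2.1
  exact ImgMT.EtTorus.etLocal_of_rankConst G
    (redRankLocallyConstant_of_unipotentRankZero G (unipotentRankZero_of_reductive hG))

/-- In a reductive group, a point is central iff it lies in every maximal torus. -/
theorem cent_iff_inTori (hG : Red.IsReductive G) {Y : Over S} (y : Y ⟶ G) : Cent y ↔ InTori G y := by
  haveI := hG.1
  haveI := hG.2.1
  refine ⟨fun hy W w m T gT i hi => ?_,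
    cent_of_inTori G (isConnected_fibre_of_reductive hG) (hasMaxTorus_of_reductive hG) y⟩
  refine centralizer_self G (isConnected_fibre_of_reductive hG) (unipotentRankZero_of_reductive hG) w i hi _ _ ?_
  rw [cent_bc, BC.down_up]
  exact cent_comp m hy

theorem centre_iff_inter (hG : Red.IsReductive G) {Z : Over S} [GrpObj Z] (j : Z ⟶ G) (hZ : Red.IsCentre j)
    (X : Over S) (g : X ⟶ G) :
    (∃ z : X ⟶ Z, z ≫ j = g) ↔
      ∀ (Y : Scheme.{u}) (y : Y ⟶ X.left) (T : Over Y) [GrpObj T] (i : T ⟶ Red.bc (y ≫ X.hom) G),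
        Red.IsMaximalTorus i →
          ∃ p : Y ⟶ T.left, p ≫ T.hom = 𝟙 Y ∧
            p ≫ i.left ≫ Limits.pullback.fst G.hom (y ≫ X.hom) = y ≫ g.left := by
  rw [hZ.2.2 X g]
  have hc : (∀ (X' : Over S) (x : X' ⟶ X) (h : X' ⟶ G), (x ≫ g) * (h ≫ 𝟙 G) = (h ≫ 𝟙 G) * (x ≫ g)) ↔ Cent g :=
    ⟨fun h X' q a => by simpa using h X' q a, fun h X' q a => by simpa using h X' q a⟩
  rw [hc, cent_iff_inTori hG]
  constructor
  · intro h Y y T _ i hi
    obtain ⟨t, ht⟩ := h Y (y ≫ X.hom) (Over.homMk (U := (Over.map (y ≫ X.hom)).obj (Over.mk (𝟙 Y))) y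
      (by simp)) T inferInstance i hi
    refine ⟨t.left, Over.w t, ?_⟩
    have h1 := congrArg (fun f => (BC.down (y ≫ X.hom) f).left) ht
    simp only [BC.down_up, BC.down_left, Over.comp_left, Over.homMk_left, Category.assoc] at h1
    exact h1
  · intro h W w m T _ i hi
    have aux : ∀ (c : W ⟶ X.left) (w' : W ⟶ S), c ≫ X.hom = w' → ∀ (T : Over W) [GrpObj T]
        (i : T ⟶ Red.bc w' G), Red.IsMaximalTorus i → ∃ p : W ⟶ T.left, p ≫ T.hom = 𝟙 W ∧
          p ≫ i.left ≫ pullback.fst G.hom w' = c ≫ g.left := by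
      rintro c w' rfl T _ i hi
      exact h W c T i hi
    obtain ⟨p, hp, hpi⟩ := aux m.left w (by simpa using Over.w m) T i hi
    refine ⟨Over.homMk p hp, BC.down_injective (Over.OverMorphism.ext ?_)⟩
    simp only [BC.down_up, BC.down_left, Over.comp_left, Over.homMk_left, Category.assoc]
    exact hpi

end Groth.Agent.Lib.CentW
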