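import Groth.Agent.Lib.CentW.Centre
import Groth.Agent.Lib.MultSmooth.Subgroup
import Groth.Agent.H1.Classical.CentralizerRed
import Groth.Agent.Lib.SmWeil.TorusCentralizer

/-!
# Basic consequences of reductivity
-/

set_option autoImplicit false
set_option linter.unusedSectionVars false
universe u

open CategoryTheory MonoidalCategory CartesianMonoidalCategory MonObj GrpObj AlgebraicGeometry
open CategoryTheory.Limits

namespace Groth.Agent.Lib.CentW

set_option linter.style.haveILetI false

variable {S : Scheme.{u}}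

theorem isConnected_fibre_of_geom (H : Over S) (s : S) (h : ConnectedSpace ↥(Red.geomFibre s H).left) :
    _root_.IsConnected (H.hom ⁻¹' {s}) := by
  have hr : Set.range (Red.geomPt s) = {s} := by
    ext x
    refine ⟨?_, fun hx => ?_⟩
    · rintro ⟨y, rfl⟩
      exact S.fromSpecResidueField_apply s _
    · exact ⟨IsLocalRing.closedPoint _, (S.fromSpecResidueField_apply s _).trans hx.symm⟩
  haveI : ConnectedSpace ↥(pullback H.hom (Red.geomPt s)) := h
  rw [← hr, ← Scheme.Pullback.range_fst, ← Set.image_univ]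
  exact isConnected_univ.image _ (pullback.fst H.hom (Red.geomPt s)).continuous.continuousOn

variable {G : Over S} [GrpObj G]

theorem isConnected_fibre_of_reductive (hG : Red.IsReductive G) (s : S) : _root_.IsConnected (G.hom ⁻¹' {s}) :=
  isConnected_fibre_of_geom G s (hG.2.2 s).2.2.1

theorem unipotentRankZero_of_reductive (hG : Red.IsReductive G) : SGA3x.UnipotentRankZero G := by
  intro s T _ i hi
  haveI : IsAffine (Red.geomFibre s G).left := (hG.2.2 s).1
  haveI : Smooth (Red.geomFibre s G).hom := (hG.2.2 s).2.1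
  haveI : ConnectedSpace ↥(Red.geomFibre s G).left := (hG.2.2 s).2.2.1
  exact H1.Classical.CentralizerRed.isCentralizerOf_self (hG.2.2 s)
    ⟨hi.1, hi.2.1, hi.2.2.1, fun T' _ j _ _ g hT' hg => SmWeil.maximal_of_isMaximalTorus hi j g hT' hg⟩

/-- The centre of a reductive group. -/
theorem exists_centre_closed (hG : Red.IsReductive G) :
    ∃ (Z : Over S) (_ : GrpObj Z) (j : Z ⟶ G), Red.IsCentre j ∧ IsClosedImmersion j.left ∧ SGA3x.IsMultTypeFT Z := by
  haveI := hG.1
  haveI := hG.2.1
  obtain ⟨Z, gZ, z, hz, hzm, hzmo, hZ, -, -⟩ :=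
    exists_centre G (isConnected_fibre_of_reductive hG) (unipotentRankZero_of_reductive hG)
  haveI := hzm
  haveI := hzmo
  exact ⟨Z, gZ, z, hz, MultSmooth.isClosedImmersion_of_isMultTypeFT hZ z, hZ⟩

/-- The centraliser of a torus in a reductive group. -/
theorem exists_centralizer_typeR (hG : Red.IsReductive G) {Q : Over S} [GrpObj Q] (q : Q ⟶ G) [IsMonHom q] [Mono q]
    (hQ : Red.IsTorus Q) :
    ∃ (Z : Over S) (_ : GrpObj Z) (z : Z ⟶ G), Red.IsCentralizerOf q z ∧ RedSub.IsTypeR z ∧ Red.IsReductive Z := by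
  haveI := hG.1
  haveI := hG.2.1
  obtain ⟨Z, gZ, z, hz, hzc, hzs⟩ := SmWeil.exists_centralizer_torus hQ q
  haveI := hzc
  haveI := hzs
  haveI := hz.1
  haveI : IsAffineHom Z.hom := by rw [← Over.w z]; infer_instance
  have hred : ∀ s : S, Red.IsReductiveOver (AlgebraicClosure (S.residueField s)) (Red.geomFibre s Z) := fun s => by
    haveI : IsAffine (Red.geomFibre s G).left := (hG.2.2 s).1
    haveI : Smooth (Red.geomFibre s G).hom := (hG.2.2 s).2.1
    haveI : ConnectedSpace ↥(Red.geomFibre s G).left := (hG.2.2 s).2.2.1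
    exact H1.Classical.CentralizerRed.isReductiveOver_centralizer (hG.2.2 s) ((Over.pullback (Red.geomPt s)).map q)
      (Tori.Basic.isTorus_bc hQ _) ((Over.pullback (Red.geomPt s)).map z)
      (H1.Classical.FieldDescent.isCentralizerOf_bc (Red.geomPt s) hz)
  refine ⟨Z, gZ, z, hz, ⟨⟨hz.1, inferInstance⟩, hzs, inferInstance,
    fun s => isConnected_fibre_of_geom Z s (hred s).2.2.1, fun s => ?_⟩, inferInstance, hzs, hred⟩
  let k := Red.geomPt s
  haveI : Smooth ((Over.pullback k).obj G).hom := (hG.2.2 s).2.1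
  haveI : IsAffine (Red.geomFibre s G).left := (hG.2.2 s).1
  haveI : Smooth (Red.geomFibre s G).hom := (hG.2.2 s).2.1
  haveI : ConnectedSpace ↥(Red.geomFibre s G).left := (hG.2.2 s).2.2.1
  have hzk := H1.Classical.FieldDescent.isCentralizerOf_bc k hz
  haveI := hzk.1
  haveI := hzk.2.1
  obtain ⟨T, _, iT, r, hT, hr⟩ :=
    H1.Classical.CentralizerRed.exists_maxTorus_ge ((Over.pullback k).map q) (Tori.Basic.isTorus_bc hQ k)
  haveI := hT.1
  haveI := hT.2.1
  obtain ⟨t, ht⟩ := (hzk.2.2 T iT).2 fun X' x a => by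
    rw [← hr, ← Category.assoc a, ← MonObj.mul_comp, ← MonObj.mul_comp, Tori.Comm.mul_comm_of_isTorus hT.2.2.1]
  haveI : IsMonHom (t ≫ (Over.pullback k).map z) := ht.symm ▸ inferInstance
  refine ⟨T, inferInstance, t, SmWeil.MaxTorusBC.isMonHom_of_mono_comp t ((Over.pullback k).map z), ?_⟩
  rw [ht]
  exact SmWeil.isMaximalTorus_of_maximal iT hT.2.2.1 fun T' _ j _ _ g hT' hg => hT.2.2.2 T' j g hT' hg

end Groth.Agent.Lib.CentW
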