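import Groth.Agent.Lib.CentW.Weights
import Mathlib.RingTheory.Filtration
import Mathlib.RingTheory.Smooth.Basic
import Mathlib.RingTheory.LocalRing.ResidueField.Fiber

/-!
# Weights of the tangent space detect central points
-/

set_option autoImplicit false
set_option linter.unusedSectionVars false
universe u

open CategoryTheory MonoidalCategory CartesianMonoidalCategory MonObj GrpObj AlgebraicGeometry
open Groth.Agent.Lib.RedPts Groth.Agent.Lib.Tori
open scoped TensorProduct

namespace Groth.Agent.Lib.CentW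

set_option linter.style.haveILetI false

variable {R A : Type u} [CommRing R] [CommRing A] [Algebra R A]

section Basic

variable {B C : Type u} [CommRing B] [Algebra R B] [CommRing C] [Algebra R C]

theorem gpt_comp (ψ : B →ₐ[R] C) (φ : A →ₐ[R] B) : gpt ψ ≫ gpt φ = gpt (ψ.comp φ) :=
  gfn_injective fun a => by rw [gfn_comp_gpt, gfn_gpt, gfn_gpt]; rfl

theorem exists_gpt (g : GS R C ⟶ GS R A) : ∃ φ : A →ₐ[R] C, g = gpt φ := by
  let ψ : A →+* C := (Scheme.ΓSpecIso (CommRingCat.of C)).hom.hom.comp (gfn g)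
  have hψ : ∀ a, iota C (ψ a) = gfn g a := fun a =>
    (Scheme.ΓSpecIso (CommRingCat.of C)).commRingCatIsoToRingEquiv.symm_apply_apply (gfn g a)
  refine ⟨AlgHom.mk ψ fun r => iota_injective C ?_, gfn_injective fun a => ?_⟩
  · refine (hψ _).trans ?_
    rw [gfn_alg, ← gfn_alg (𝟙 (GS R C)), gfn_id]
  · exact (hψ a).symm.trans (gfn_gpt (R := R) (AlgHom.mk ψ _) a).symm

theorem gpt_inj {φ ψ : A →ₐ[R] C} (h : gpt φ = gpt ψ) : φ = ψ :=
  AlgHom.ext fun a => iota_injective C (by rw [← gfn_gpt, ← gfn_gpt, h])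

variable (R B) in
open TrivSqZeroExt in
/-- Extension of scalars of tangent vectors. -/
def scal : TrivSqZeroExt R R →ₐ[R] TrivSqZeroExt B B where
  toFun x := inl (algebraMap R B x.fst) + inr (algebraMap R B x.snd)
  map_one' := TrivSqZeroExt.ext (by simp only [fst_add, fst_inl, fst_inr, fst_one, map_one, add_zero])
    (by simp only [snd_add, snd_inl, snd_inr, snd_one, map_zero, add_zero])
  map_mul' x y := TrivSqZeroExt.ext (by simp only [fst_add, fst_inl, fst_inr, fst_mul, map_mul, add_zero])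
    (by simp only [snd_add, snd_inl, snd_inr, snd_mul, fst_add, fst_inl, fst_inr, add_zero, zero_add, smul_eq_mul,
      MulOpposite.smul_eq_mul_unop, MulOpposite.unop_op, map_add, map_mul])
  map_zero' := TrivSqZeroExt.ext (by simp only [fst_add, fst_inl, fst_inr, fst_zero, map_zero, add_zero])
    (by simp only [snd_add, snd_inl, snd_inr, snd_zero, map_zero, add_zero])
  map_add' x y := TrivSqZeroExt.ext (by simp only [fst_add, fst_inl, fst_inr, map_add, add_zero])
    (by simp only [snd_add, snd_inl, snd_inr, map_add, zero_add])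
  commutes' r := TrivSqZeroExt.ext
    (by simp only [fst_add, fst_inl, fst_inr, algebraMap_eq_inl', Algebra.algebraMap_self, RingHom.id_apply, add_zero])
    (by simp only [snd_add, snd_inl, snd_inr, algebraMap_eq_inl', map_zero, add_zero])

open TrivSqZeroExt in
theorem fst_scal (x : TrivSqZeroExt R R) : (scal R B x).fst = algebraMap R B x.fst := by
  show (inl (algebraMap R B x.fst) + inr (algebraMap R B x.snd) : TrivSqZeroExt B B).fst = _
  rw [fst_add, fst_inl, fst_inr, add_zero]

open TrivSqZeroExt in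
theorem snd_scal (x : TrivSqZeroExt R R) : (scal R B x).snd = algebraMap R B x.snd := by
  show (inl (algebraMap R B x.fst) + inr (algebraMap R B x.snd) : TrivSqZeroExt B B).snd = _
  rw [snd_add, snd_inl, snd_inr, zero_add]

end Basic

section Tan

open TrivSqZeroExt

variable (ε : A →ₐ[R] R)

/-- In an algebra with a section, a function killed by all tangent vectors is, at a prime, in the square of the
augmentation ideal. -/
theorem exists_tangent [Algebra.FormallySmooth R A] (p : Ideal R) (z : A) (hz : ε z = 0)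
    (h : ∀ ν : A →ₐ[R] TrivSqZeroExt R R, (∀ a, (ν a).fst = ε a) → (ν z).snd ∈ p) :
    z ∈ (RingHom.ker ε) ^ 2 ⊔ p.map (algebraMap R A) := by
  classical
  letI : Algebra A R := ε.toRingHom.toAlgebra
  haveI : IsScalarTower R A R := IsScalarTower.of_algebraMap_eq fun r => (ε.commutes r).symm
  have hsurj : Function.Surjective (algebraMap A R) := fun r => ⟨algebraMap R A r, ε.commutes r⟩
  obtain ⟨l, hl⟩ := (Algebra.FormallySmooth.iff_split_injection (R := R) (P := A) (A := R) hsurj).1 inferInstance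
  let zb : RingHom.ker (algebraMap A R) := ⟨z, hz⟩
  let w := KaehlerDifferential.kerCotangentToTensor R A R (Ideal.toCotangent _ zb)
  have hw : w = 1 ⊗ₜ[A] KaehlerDifferential.D R A z := rfl
  have hwp : w ∈ p • (⊤ : Submodule R (R ⊗[A] Ω[A⁄R])) := by
    obtain ⟨σ, hσ⟩ := Module.projective_def'.1 (inferInstance : Module.Projective R (R ⊗[A] Ω[A⁄R]))
    have hmem : ∀ i, σ w i ∈ p := fun i => by
      let φ : R ⊗[A] Ω[A⁄R] →ₗ[R] R := (Finsupp.lapply i).comp σ
      let ν : A →ₐ[R] TrivSqZeroExt R R :=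
        { toFun := fun a => inl (ε a) + inr (φ (1 ⊗ₜ[A] KaehlerDifferential.D R A a))
          map_one' := by simp
          map_mul' := fun a b => by
            have h1 : (1 : R) ⊗ₜ[A] (a • KaehlerDifferential.D R A b) =
                ε a • ((1 : R) ⊗ₜ[A] KaehlerDifferential.D R A b) := by
              rw [← TensorProduct.smul_tmul, Algebra.smul_def, TensorProduct.smul_tmul']
              rfl
            have h2 : (1 : R) ⊗ₜ[A] (b • KaehlerDifferential.D R A a) =
                ε b • ((1 : R) ⊗ₜ[A] KaehlerDifferential.D R A a) := by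
              rw [← TensorProduct.smul_tmul, Algebra.smul_def, TensorProduct.smul_tmul']
              rfl
            refine TrivSqZeroExt.ext (by simp) ?_
            simp only [snd_add, snd_inl, snd_inr, zero_add, snd_mul, fst_add, fst_inl, fst_inr, add_zero,
              Derivation.leibniz, TensorProduct.tmul_add, h1, h2, map_add, map_smul, smul_eq_mul,
              MulOpposite.smul_eq_mul_unop, MulOpposite.unop_op]
            ring
          map_zero' := by simp
          map_add' := fun a b => by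
            refine TrivSqZeroExt.ext (by simp) ?_
            simp [TensorProduct.tmul_add]
          commutes' := fun r => by
            refine TrivSqZeroExt.ext ?_ ?_
            · simp [algebraMap_eq_inl]
            · simp [algebraMap_eq_inl] }
      have h1 := h ν fun a => by simp [ν]
      simpa [ν, φ, ← hw] using h1
    have h2 : Finsupp.linearCombination R id (σ w) = w := LinearMap.congr_fun hσ w
    rw [← h2, Finsupp.linearCombination_apply]
    exact Submodule.sum_mem _ fun i _ => Submodule.smul_mem_smul (hmem i) trivial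
  let J : Ideal A := (RingHom.ker ε) ^ 2 ⊔ p.map (algebraMap R A)
  let Ψ : (RingHom.ker (algebraMap A R)).Cotangent →ₗ[A] A ⧸ J :=
    (Submodule.mapQ _ J LinearMap.id (show (RingHom.ker (algebraMap A R)) ^ 2 ≤ _ from le_sup_left)).comp
      (Ideal.cotangentToQuotientSquare _)
  have h3 : ∀ y ∈ p • (⊤ : Submodule R (R ⊗[A] Ω[A⁄R])), Ψ (l y) = 0 := fun y hy =>
    Submodule.smul_induction_on hy (fun r hr x _ => by
      rw [← IsScalarTower.algebraMap_smul A r x, map_smul, map_smul]
      obtain ⟨c, hc⟩ := Submodule.Quotient.mk_surjective J (Ψ (l x))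
      rw [← hc, ← Submodule.Quotient.mk_smul, Submodule.Quotient.mk_eq_zero, smul_eq_mul]
      exact J.mul_mem_right c (Ideal.mem_sup_right (Ideal.mem_map_of_mem _ hr)))
      fun x y hx hy => by rw [map_add, map_add, hx, hy, add_zero]
  have h4 := h3 w hwp
  rw [show l w = Ideal.toCotangent _ zb from LinearMap.congr_fun hl _] at h4
  exact (Submodule.Quotient.mk_eq_zero J).1 h4

end Tan

section Weights

variable [GrpObj (GS R A)] {M : Type} [AddCommGroup M] (u : Red.DS (Spec (CommRingCat.of R)) M ⟶ GS R A) [IsMonHom u]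

/-- The unit point. -/
theorem exists_counit :
    ∃ ε : A →ₐ[R] R, ∀ (C : Type u) [CommRing C] [Algebra R C],
      (1 : GS R C ⟶ GS R A) = gpt ((Algebra.ofId R C).comp ε) := by
  obtain ⟨ε, hε⟩ := exists_gpt (1 : GS R R ⟶ GS R A)
  exact ⟨ε, fun C _ _ => by rw [← gpt_comp, ← hε, MonObj.comp_one]⟩

theorem eps_proj [DecidableEq M] {ε : A →ₐ[R] R}
    (hε : ∀ (C : Type u) [CommRing C] [Algebra R C], (1 : GS R C ⟶ GS R A) = gpt ((Algebra.ofId R C).comp ε))
    (m : M) (a : A) : ε (proj u m a) = if m = 0 then ε a else 0 := by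
  classical
  let x : GS R (MonoidAlgebra R (Multiplicative M)) ⟶ Red.DS (Spec (CommRingCat.of R)) M :=
    dpt (MonoidAlgebra.of R (Multiplicative M))
  have h := gfn_conj u x 1 a
  rw [conj, _root_.mul_one, mul_inv_cancel, hε] at h
  simp only [x, gfn_gpt, AlgHom.comp_apply, dsFn_dpt, ← map_mul, ← map_sum, Algebra.ofId_apply,
    MonoidAlgebra.coe_algebraMap, Function.comp_apply, Algebra.algebraMap_self, RingHom.id_apply,
    MonoidAlgebra.of_apply, MonoidAlgebra.single_mul_single, _root_.one_mul, _root_.mul_one] at h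
  have h3 := congrArg (fun z : MonoidAlgebra R (Multiplicative M) => z.coeff (Multiplicative.ofAdd m))
    (iota_injective _ h)
  simp only [MonoidAlgebra.coeff_sum, Finsupp.finsetSum_apply, MonoidAlgebra.coeff_single,
    Finsupp.single_apply, ofAdd_toAdd] at h3
  rw [Finset.sum_eq_single (Multiplicative.ofAdd m)] at h3
  · simp only [toAdd_ofAdd, if_true] at h3
    rw [← h3]
    by_cases hm : m = 0
    · simp [hm]
    · rw [if_neg hm, if_neg]
      exact fun hh => hm (Multiplicative.ofAdd.injective hh.symm)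
  · intro x _ hx
    simp [hx]
  · intro hx
    simp [show proj u m a = 0 from Finsupp.notMem_support_iff.mp hx]

/-- A torus has no non-zero weights. -/
theorem torus_weight [DecidableEq M] {C : Type u} [CommRing C] [Algebra R C] (k : M) (hk : k ≠ 0)
    (s : GS R C ⟶ Red.DS (Spec (CommRingCat.of R)) M) (φ : A →ₐ[R] C) (hφ : s ≫ u = gpt φ) (a : A) :
    φ (proj u k a) = 0 := by
  classical
  let π : GS R (MonoidAlgebra C (Multiplicative M)) ⟶ GS R C := gpt MonoidAlgebra.singleOneAlgHom
  let x : GS R (MonoidAlgebra C (Multiplicative M)) ⟶ Red.DS (Spec (CommRingCat.of R)) M :=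
    dpt (MonoidAlgebra.of C (Multiplicative M))
  have hc : conj (x ≫ u) (gpt ((MonoidAlgebra.singleOneAlgHom (R := R)).comp φ)) =
      gpt ((MonoidAlgebra.singleOneAlgHom (R := R) (A := C) (M := Multiplicative M)).comp φ) := by
    rw [← gpt_comp, ← hφ, ← Category.assoc,
      show conj (x ≫ u) ((π ≫ s) ≫ u) = (x * (π ≫ s) * x⁻¹) ≫ u by
        rw [MonObj.mul_comp, MonObj.mul_comp, GrpObj.inv_comp]]
    refine congrArg (· ≫ u) (Gm.dsFn_ext fun m => ?_)
    rw [Gm.dsFn_mul, Gm.dsFn_mul, _root_.mul_comm (Gm.dsFn x m), _root_.mul_assoc, ← Gm.dsFn_mul, mul_inv_cancel,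
      Gm.dsFn_one, _root_.mul_one]
  have h := congrArg (fun z => gfn z (proj u k a)) hc
  simp only [gfn_conj, x, gfn_gpt, dsFn_dpt, AlgHom.comp_apply, ← map_mul, ← map_sum,
    show ∀ b : C, MonoidAlgebra.singleOneAlgHom (R := R) b = (MonoidAlgebra.single 1 b : MonoidAlgebra C (Multiplicative M))
      from fun b => rfl, MonoidAlgebra.of_apply, MonoidAlgebra.single_mul_single, _root_.one_mul,
    _root_.mul_one] at h
  have hne : (1 : Multiplicative M) ≠ Multiplicative.ofAdd k := fun hh =>
    hk (Multiplicative.ofAdd.injective hh.symm)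
  have h3 := congrArg (fun z : MonoidAlgebra C (Multiplicative M) => z.coeff (Multiplicative.ofAdd k))
    (iota_injective _ h)
  simp only [MonoidAlgebra.coeff_sum, Finsupp.finsetSum_apply, MonoidAlgebra.coeff_single,
    Finsupp.single_apply, ofAdd_toAdd, if_neg hne] at h3
  rw [Finset.sum_eq_single (Multiplicative.ofAdd k)] at h3
  · simpa [proj_proj] using h3
  · intro x _ hx
    simp [hx]
  · intro hx
    simp [show proj u k (proj u k a) = 0 from Finsupp.notMem_support_iff.mp hx]

open TrivSqZeroExt in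
/-- Tangent vectors at the unit add up. -/
theorem tan_mul {ε : A →ₐ[R] R}
    (hε : ∀ (C : Type u) [CommRing C] [Algebra R C], (1 : GS R C ⟶ GS R A) = gpt ((Algebra.ofId R C).comp ε))
    {B : Type u} [CommRing B] [Algebra R B] {φ ψ χ : A →ₐ[R] TrivSqZeroExt B B}
    (hφ : ∀ a, (φ a).fst = algebraMap R B (ε a)) (hψ : ∀ a, (ψ a).fst = algebraMap R B (ε a))
    (h : gpt φ * gpt ψ = gpt χ) (a : A) : (χ a).snd = (φ a).snd + (ψ a).snd := by
  let i₁ : TrivSqZeroExt B B →ₐ[R] TrivSqZeroExt B (B × B) := (map (LinearMap.inl B B B)).restrictScalars R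
  let i₂ : TrivSqZeroExt B B →ₐ[R] TrivSqZeroExt B (B × B) := (map (LinearMap.inr B B B)).restrictScalars R
  let π₁ : TrivSqZeroExt B (B × B) →ₐ[R] TrivSqZeroExt B B := (map (LinearMap.fst B B B)).restrictScalars R
  let π₂ : TrivSqZeroExt B (B × B) →ₐ[R] TrivSqZeroExt B B := (map (LinearMap.snd B B B)).restrictScalars R
  let σ : TrivSqZeroExt B (B × B) →ₐ[R] TrivSqZeroExt B B :=
    (map (LinearMap.fst B B B + LinearMap.snd B B B)).restrictScalars R
  obtain ⟨P, hP⟩ := exists_gpt (gpt (i₁.comp φ) * gpt (i₂.comp ψ))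
  have key : ∀ (π : TrivSqZeroExt B (B × B) →ₐ[R] TrivSqZeroExt B B) (φ' ψ' : A →ₐ[R] TrivSqZeroExt B B),
      π.comp (i₁.comp φ) = φ' → π.comp (i₂.comp ψ) = ψ' → gpt φ' * gpt ψ' = gpt (π.comp P) := by
    intro π φ' ψ' h1 h2
    rw [← gpt_comp, ← hP, MonObj.comp_mul, gpt_comp, gpt_comp, h1, h2]
  have hone : (1 : GS R (TrivSqZeroExt B B) ⟶ GS R A) =
      gpt ((Algebra.ofId R (TrivSqZeroExt B B)).comp ε) := hε _
  have hz : ∀ a, (Algebra.ofId R (TrivSqZeroExt B B)).comp ε a = inl (algebraMap R B (ε a)) := fun a => rfl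
  have e1 : π₁.comp P = φ := gpt_inj <| (key π₁ φ ((Algebra.ofId R _).comp ε)
    (AlgHom.ext fun a => TrivSqZeroExt.ext (by simp [π₁, i₁]) (by simp [π₁, i₁]))
    (AlgHom.ext fun a => TrivSqZeroExt.ext (by simp [π₁, i₂, hz, hψ]) (by simp [π₁, i₂, hz]))).symm.trans
      (by rw [← hone, _root_.mul_one])
  have e2 : π₂.comp P = ψ := gpt_inj <| (key π₂ ((Algebra.ofId R _).comp ε) ψ
    (AlgHom.ext fun a => TrivSqZeroExt.ext (by simp [π₂, i₁, hz, hφ]) (by simp [π₂, i₁, hz]))
    (AlgHom.ext fun a => TrivSqZeroExt.ext (by simp [π₂, i₂]) (by simp [π₂, i₂]))).symm.trans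
      (by rw [← hone, _root_.one_mul])
  have e3 : σ.comp P = χ := gpt_inj <| (key σ φ ψ
    (AlgHom.ext fun a => TrivSqZeroExt.ext (by simp [σ, i₁]) (by simp [σ, i₁]))
    (AlgHom.ext fun a => TrivSqZeroExt.ext (by simp [σ, i₂]) (by simp [σ, i₂]))).symm.trans h
  have h1 := congrArg (fun f : A →ₐ[R] TrivSqZeroExt B B => (f a).snd) e1
  have h2 := congrArg (fun f : A →ₐ[R] TrivSqZeroExt B B => (f a).snd) e2
  have h3 := congrArg (fun f : A →ₐ[R] TrivSqZeroExt B B => (f a).snd) e3
  simp only [π₁, π₂, σ, AlgHom.comp_apply, AlgHom.restrictScalars_apply, snd_map, LinearMap.add_apply,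
    LinearMap.fst_apply, LinearMap.snd_apply] at h1 h2 h3
  rw [← h1, ← h2, ← h3]

open TrivSqZeroExt in
/-- **A point in all conjugates of the torus kills the weights of the tangent space.** -/
theorem tan_kill [DecidableEq M] {ε : A →ₐ[R] R}
    (hε : ∀ (C : Type u) [CommRing C] [Algebra R C], (1 : GS R C ⟶ GS R A) = gpt ((Algebra.ofId R C).comp ε))
    {B : Type u} [CommRing B] [Algebra R B] (x : GS R B ⟶ Red.DS (Spec (CommRingCat.of R)) M)
    (hx : ∀ (C : Type u) [CommRing C] [Algebra R C] (q : GS R C ⟶ GS R B) (g : GS R C ⟶ GS R A),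
      ∃ t, g⁻¹ * (q ≫ x ≫ u) * g = t ≫ u)
    (χ : M → B) (hχ : ∀ m, iota B (χ m) = Gm.dsFn x m) (k : M) (hk : k ≠ 0)
    (ν : A →ₐ[R] TrivSqZeroExt R R) (hν : ∀ a, (ν a).fst = ε a) (a : A) :
    algebraMap R B (ν (proj u k a)).snd * (χ k - 1) = 0 := by
  classical
  let C : Type u := TrivSqZeroExt B B
  let νB : A →ₐ[R] C := (scal R B).comp ν
  let q₁ : GS R C ⟶ GS R B := gpt (inlAlgHom R B B)
  let g : GS R C ⟶ GS R A := gpt νB
  obtain ⟨t, ht⟩ := hx C q₁ g
  let s := t * (q₁ ≫ x)⁻¹
  have hw : g * (s ≫ u) = conj (q₁ ≫ x ≫ u) g := by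
    rw [MonObj.mul_comp, GrpObj.inv_comp, ← ht, Category.assoc, conj]
    simp only [_root_.mul_assoc, mul_inv_cancel_left]
  obtain ⟨ω, hω⟩ := exists_gpt (s ≫ u)
  obtain ⟨gm, hgm⟩ := exists_gpt (conj (q₁ ≫ x ≫ u) g)
  let π : C →ₐ[R] B := (fstHom B B B).restrictScalars R
  have hπν : π.comp νB = (Algebra.ofId R B).comp ε := AlgHom.ext fun a => by
    show (scal R B (ν a)).fst = algebraMap R B (ε a)
    rw [fst_scal, hν]
  have hω0 : ∀ a, (ω a).fst = algebraMap R B (ε a) := by
    have h1 : gpt π ≫ g = 1 := by rw [gpt_comp, hπν, ← hε B]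
    have h2 := congrArg (gpt π ≫ ·) hw
    simp only [conj, MonObj.comp_mul, GrpObj.comp_inv, h1, _root_.one_mul, _root_.mul_one, mul_inv_cancel] at h2
    rw [hω, gpt_comp, hε B] at h2
    intro a
    exact AlgHom.congr_fun (gpt_inj h2) a
  have h5 := tan_mul hε (φ := νB) (ψ := ω) (χ := gm) (fun a => by show (scal R B (ν a)).fst = _; rw [fst_scal, hν]) hω0
    (by rw [← hω, ← hgm]; exact hw) (proj u k a)
  rw [torus_weight u k hk s ω hω a] at h5
  simp only [snd_zero, add_zero] at h5
  have h6 := gfn_conj u (q₁ ≫ x) g (proj u k a)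
  rw [Category.assoc, hgm, gfn_gpt] at h6
  have hd : ∀ m, Gm.dsFn (q₁ ≫ x) m = iota C (inl (χ m)) := fun m => by
    rw [Gm.dsFn_comp, ← hχ]
    exact (gfn_gpt (R := R) (inlAlgHom R B B) (χ m) :)
  simp only [g, gfn_gpt, hd, ← map_mul, ← map_sum] at h6
  have h7 := iota_injective _ h6
  rw [Finset.sum_eq_single (Multiplicative.ofAdd k)] at h7
  · rw [h7, toAdd_ofAdd, proj_proj, if_pos rfl] at h5
    simp only [νB, AlgHom.comp_apply, C, snd_mul, fst_inl, snd_inl, smul_eq_mul, mul_zero, zero_add,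
      MulOpposite.smul_eq_mul_unop, MulOpposite.unop_op, snd_scal] at h5
    rw [mul_sub, _root_.mul_one, sub_eq_zero]
    linear_combination h5
  · intro x _ hx
    have : k ≠ x.toAdd := fun hh => hx (by rw [hh, ofAdd_toAdd])
    simp [proj_proj, this]
  · intro hx
    simp [show proj u k (proj u k a) = 0 from Finsupp.notMem_support_iff.mp hx]

theorem proj_mul_mem [DecidableEq M] (J : Ideal A) (m : M) (a b : A)
    (h : ∀ i j, i + j = m → proj u i a * proj u j b ∈ J) : proj u m (a * b) ∈ J := by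
  classical
  show (rho u (a * b)).coeff (Multiplicative.ofAdd m) ∈ J
  rw [map_mul, rho_eq u a, rho_eq u b, Finset.sum_mul]
  simp only [Finset.mul_sum, MonoidAlgebra.single_mul_single, MonoidAlgebra.coeff_sum, Finsupp.finsetSum_apply,
    MonoidAlgebra.coeff_single, Finsupp.single_apply]
  refine J.sum_mem fun i _ => J.sum_mem fun j _ => ?_
  split_ifs with hij
  · exact h _ _ (by rw [← toAdd_mul, hij, toAdd_ofAdd])
  · exact J.zero_mem

/-- **Tangent weights generate the weights on a connected fibre.** -/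
theorem weights_le [DecidableEq M] [Algebra.Smooth R A] {ε : A →ₐ[R] R}
    (hε : ∀ (C : Type u) [CommRing C] [Algebra R C], (1 : GS R C ⟶ GS R A) = gpt ((Algebra.ofId R C).comp ε))
    (p : PrimeSpectrum R) (hirr : IsIrreducible (PrimeSpectrum.comap (algebraMap R A) ⁻¹' {p})) (H : AddSubgroup M)
    (hH : ∀ m ≠ 0, ∀ a, (∃ ν : A →ₐ[R] TrivSqZeroExt R R, (∀ b, (ν b).fst = ε b) ∧ (ν (proj u m a)).snd ∉ p.asIdeal) →
      m ∈ H) :
    ∀ m ∉ H, ∀ a, p ∉ Alg.supp R (proj u m a) := by
  classical
  let I : Ideal A := RingHom.ker ε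
  let P : Ideal A := p.asIdeal.map (algebraMap R A)
  have base : ∀ m ∉ H, ∀ a, proj u m a ∈ I ^ 2 ⊔ P := fun m hm a => by
    have hm0 : m ≠ 0 := fun h => hm (h ▸ H.zero_mem)
    refine exists_tangent ε p.asIdeal _ (by rw [eps_proj u hε, if_neg hm0]) fun ν hν => ?_
    by_contra h
    exact hm (hH m hm0 a ⟨ν, hν, h⟩)
  have hI : ∀ m a, a ∈ I → proj u m a ∈ I := fun m a ha => by
    show ε (proj u m a) = 0
    rw [eps_proj u hε]
    split_ifs
    · exact ha
    · rfl
  have hpow : ∀ n m a, a ∈ I ^ n → proj u m a ∈ I ^ n := by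
    intro n
    induction n with
    | zero => intro m a _; simp
    | succ n ih =>
      intro m a ha
      rw [pow_succ] at ha ⊢
      refine Submodule.mul_induction_on ha (fun b hb c hc => ?_) fun b c hb hc => by
        rw [map_add]; exact add_mem hb hc
      exact proj_mul_mem u _ m b c fun i j _ => Ideal.mul_mem_mul (ih i b hb) (hI j c hc)
  have step : ∀ n, ∀ m ∉ H, ∀ a ∈ I ^ n, proj u m a ∈ I ^ (n + 1) ⊔ P := by
    intro n
    induction n with
    | zero =>
      intro m hm a _
      exact sup_le_sup_right (Ideal.pow_le_pow_right (by norm_num)) P (base m hm a)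
    | succ n ih =>
      intro m hm a ha
      rw [pow_succ] at ha
      refine Submodule.mul_induction_on ha (fun b hb c hc => ?_) fun b c hb hc => by
        rw [map_add]; exact add_mem hb hc
      refine proj_mul_mem u _ m b c fun i j hij => ?_
      have hor : i ∉ H ∨ j ∉ H := not_and_or.1 fun h => hm (hij ▸ H.add_mem h.1 h.2)
      have hmul : (I ^ (n + 1) ⊔ P) * I ≤ I ^ (n + 1 + 1) ⊔ P := by
        rw [Ideal.sup_mul, pow_succ I (n + 1)]
        exact sup_le_sup le_rfl (Ideal.mul_le_left.trans le_rfl)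
      have hmul' : I ^ n * (I ^ 2 ⊔ P) ≤ I ^ (n + 1 + 1) ⊔ P := by
        rw [Ideal.mul_sup, ← pow_add]
        exact sup_le_sup le_rfl (Ideal.mul_le_right.trans le_rfl)
      rcases hor with hi | hj
      · exact hmul (Ideal.mul_mem_mul (ih i hi b hb) (hI j c hc))
      · exact hmul' (Ideal.mul_mem_mul (hpow n i b hb) (base j hj c))
  intro m hm a
  have hall : ∀ n, proj u m a ∈ I ^ n ⊔ P := by
    intro n
    induction n with
    | zero => simp
    | succ n ih =>
      obtain ⟨b, hb, c, hc, hbc⟩ := Submodule.mem_sup.1 ih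
      have h1 : proj u m (proj u m a) = proj u m a := by rw [proj_proj, if_pos rfl]
      rw [← h1, ← hbc, map_add]
      refine add_mem (step n m hm b hb) (Ideal.mem_sup_right ?_)
      have hc' : c ∈ p.asIdeal • (⊤ : Submodule R A) := by rw [Ideal.smul_top_eq_map]; exact hc
      refine Submodule.smul_induction_on hc' (fun r hr x _ => ?_) fun x y hx hy => by
        rw [map_add]; exact add_mem hx hy
      rw [map_smul, Algebra.smul_def]
      exact P.mul_mem_right _ (Ideal.mem_map_of_mem _ hr)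
  haveI : IrreducibleSpace ↥(PrimeSpectrum.comap (algebraMap R A) ⁻¹' {p}) :=
    @IrreducibleSpace.mk _ _ (Subtype.preirreducibleSpace hirr.isPreirreducible) hirr.nonempty.to_subtype
  haveI : IrreducibleSpace (PrimeSpectrum (p.asIdeal.Fiber A)) := by
    let e := PrimeSpectrum.preimageHomeomorphFiber R A p
    have h := (IrreducibleSpace.isIrreducible_univ _).image e e.continuous.continuousOn
    rw [Set.image_univ, e.surjective.range_eq] at h
    exact @IrreducibleSpace.mk _ _ ⟨h.isPreirreducible⟩ ⟨e (Classical.arbitrary _)⟩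
  haveI : _root_.IsReduced (p.asIdeal.ResidueField ⊗[R] A) :=
    Groth.Agent.Lib.Flat55.NormalizationCodimOne.isReduced_of_smooth_alg p.asIdeal.ResidueField _
  haveI : IsDomain (p.asIdeal.Fiber A) := by
    have h1 : (nilradical (p.asIdeal.Fiber A)).IsPrime :=
      PrimeSpectrum.irreducibleSpace_iff_isPrime_nilradical.1 inferInstance
    rw [nilradical_eq_zero] at h1
    exact IsDomain.of_bot_isPrime _
  haveI : IsNoetherianRing (p.asIdeal.Fiber A) := Algebra.FiniteType.isNoetherianRing p.asIdeal.ResidueField _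
  let f : A →+* p.asIdeal.Fiber A := (Algebra.TensorProduct.includeRight (R := R)).toRingHom
  have hfP : P.map f ≤ ⊥ := by
    rw [Ideal.map_map, Ideal.map_le_iff_le_comap]
    intro r hr
    show f (algebraMap R A r) = 0
    rw [show f (algebraMap R A r) = algebraMap R (p.asIdeal.Fiber A) r from
      Algebra.TensorProduct.includeRight.commutes r, Algebra.TensorProduct.algebraMap_apply,
      Ideal.algebraMap_residueField_eq_zero.2 hr, TensorProduct.zero_tmul]
  let εp : p.asIdeal.Fiber A →ₐ[R] p.asIdeal.ResidueField :=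
    Algebra.TensorProduct.lift (AlgHom.id R _) ((Algebra.ofId R _).comp ε) fun _ _ => Commute.all _ _
  have hne : I.map f ≠ ⊤ := by
    intro htop
    have h1 : I.map f ≤ RingHom.ker εp := Ideal.map_le_iff_le_comap.2 fun b hb => by
      show εp (f b) = 0
      simp [εp, f, show ε b = 0 from hb]
    exact RingHom.ker_ne_top εp.toRingHom (top_unique (htop ▸ h1))
  have h0 : f (proj u m a) = 0 := by
    have h1 : f (proj u m a) ∈ ⨅ n : ℕ, (I.map f) ^ n := Submodule.mem_iInf _ |>.2 fun n => by
      rw [← Ideal.map_pow]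
      have h2 := Ideal.mem_map_of_mem f (hall n)
      rw [Ideal.map_sup] at h2
      exact (sup_le le_rfl (hfP.trans bot_le) : _ ≤ (I ^ n).map f) h2
    rwa [Ideal.iInf_pow_eq_bot_of_isDomain _ hne, Ideal.mem_bot] at h1
  intro hs
  refine hs ?_
  have h2 := congrArg (Algebra.TensorProduct.comm R p.asIdeal.ResidueField A) h0
  simpa [f] using h2

end Weights

end Groth.Agent.Lib.CentW
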