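import Groth.Prelude.Def_RedSub
import Groth.Agent.S4116
import Groth.Agent.Lib.CentW.InTori
import Groth.Agent.Lib.SmWeil.MaxTorusBC
import Groth.Agent.S5248
import Groth.Agent.Lib.SmWeil.CartanTorus

/-!
# The orbit map to the scheme of maximal tori
-/

set_option autoImplicit false
set_option linter.style.haveILetI false
set_option linter.unusedSectionVars false
universe u

open CategoryTheory CategoryTheory.Limits AlgebraicGeometry MonoidalCategory CartesianMonoidalCategory
open CategoryTheory.MonObj CategoryTheory.GrpObj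
open Groth.Agent.Lib Groth.Agent.Lib.RedPts

namespace Groth.Agent.Lib.CentW.TorQuot

variable {S : Scheme.{u}} {G T M : Over S} [GrpObj G] [GrpObj T] {H : Over M.left} [GrpObj H]
  (h : H ⟶ Red.bc M.hom G) (i : T ⟶ G)

/-- A point of the universal torus over a point of the scheme of tori. -/
def Mem {Y : Over S} (x : Y ⟶ M) (δ : Y ⟶ G) : Prop :=
  ∃ p : Y.left ⟶ H.left, p ≫ H.hom = x.left ∧ p ≫ h.left ≫ pullback.fst G.hom M.hom = δ.left

/-- The points of a conjugate of the torus. -/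
def InConj {Y : Over S} (x δ : Y ⟶ G) : Prop := ∃ t : Y ⟶ T, x * (t ≫ i) * x⁻¹ = δ

/-- The point of `G` over itself. -/
noncomputable def unv : 𝟙_ (Over G.left) ⟶ Red.bc G.hom G :=
  SmWeil.ptUp G.hom (Over.homMk (𝟙 G.left) : Over.mk G.hom ⟶ G)

/-- The family of conjugates, as a maximal torus over `G`. -/
noncomputable def fam : Red.bc G.hom T ⟶ Red.bc G.hom G :=
  (Over.pullback G.hom).map i ≫ (SmWeil.CartanTorus.conjIso (G := Red.bc G.hom G) unv).hom

theorem fam_points {X : Scheme.{u}} (y : X ⟶ G.left) (δ : X ⟶ G.left) :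
    (∃ p : X ⟶ (Red.bc G.hom T).left,
        p ≫ (Red.bc G.hom T).hom = y ∧ p ≫ (fam i).left ≫ pullback.fst G.hom G.hom = δ) ↔
      ∃ t : Over.mk (y ≫ G.hom) ⟶ T, ((Over.homMk y : Over.mk (y ≫ G.hom) ⟶ G) * (t ≫ i) *
        (Over.homMk y : Over.mk (y ≫ G.hom) ⟶ G)⁻¹).left = δ := by
  have key : ∀ P : Over.mk y ⟶ Red.bc G.hom T, (BC.down G.hom (P ≫ fam i)).left =
      ((Over.homMk y : (Over.map G.hom).obj (Over.mk y) ⟶ G) * (BC.down G.hom P ≫ i) *
        (Over.homMk y : (Over.map G.hom).obj (Over.mk y) ⟶ G)⁻¹).left := fun P => by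
    rw [fam, ← Category.assoc, SmWeil.CartanTorus.comp_conjIso, BC.down_mul, BC.down_mul, BC.down_inv,
      BC.down_map, unv, SmWeil.down_toUnit_ptUp]
    have e : (Over.map G.hom).map (toUnit (Over.mk y)) ≫ (SmWeil.unitIso G.hom).hom ≫
        (Over.homMk (𝟙 G.left) : Over.mk G.hom ⟶ G) = (Over.homMk y : (Over.map G.hom).obj (Over.mk y) ⟶ G) :=
      Over.OverMorphism.ext (by simp [SmWeil.unitIso])
    rw [e]
  constructor
  · rintro ⟨p, hp, hpδ⟩
    let P : Over.mk y ⟶ Red.bc G.hom T := Over.homMk p hp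
    refine ⟨BC.down G.hom P, ?_⟩
    rw [← key P, BC.down_left, Over.comp_left, Category.assoc]
    exact hpδ
  · rintro ⟨t, ht⟩
    let P : Over.mk y ⟶ Red.bc G.hom T := BC.up G.hom t
    refine ⟨P.left, Over.w P, ?_⟩
    have h1 := key P
    rw [BC.down_left, Over.comp_left, Category.assoc] at h1
    refine h1.trans (Eq.trans ?_ ht)
    show ((Over.homMk y : (Over.map G.hom).obj (Over.mk y) ⟶ G) * (BC.down G.hom (BC.up G.hom t) ≫ i) *
        (Over.homMk y : (Over.map G.hom).obj (Over.mk y) ⟶ G)⁻¹).left = _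
    rw [BC.down_up]

theorem conj_points {X : Scheme.{u}} (y : X ⟶ G.left) (δ : X ⟶ G.left) :
    (∃ p : X ⟶ (G ⊗ T).left,
        p ≫ (fst G T).left = y ∧ p ≫ (RedSub.conjFamily i).left ≫ pullback.fst G.hom G.hom = δ) ↔
      ∃ t : Over.mk (y ≫ G.hom) ⟶ T, ((Over.homMk y : Over.mk (y ≫ G.hom) ⟶ G) * (t ≫ i) *
        (Over.homMk y : Over.mk (y ≫ G.hom) ⟶ G)⁻¹).left = δ := by
  let yo : Over.mk (y ≫ G.hom) ⟶ G := Over.homMk y
  have key : ∀ t : Over.mk (y ≫ G.hom) ⟶ T,
      (lift yo t).left ≫ (RedSub.conjFamily i).left ≫ pullback.fst G.hom G.hom = (yo * (t ≫ i) * yo⁻¹).left := fun t => by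
    show (lift yo t).left ≫ pullback.lift (RedSub.conjMap i).left _ _ ≫ pullback.fst G.hom G.hom = _
    rw [pullback.lift_fst, ← Over.comp_left]
    refine congrArg (fun f : Over.mk (y ≫ G.hom) ⟶ G => f.left) ?_
    simp only [RedSub.conjMap, MonObj.comp_mul, GrpObj.comp_inv, lift_fst, lift_snd_assoc, _root_.mul_assoc]
  constructor
  · rintro ⟨p, hp, hpδ⟩
    let P : Over.mk (y ≫ G.hom) ⟶ G ⊗ T := Over.homMk p (by
      show p ≫ (G ⊗ T).hom = y ≫ G.hom
      rw [← hp, Category.assoc, Over.w (fst G T)])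
    refine ⟨P ≫ snd G T, ?_⟩
    rw [← key, show lift yo (P ≫ snd G T) = P from CartesianMonoidalCategory.hom_ext _ _
      ((lift_fst _ _).trans (Over.OverMorphism.ext hp.symm)) (lift_snd _ _)]
    exact hpδ
  · rintro ⟨t, ht⟩
    refine ⟨(lift yo t).left, ?_, ?_⟩
    · rw [← Over.comp_left, lift_fst]
      rfl
    · rw [key, ht]

variable (hM : RedSub.RepresentsTor G M H h)

include hM in
/-- Two points of the scheme of tori with the same torus are equal. -/
theorem ext_M [Smooth G.hom] [IsAffineHom G.hom] {X : Over S} (a b : X ⟶ M)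
    (hab : ∀ (Y : Over S) (y : Y ⟶ X) (δ : Y ⟶ G), Mem h (y ≫ a) δ ↔ Mem h (y ≫ b) δ) : a = b := by
  haveI : Smooth (Red.bc M.hom G).hom := inferInstanceAs (Smooth (pullback.snd G.hom M.hom))
  haveI : IsAffineHom (Red.bc M.hom G).hom :=
    isAffineHom_isStableUnderBaseChange.of_isPullback (IsPullback.of_hasPullback G.hom M.hom) inferInstance
  have hA : Red.IsMaximalTorus ((Over.pullback a.left).map h) :=
    SmWeil.MaxTorusBC.isMaximalTorus_bc h hM.1 a.left
  let f := a.left ≫ M.hom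
  let ι' : Red.bc a.left (Red.bc M.hom G) ≅ Red.bc f G := CentW.compIso a.left M.hom G
  have hA' : Red.IsMaximalTorus ((Over.pullback a.left).map h ≫ ι'.hom) := CentW.isMaximalTorus_iso hA ι'
  have hf : b.left ≫ M.hom = f := (Over.w b).trans (Over.w a).symm
  have hpts : ∀ (Z : Scheme.{u}) (y : Z ⟶ X.left) (δ : Z ⟶ G.left),
      (∃ p : Z ⟶ (Red.bc a.left H).left, p ≫ (Red.bc a.left H).hom = y ∧
          p ≫ ((Over.pullback a.left).map h ≫ ι'.hom).left ≫ pullback.fst G.hom f = δ) ↔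
        ∃ p : Z ⟶ H.left, p ≫ H.hom = y ≫ a.left ∧ p ≫ h.left ≫ pullback.fst G.hom M.hom = δ := by
    intro Z y δ
    have e : ∀ P : Over.mk y ⟶ Red.bc a.left H,
        P.left ≫ ((Over.pullback a.left).map h ≫ ι'.hom).left ≫ pullback.fst G.hom f =
          (BC.down a.left P).left ≫ h.left ≫ pullback.fst G.hom M.hom := fun P => by
      have h1 := congrArg (fun v => v.left)
        (CentW.down_compIso a.left M.hom G (P ≫ (Over.pullback a.left).map h))
      simp only [Over.comp_left, BC.down_map, BC.down_left, CentW.theta, Over.isoMk_hom_left, Iso.refl_hom,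
        Category.id_comp, Category.assoc] at h1
      simp only [ι', f, Over.comp_left, BC.down_left, Category.assoc]
      exact h1
    constructor
    · rintro ⟨p, hp, hpδ⟩
      let P : Over.mk y ⟶ Red.bc a.left H := Over.homMk p hp
      exact ⟨(BC.down a.left P).left, Over.w (BC.down a.left P), (e P).symm.trans hpδ⟩
    · rintro ⟨p, hp, hpδ⟩
      let P : Over.mk y ⟶ Red.bc a.left H :=
        BC.up a.left (Over.homMk p hp : (Over.map a.left).obj (Over.mk y) ⟶ H)
      refine ⟨P.left, Over.w P, (e P).trans ?_⟩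
      rw [BC.down_up]
      exact hpδ
  obtain ⟨g, -, huniq⟩ := hM.2 X.left f _ _ hA'
  refine Over.OverMorphism.ext ((huniq a.left ⟨rfl, hpts⟩).trans (huniq b.left ⟨hf, fun Z y δ => ?_⟩).symm)
  rw [hpts]
  let Y : Over S := Over.mk (y ≫ X.hom)
  let y' : Y ⟶ X := Over.homMk y
  by_cases hδ : δ ≫ G.hom = y ≫ X.hom
  · exact hab Y y' (Over.homMk δ hδ)
  · have hno : ∀ c : X.left ⟶ M.left, c ≫ M.hom = X.hom →
        ¬ ∃ p : Z ⟶ H.left, p ≫ H.hom = y ≫ c ∧ p ≫ h.left ≫ pullback.fst G.hom M.hom = δ := by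
      rintro c hc ⟨p, hp, rfl⟩
      refine hδ ?_
      simp only [Category.assoc, pullback.condition]
      have hw : h.left ≫ pullback.snd G.hom M.hom = H.hom := Over.w h
      rw [reassoc_of% hw, reassoc_of% hp, hc]
    exact iff_of_false (hno a.left (Over.w a)) (hno b.left (Over.w b))

include hM in
set_option backward.isDefEq.respectTransparency false in
/-- **The orbit map is the quotient by the normaliser.** -/
theorem exists_quotient (hG : Red.IsReductive G) (hT : Red.IsMaximalTorus i) {N : Over S} [GrpObj N] (n : N ⟶ G)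
    (hN : Red.IsNormalizerOf i n) :
    ∃ q : G ⟶ M, RedSub.SamePoints G G.hom (RedSub.conjFamily i) M h q.left ∧ RedSub.IsQuotient n q := by
  haveI := hG.1
  haveI := hG.2.1
  haveI := hT.1
  haveI := hT.2.1
  haveI := hN.1
  haveI := hN.2.1
  haveI : Smooth (Red.bc G.hom G).hom := inferInstanceAs (Smooth (pullback.snd G.hom G.hom))
  haveI : IsAffineHom (Red.bc G.hom G).hom :=
    isAffineHom_isStableUnderBaseChange.of_isPullback (IsPullback.of_hasPullback G.hom G.hom) inferInstance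
  haveI := SmWeil.CartanTorus.isMonHom_conjIso (G := Red.bc G.hom G) unv
  have hfam : Red.IsMaximalTorus (fam i) :=
    CentW.isMaximalTorus_iso (SmWeil.MaxTorusBC.isMaximalTorus_bc i hT G.hom) _
  obtain ⟨q₀, ⟨hq₀, hsp⟩, -⟩ := hM.2 G.left G.hom _ (fam i) hfam
  let q : G ⟶ M := Over.homMk q₀ hq₀
  refine ⟨q, fun X y δ => ((conj_points i y δ).trans (fam_points i y δ).symm).trans (hsp X y δ), ?_⟩
  have hmem : ∀ {Y : Over S} (x δ : Y ⟶ G), Mem h (x ≫ q) δ ↔ InConj i x δ := by
    intro Y x δ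
    refine ((hsp Y.left x.left δ.left).symm.trans (fam_points i x.left δ.left)).trans ?_
    let ε : Over.mk (x.left ≫ G.hom) ≅ Y := Over.isoMk (Iso.refl _) ((Category.id_comp _).trans (Over.w x).symm)
    have hx : (Over.homMk x.left : Over.mk (x.left ≫ G.hom) ⟶ G) = ε.hom ≫ x :=
      Over.OverMorphism.ext (Category.id_comp x.left).symm
    constructor
    · rintro ⟨t, ht⟩
      refine ⟨ε.inv ≫ t, ?_⟩
      rw [← cancel_epi ε.hom, MonObj.comp_mul, MonObj.comp_mul, GrpObj.comp_inv, Category.assoc,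
        Iso.hom_inv_id_assoc, ← hx]
      exact Over.OverMorphism.ext (ht.trans (Category.id_comp δ.left).symm)
    · rintro ⟨t, rfl⟩
      refine ⟨ε.hom ≫ t, ?_⟩
      rw [hx, Category.assoc, ← MonObj.comp_mul, ← GrpObj.comp_inv, ← MonObj.comp_mul]
      exact Category.id_comp _
  have hself : ∀ {X : Over S} (x : X ⟶ G) (z : X ⟶ N), (x * (z ≫ n)) ≫ q = x ≫ q := by
    intro X x z
    refine ext_M h hM _ _ fun Y y δ => ?_
    rw [← Category.assoc, ← Category.assoc, hmem, hmem, MonObj.comp_mul]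
    have hz := (hN.2.2 X (z ≫ n)).1 ⟨z, rfl⟩ Y y
    constructor
    · rintro ⟨t, rfl⟩
      obtain ⟨⟨t', ht'⟩, -⟩ := hz t
      exact ⟨t', by rw [← ht']; group⟩
    · rintro ⟨t, rfl⟩
      obtain ⟨-, t', ht'⟩ := hz t
      exact ⟨t', by rw [← ht']; group⟩
  have hdiff : ∀ {X : Over S} (x x' : X ⟶ G), x ≫ q = x' ≫ q → ∃ z : X ⟶ N, z ≫ n = x⁻¹ * x' := by
    intro X x x' he
    refine (hN.2.2 X (x⁻¹ * x')).2 fun Y y t => ?_
    have hY : ∀ δ, InConj i (y ≫ x) δ ↔ InConj i (y ≫ x') δ := fun δ => by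
      rw [← hmem, ← hmem, Category.assoc, Category.assoc, he]
    rw [MonObj.comp_mul, GrpObj.comp_inv]
    constructor
    · obtain ⟨t', ht'⟩ := (hY _).2 ⟨t, rfl⟩
      exact ⟨t', by
        rw [show (y ≫ x)⁻¹ * (y ≫ x') * (t ≫ i) * ((y ≫ x)⁻¹ * (y ≫ x'))⁻¹ =
          (y ≫ x)⁻¹ * ((y ≫ x') * (t ≫ i) * (y ≫ x')⁻¹) * (y ≫ x) from by group, ← ht']
        group⟩
    · obtain ⟨t', ht'⟩ := (hY _).1 ⟨t, rfl⟩
      exact ⟨t', by
        rw [show ((y ≫ x)⁻¹ * (y ≫ x'))⁻¹ * (t ≫ i) * ((y ≫ x)⁻¹ * (y ≫ x')) =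
          (y ≫ x')⁻¹ * ((y ≫ x) * (t ≫ i) * (y ≫ x)⁻¹) * (y ≫ x') from by group, ← ht']
        group⟩
  have hw : ∀ {X : Over S} (x : X ⟶ G ⊗ N),
      x ≫ (G ◁ n) ≫ μ[G] = (x ≫ fst G N) * ((x ≫ snd G N) ≫ n) := fun x => by
    rw [Hom.mul_def, ← Category.assoc]
    congr 1
    ext <;> simp
  have hcomm : fst G N ≫ q = ((G ◁ n) ≫ μ[G]) ≫ q := by
    have h1 := hw (𝟙 (G ⊗ N))
    simp only [Category.id_comp] at h1
    rw [h1, hself]
  have hpb : IsPullback (fst G N) ((G ◁ n) ≫ μ[G]) q q :=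
    IsPullback.of_isLimit' ⟨hcomm⟩ (PullbackCone.IsLimit.mk _
      (fun c => lift c.fst (hdiff c.fst c.snd c.condition).choose)
      (fun c => lift_fst _ _)
      (fun c => by
        rw [hw, lift_fst, lift_snd, (hdiff c.fst c.snd c.condition).choose_spec]
        group)
      (fun c m h1 h2 => CartesianMonoidalCategory.hom_ext _ _ (h1.trans (lift_fst _ _).symm) (by
        rw [lift_snd, ← cancel_mono n, (hdiff c.fst c.snd c.condition).choose_spec, ← h1, ← h2, hw]
        group)))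
  -- local sections
  haveI : Smooth (Red.bc M.hom G).hom := inferInstanceAs (Smooth (pullback.snd G.hom M.hom))
  haveI : IsAffineHom (Red.bc M.hom G).hom :=
    isAffineHom_isStableUnderBaseChange.of_isPullback (IsPullback.of_hasPullback G.hom M.hom) inferInstance
  haveI := hM.1.1
  haveI := hM.1.2.1
  obtain ⟨M', f, hf, hfs, g, hg⟩ := Groth.Agent.S4116.result M.left (Red.bc M.hom G) _ _
    ((Over.pullback M.hom).map i) h (SmWeil.MaxTorusBC.isMaximalTorus_bc i hT M.hom) hM.1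
  haveI := hf
  haveI := hfs
  have htr := SmWeil.transports_of_conjBy f g hg
  let g₀ : Over.mk f ⟶ Red.bc M.hom G := (SmWeil.unitIso f).inv ≫ BC.down f g
  let M₁ : Over S := Over.mk (f ≫ M.hom)
  let π : M₁ ⟶ M := Over.homMk f
  let σ : M₁ ⟶ G := (Over.homMk (𝟙 M') : M₁ ⟶ (Over.map M.hom).obj (Over.mk f)) ≫ BC.down M.hom g₀
  have hσ : σ ≫ q = π := by
    refine ext_M h hM _ _ fun Y y δ => ?_
    rw [← Category.assoc, hmem]
    let W : Over M.left := Over.mk (y.left ≫ f)
    let ζ : W ⟶ Over.mk f := Over.homMk y.left rfl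
    let ε : (Over.map M.hom).obj W ≅ Y := Over.isoMk (Iso.refl _) (by
      show 𝟙 _ ≫ Y.hom = (y.left ≫ f) ≫ M.hom
      rw [Category.id_comp, Category.assoc, ← Over.w y]
      rfl)
    have hy : ε.hom ≫ y ≫ σ = BC.down M.hom (ζ ≫ g₀) := by
      rw [BC.down_comp]
      simp only [σ, ← Category.assoc]
      congr 1
    constructor
    · rintro ⟨t, rfl⟩
      obtain ⟨b, hb⟩ := (htr W ζ).1 (BC.up M.hom (ε.hom ≫ t))
      refine ⟨b.left, Over.w b, ?_⟩
      have e1 := congrArg (BC.down M.hom) hb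
      rw [BC.down_mul, BC.down_mul, BC.down_inv, BC.down_map, BC.down_up, ← hy] at e1
      simp only [Category.assoc, ← GrpObj.comp_inv, ← MonObj.comp_mul] at e1
      have e2 := congrArg (fun v => v.left) e1
      simp [ε] at e2 ⊢
      try exact e2.symm
    · rintro ⟨p, hp, hpδ⟩
      let P : W ⟶ H := Over.homMk p hp
      obtain ⟨t, ht⟩ := (htr W ζ).2 P
      refine ⟨ε.inv ≫ BC.down M.hom t, ?_⟩
      have e1 := congrArg (BC.down M.hom) ht
      rw [BC.down_mul, BC.down_mul, BC.down_inv, BC.down_map, ← hy] at e1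
      have hP : BC.down M.hom (P ≫ h) = ε.hom ≫ δ := Over.OverMorphism.ext (by
        rw [BC.down_left, Over.comp_left, Category.assoc]
        exact hpδ.trans (Category.id_comp δ.left).symm)
      rw [hP] at e1
      rw [← cancel_epi ε.hom]
      simp only [MonObj.comp_mul, GrpObj.comp_inv, Category.assoc, Iso.hom_inv_id_assoc] at e1 ⊢
      rw [← e1]
      group
  haveI : Surjective q.left := ⟨fun m => by
    obtain ⟨m', rfl⟩ := f.surjective m
    exact ⟨σ.left m', by rw [← Scheme.Hom.comp_apply, ← Over.comp_left, hσ]; rfl⟩⟩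
  let α : N ⊗ M₁ ⟶ G := (snd N M₁ ≫ σ) * (fst N M₁ ≫ n)
  have hα : IsPullback α (snd N M₁) q π :=
    IsPullback.of_isLimit' ⟨by simp only [α]; rw [hself, Category.assoc, hσ]⟩ (PullbackCone.IsLimit.mk _
      (fun c => lift (hdiff (c.snd ≫ σ) c.fst (by rw [Category.assoc, hσ, c.condition])).choose c.snd)
      (fun c => by
        simp only [α, MonObj.comp_mul, lift_fst_assoc, lift_snd_assoc,
          (hdiff (c.snd ≫ σ) c.fst (by rw [Category.assoc, hσ, c.condition])).choose_spec]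
        group)
      (fun c => lift_snd _ _)
      (fun c m h1 h2 => CartesianMonoidalCategory.hom_ext _ _ (by
        rw [lift_fst, ← cancel_mono n,
          (hdiff (c.snd ≫ σ) c.fst (by rw [Category.assoc, hσ, c.condition])).choose_spec, ← h1, ← h2]
        simp only [α, MonObj.comp_mul, Category.assoc]
        group) (h2.trans (lift_snd _ _).symm)))
  haveI : Smooth N.hom := by
    obtain ⟨N', gN', n', hn', -, hs⟩ := Groth.Agent.S5248.result T G
      (H87.GmFibre.isMultTypeFT_of_isTorus hT.2.2.1) hG.2.1 hG.1 i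
    haveI := hn'.2.1
    haveI := hs
    obtain ⟨a, ha⟩ := (hn'.2.2 N n).2 ((hN.2.2 N n).1 ⟨𝟙 N, Category.id_comp n⟩)
    obtain ⟨b, hb⟩ := (hN.2.2 N' n').2 ((hn'.2.2 N' n').1 ⟨𝟙 N', Category.id_comp n'⟩)
    let e : N ≅ N' := ⟨a, b, by rw [← cancel_mono n, Category.assoc, hb, ha, Category.id_comp],
      by rw [← cancel_mono n', Category.assoc, ha, hb, Category.id_comp]⟩
    haveI : IsIso e.hom.left := ((Over.forget _).mapIso e).isIso_hom
    rw [← Over.w e.hom]
    infer_instance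
  have hsnd : Smooth (snd N M₁).left := MorphismProperty.pullback_snd (P := @Smooth) N.hom M₁.hom inferInstance
  have hπ : (@Surjective ⊓ @Flat ⊓ @LocallyOfFinitePresentation : MorphismProperty Scheme.{u}) π.left :=
    ⟨⟨hfs, show Flat f from inferInstance⟩, show LocallyOfFinitePresentation f from inferInstance⟩
  haveI : Smooth q.left := MorphismProperty.DescendsAlong.of_isPullback (P := @Smooth)
    (Q := @Surjective ⊓ @Flat ⊓ @LocallyOfFinitePresentation) (hα.map (Over.forget S)).flip hπ hsnd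
  exact ⟨inferInstance, inferInstance, inferInstance, hpb⟩

end Groth.Agent.Lib.CentW.TorQuot
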