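import Groth.Agent.Lib.CentW.Alg
import Groth.Agent.Lib.Tori.DS
import Groth.Agent.H87.CentralizerSplit
import Groth.Agent.Lib.RedPts.Gm
import Groth.Agent.Lib.RedPts.Points
import Groth.Agent.Lib.GrpSch.SmoothReduced
import Groth.Agent.Lib.Flat55.NormalizationCodimOne

/-!
# The weights of the conjugation by a diagonalisable group on an affine smooth group
-/

set_option autoImplicit false
set_option linter.unusedSectionVars false
set_option linter.unusedSimpArgs false
universe u

open CategoryTheory MonoidalCategory CartesianMonoidalCategory MonObj GrpObj AlgebraicGeometry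
open Groth.Agent.Lib.RedPts TensorProduct

namespace Groth.Agent.Lib.CentW

set_option linter.style.haveILetI false

variable {R : Type u} [CommRing R]

/-- An affine scheme over `Spec R`. -/
noncomputable abbrev GS (R A : Type u) [CommRing R] [CommRing A] [Algebra R A] : Over (Spec (CommRingCat.of R)) :=
  Over.mk (Spec.map (CommRingCat.ofHom (algebraMap R A)))

variable {A : Type u} [CommRing A] [Algebra R A] {B : Type u} [CommRing B] [Algebra R B]

/-- Global functions of a spectrum. -/
noncomputable abbrev iota (B : Type u) [CommRing B] : B →+* Γ(Spec (CommRingCat.of B), ⊤) :=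
  (Scheme.ΓSpecIso (CommRingCat.of B)).inv.hom

theorem iota_injective (B : Type u) [CommRing B] : Function.Injective (iota B) :=
  (Scheme.ΓSpecIso (CommRingCat.of B)).commRingCatIsoToRingEquiv.symm.injective

theorem iota_surjective (B : Type u) [CommRing B] : Function.Surjective (iota B) :=
  (Scheme.ΓSpecIso (CommRingCat.of B)).commRingCatIsoToRingEquiv.symm.surjective

/-- The functions defined by a point of an affine scheme. -/
noncomputable abbrev gfn {X : Over (Spec (CommRingCat.of R))} (g : X ⟶ GS R A) : A →+* Γ(X.left, ⊤) :=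
  Points.ringHomOf (A := A) g.left

theorem gfn_alg {X : Over (Spec (CommRingCat.of R))} (g : X ⟶ GS R A) (r : R) :
    gfn g (algebraMap R A r) = Points.baseHom X r :=
  Points.ringHomOf_algebraMap' X g.left (Over.w g) r

theorem gfn_injective {X : Over (Spec (CommRingCat.of R))} {g g' : X ⟶ GS R A}
    (h : ∀ a, gfn g a = gfn g' a) : g = g' := by
  refine Over.OverMorphism.ext ?_
  rw [Points.eq_toSpecΓ (A := A) g.left, Points.eq_toSpecΓ (A := A) g'.left]
  rw [show Points.ringHomOf (A := A) g.left = Points.ringHomOf (A := A) g'.left from RingHom.ext h]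

/-- A morphism of affine schemes. -/
noncomputable def gpt (φ : A →ₐ[R] B) : GS R B ⟶ GS R A :=
  Over.homMk (Spec.map (CommRingCat.ofHom φ.toRingHom)) (by
    show Spec.map _ ≫ Spec.map _ = Spec.map _
    rw [← Spec.map_comp, ← CommRingCat.ofHom_comp]
    exact congrArg (fun f => Spec.map (CommRingCat.ofHom f)) φ.comp_algebraMap)

theorem gfn_comp {X X' : Over (Spec (CommRingCat.of R))} (h : X' ⟶ X) (g : X ⟶ GS R A) (a : A) :
    gfn (h ≫ g) a = h.left.appTop (gfn g a) := Points.ringHomOf_comp h.left g.left a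

theorem gfn_comp_gpt {X : Over (Spec (CommRingCat.of R))} (h : X ⟶ GS R B) (φ : A →ₐ[R] B) (a : A) :
    gfn (h ≫ gpt φ) a = gfn h (φ a) := Affine.ringHomOf_specMap h.left φ.toRingHom a

theorem gfn_id (b : B) : gfn (𝟙 (GS R B)) b = iota B b := by
  show Points.ringHomOf (A := B) (𝟙 (GS R B).left) b = _
  rw [Points.ringHomOf_apply, Scheme.Hom.id_appTop]
  rfl

theorem gfn_gpt (φ : A →ₐ[R] B) (a : A) : gfn (gpt φ) a = iota B (φ a) := by
  rw [← Category.id_comp (gpt φ), gfn_comp_gpt, gfn_id]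

/-- A point of a diagonalisable group with values in an affine scheme. -/
noncomputable def dpt {M : Type} [AddCommGroup M] (χ : Multiplicative M →* B) :
    GS R B ⟶ Red.DS (Spec (CommRingCat.of R)) M :=
  Gm.dsPt (X := GS R B) ((iota B).toMonoidHom.comp χ)

theorem dsFn_comp_dpt {M : Type} [AddCommGroup M] {X : Over (Spec (CommRingCat.of R))} (h : X ⟶ GS R B)
    (χ : Multiplicative M →* B) (m : M) :
    Gm.dsFn (h ≫ dpt χ) m = gfn h (χ (Multiplicative.ofAdd m)) := by
  rw [Gm.dsFn_comp, dpt, Gm.dsFn_dsPt]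
  rfl

theorem dsFn_dpt {M : Type} [AddCommGroup M] (χ : Multiplicative M →* B) (m : M) :
    Gm.dsFn (dpt (R := R) χ) m = iota B (χ (Multiplicative.ofAdd m)) :=
  Gm.dsFn_dsPt _ _

section Weights

variable [GrpObj (GS R A)] {M : Type} [AddCommGroup M] (u : Red.DS (Spec (CommRingCat.of R)) M ⟶ GS R A) [IsMonHom u]

/-- Conjugation. -/
abbrev conj {G : Type*} [Group G] (y g : G) : G := y * g * y⁻¹

/-- The universal conjugate. -/
noncomputable abbrev univConj : GS R (MonoidAlgebra A (Multiplicative M)) ⟶ GS R A :=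
  conj (dpt (MonoidAlgebra.of A (Multiplicative M)) ≫ u) (gpt MonoidAlgebra.singleOneAlgHom)

/-- The coaction. -/
noncomputable def rho : A →+* MonoidAlgebra A (Multiplicative M) :=
  (Scheme.ΓSpecIso (CommRingCat.of (MonoidAlgebra A (Multiplicative M)))).hom.hom.comp (gfn (univConj u))

theorem iota_rho (a : A) : iota _ (rho u a) = gfn (univConj u) a :=
  (Scheme.ΓSpecIso (CommRingCat.of (MonoidAlgebra A (Multiplicative M)))).commRingCatIsoToRingEquiv.symm_apply_apply _

theorem rho_alg (r : R) : rho u (algebraMap R A r) = algebraMap R _ r := by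
  apply iota_injective
  rw [iota_rho, gfn_alg, ← gfn_alg (𝟙 (GS R (MonoidAlgebra A (Multiplicative M)))), gfn_id]

/-- The projection to a weight. -/
noncomputable def proj (m : M) : A →ₗ[R] A where
  toFun a := (rho u a).coeff (Multiplicative.ofAdd m)
  map_add' a b := by simp
  map_smul' r a := by
    rw [Algebra.smul_def, map_mul, rho_alg, ← Algebra.smul_def, RingHom.id_apply]
    simp

/-- The weights which occur in an element. -/
noncomputable def wts (a : A) : Finset (Multiplicative M) := (rho u a).coeff.support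

theorem rho_eq (a : A) :
    rho u a = ∑ m ∈ wts u a, MonoidAlgebra.single m (proj u m.toAdd a) := by
  exact (MonoidAlgebra.sum_coeff_single (rho u a)).symm

/-- **The functions of a conjugate.** -/
theorem gfn_conj {X : Over (Spec (CommRingCat.of R))} (x : X ⟶ Red.DS (Spec (CommRingCat.of R)) M)
    (g : X ⟶ GS R A) (a : A) :
    gfn (conj (x ≫ u) g) a = ∑ m ∈ wts u a, gfn g (proj u m.toAdd a) * Gm.dsFn x m.toAdd := by
  let χ : Multiplicative M →* Γ(X.left, ⊤) :=
    { toFun := fun m => Gm.dsFn x m.toAdd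
      map_one' := Gm.dsFn_zero x
      map_mul' := fun m n => Gm.dsFn_add x _ _ }
  let ev : MonoidAlgebra A (Multiplicative M) →+* Γ(X.left, ⊤) :=
    MonoidAlgebra.liftNCRingHom (gfn g) χ (fun _ _ => Commute.all _ _)
  have hev : ∀ m b, ev (MonoidAlgebra.single m b) = gfn g b * χ m := fun m b =>
    MonoidAlgebra.liftNCRingHom_single _ _ (fun _ _ => Commute.all _ _) m b
  let h : X ⟶ GS R (MonoidAlgebra A (Multiplicative M)) :=
    Over.homMk (X.left.toSpecΓ ≫ Spec.map (CommRingCat.ofHom ev)) (by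
      show (_ ≫ _) ≫ Spec.map _ = X.hom
      rw [Category.assoc, ← Spec.map_comp, ← CommRingCat.ofHom_comp, Points.eq_toSpecΓ (A := R) X.hom]
      refine congrArg (fun f => X.left.toSpecΓ ≫ Spec.map (CommRingCat.ofHom f)) (RingHom.ext fun r => ?_)
      show ev (MonoidAlgebra.single 1 (algebraMap R A r)) = _
      rw [hev, map_one, _root_.mul_one, gfn_alg]
      rfl)
  have hh : ∀ z, gfn h z = ev z := fun z => congr($(Points.ringHomOf_toSpecΓ ev) z)
  have hg : h ≫ gpt MonoidAlgebra.singleOneAlgHom = g := gfn_injective fun b => by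
    rw [gfn_comp_gpt, hh]
    show ev (MonoidAlgebra.single 1 b) = _
    rw [hev, map_one, _root_.mul_one]
  have hx : h ≫ dpt (MonoidAlgebra.of A (Multiplicative M)) = x := Gm.dsFn_ext fun m => by
    rw [dsFn_comp_dpt, hh, MonoidAlgebra.of_apply, hev, map_one, _root_.one_mul]
    rfl
  have hc : h ≫ univConj u = conj (x ≫ u) g := by
    rw [MonObj.comp_mul, MonObj.comp_mul, GrpObj.comp_inv, ← Category.assoc, hx, hg]
  rw [← hc, gfn_comp, ← iota_rho]
  refine (Points.ringHomOf_apply h.left _).symm.trans ((hh _).trans ?_)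
  rw [rho_eq, map_sum]
  exact Finset.sum_congr rfl fun m _ => hev _ _

theorem sum_proj (a : A) : ∑ m ∈ wts u a, proj u m.toAdd a = a := by
  apply iota_injective
  have h := gfn_conj u (1 : GS R A ⟶ Red.DS (Spec (CommRingCat.of R)) M) (𝟙 _) a
  rw [MonObj.one_comp, conj, _root_.one_mul, _root_.inv_one, _root_.mul_one, gfn_id] at h
  rw [map_sum, h]
  exact Finset.sum_congr rfl fun m _ => by rw [gfn_id, Gm.dsFn_one, _root_.mul_one]

/-- The projections are orthogonal idempotents. -/
theorem proj_proj (m n : M) (a : A) [DecidableEq M] :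
    proj u n (proj u m a) = if m = n then proj u m a else 0 := by
  classical
  let x₁ : GS R (MonoidAlgebra A (Multiplicative M × Multiplicative M)) ⟶ Red.DS (Spec (CommRingCat.of R)) M :=
    dpt ((MonoidAlgebra.of A _).comp (MonoidHom.inl (Multiplicative M) (Multiplicative M)))
  let x₂ : GS R (MonoidAlgebra A (Multiplicative M × Multiplicative M)) ⟶ Red.DS (Spec (CommRingCat.of R)) M :=
    dpt ((MonoidAlgebra.of A _).comp (MonoidHom.inr (Multiplicative M) (Multiplicative M)))
  let g : GS R (MonoidAlgebra A (Multiplicative M × Multiplicative M)) ⟶ GS R A := gpt MonoidAlgebra.singleOneAlgHom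
  have hc : conj ((x₁ * x₂) ≫ u) g = conj (x₁ ≫ u) (conj (x₂ ≫ u) g) := by
    rw [MonObj.mul_comp]
    simp only [conj, _root_.mul_inv_rev, _root_.mul_assoc]
  have h := congrArg (fun z => gfn z a) hc
  simp only [gfn_conj, gfn_gpt, g, x₁, x₂, Gm.dsFn_mul, dsFn_dpt, ← map_mul, ← map_sum] at h
  have h' := congrArg (fun z : MonoidAlgebra A (Multiplicative M × Multiplicative M) => z.coeff (Multiplicative.ofAdd m, Multiplicative.ofAdd n)) (iota_injective _ h)
  simp only [show ∀ b : A, MonoidAlgebra.singleOneAlgHom (R := R) b =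
      (MonoidAlgebra.single 1 b : MonoidAlgebra A (Multiplicative M × Multiplicative M)) from fun b => rfl, MonoidHom.comp_apply, MonoidAlgebra.of_apply,
    MonoidHom.inl_apply, MonoidHom.inr_apply, toAdd_ofAdd, ofAdd_toAdd, MonoidAlgebra.single_mul_single,
    Finset.sum_mul, _root_.mul_one, _root_.one_mul, Prod.mk_mul_mk, map_sum,
    MonoidAlgebra.coeff_sum, Finsupp.finsetSum_apply, MonoidAlgebra.coeff_single, Finsupp.single_apply,
    Prod.mk.injEq] at h'
  have hm : ∀ (k : M) (b : A), Multiplicative.ofAdd k ∉ wts u b → proj u k b = 0 := fun k b hk =>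
    Finsupp.notMem_support_iff.mp hk
  rw [Finset.sum_eq_single (Multiplicative.ofAdd m)] at h'
  rotate_left
  · intro x _ hx
    simp [hx]
  · intro hx
    simp [hm m a hx]
  rw [Finset.sum_eq_single (Multiplicative.ofAdd m)] at h'
  rotate_left
  · intro x _ hx
    exact Finset.sum_eq_zero fun y _ => by simp [hx]
  · intro hx
    simp [hm m a hx]
  rw [Finset.sum_eq_single (Multiplicative.ofAdd n)] at h'
  rotate_left
  · intro x _ hx
    simp [hx]
  · intro hx
    simpa using hm n _ hx
  simp only [toAdd_ofAdd, EmbeddingLike.apply_eq_iff_eq, true_and, and_self, if_true] at h'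
  exact h'.symm

theorem comm_iff {G : Type*} [Group G] (y g : G) : g * y = y * g ↔ conj y g = g := by
  rw [conj, mul_inv_eq_iff_eq_mul]
  exact eq_comm

omit [GrpObj (GS R A)] in
variable (R A) in
theorem flat_of_smooth [Algebra.Smooth R A] : Module.Flat R A := by
  haveI : Smooth (GS R A).hom := by
    show Smooth (Spec.map _)
    rw [HasRingHomProperty.Spec_iff (P := @Smooth), CommRingCat.hom_ofHom]
    exact RingHom.smooth_algebraMap.2 ‹_›
  have h : Flat (Spec.map (CommRingCat.ofHom (algebraMap R A))) := inferInstanceAs (Flat (GS R A).hom)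
  rw [HasRingHomProperty.Spec_iff (P := @Flat), CommRingCat.hom_ofHom] at h
  exact RingHom.flat_algebraMap_iff.mp h

variable (R A) in
theorem isReduced_fibre [Algebra.Smooth R A] (p : PrimeSpectrum R) :
    _root_.IsReduced (A ⊗[R] p.asIdeal.ResidueField) := by
  haveI : _root_.IsReduced (p.asIdeal.ResidueField ⊗[R] A) :=
    Groth.Agent.Lib.Flat55.NormalizationCodimOne.isReduced_of_smooth_alg p.asIdeal.ResidueField _
  exact isReduced_of_injective _ (Algebra.TensorProduct.comm R A p.asIdeal.ResidueField).injective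

theorem locSplit_DS (Q : Type) [AddCommGroup Q] (S : Scheme.{u}) :
    MultAvg.LocSplit (Red.DS S Q) :=
  ⟨S, 𝟙 S, inferInstance, ⟨fun x => ⟨x, rfl⟩⟩, fun V hV => ⟨V, hV.isCompact, Set.image_id _⟩, fun _ =>
    ⟨⊤, trivial, Q, inferInstance, ⟨Tori.DS.dsBC Q _⟩⟩⟩

/-- Outside `N` the weights vanish near a fibre on which they vanish. -/
theorem exists_killing_bad [Algebra.Smooth R A] (N : AddSubgroup M) (p : PrimeSpectrum R)
    (h : ∀ m ∉ N, ∀ a, p ∉ Alg.supp R (proj u m a)) :
    ∃ e : A, (∀ P : Ideal A, P.IsPrime → P.comap (algebraMap R A) = p.asIdeal → e ∉ P) ∧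
      ∀ m ∉ N, ∀ a, e * proj u m a = 0 := by
  classical
  let φ : M →+ M ⧸ N := QuotientAddGroup.mk' N
  haveI : IsMonHom (Red.DSmap (Spec (CommRingCat.of R)) φ) := Gm.isMonHom_DSmap _
  haveI : IsMonHom (Red.DSmap (Spec (CommRingCat.of R)) φ ≫ u) := inferInstance
  haveI : Smooth (GS R A).hom := by
    show Smooth (Spec.map _)
    rw [HasRingHomProperty.Spec_iff (P := @Smooth), CommRingCat.hom_ofHom]
    exact RingHom.smooth_algebraMap.2 ‹_›
  haveI : IsAffineHom (GS R A).hom := inferInstanceAs (IsAffineHom (Spec.map _))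
  obtain ⟨C, gC, c, hC, hcl, hsm⟩ := MultSmooth.exists_centralizer_smooth_split (locSplit_DS (M ⧸ N) _)
    (Red.DSmap (Spec (CommRingCat.of R)) φ ≫ u)
  obtain ⟨I, e, he⟩ := IsClosedImmersion.Spec_iff.mp hcl
  let j : GS R (A ⧸ I) ⟶ C := Over.homMk e.inv (by
    rw [← Over.w c, he, ← Category.assoc, Iso.inv_hom_id_assoc]
    show Spec.map _ ≫ Spec.map _ = Spec.map _
    rw [← Spec.map_comp]
    rfl)
  have hjc : j ≫ c = gpt (Ideal.Quotient.mkₐ R I) := Over.OverMorphism.ext (by
    show e.inv ≫ c.left = _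
    rw [he, Iso.inv_hom_id_assoc]
    rfl)
  haveI : IsIso j.left := inferInstanceAs (IsIso e.inv)
  haveI hsm' : Smooth (GS R (A ⧸ I)).hom := by
    rw [← Over.w j]; infer_instance
  haveI : Algebra.Smooth R (A ⧸ I) := by
    have h1 : Smooth (Spec.map (CommRingCat.ofHom (algebraMap R (A ⧸ I)))) := hsm'
    rw [HasRingHomProperty.Spec_iff (P := @Smooth), CommRingCat.hom_ofHom] at h1
    exact RingHom.smooth_algebraMap.1 h1
  haveI := flat_of_smooth R A
  haveI := flat_of_smooth R (A ⧸ I)
  have hI : I.FG := by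
    have h1 := Algebra.FinitePresentation.ker_fG_of_surjective (Ideal.Quotient.mkₐ R I) Ideal.Quotient.mk_surjective
    convert h1 using 1
    exact (Ideal.mk_ker (I := I)).symm
  have hbad : ∀ m ∉ N, ∀ a, proj u m a ∈ I := by
    intro m hm a
    let q : GS R (MonoidAlgebra (A ⧸ I) (Multiplicative (M ⧸ N))) ⟶ C :=
      gpt MonoidAlgebra.singleOneAlgHom ≫ j
    let t : GS R (MonoidAlgebra (A ⧸ I) (Multiplicative (M ⧸ N))) ⟶ Red.DS (Spec (CommRingCat.of R)) (M ⧸ N) :=
      dpt (MonoidAlgebra.of (A ⧸ I) (Multiplicative (M ⧸ N)))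
    have h1 := (hC.2.2 _ (q ≫ c)).1 ⟨q, rfl⟩ _ (𝟙 _) t
    rw [Category.id_comp, comm_iff, ← Category.assoc] at h1
    have h2 := congrArg (fun z => gfn z (proj u m a)) h1
    have hq : ∀ b, gfn (q ≫ c) b =
        iota _ (MonoidAlgebra.single 1 (Ideal.Quotient.mk I b) : MonoidAlgebra (A ⧸ I) (Multiplicative (M ⧸ N))) := by
      intro b
      rw [show q ≫ c = gpt MonoidAlgebra.singleOneAlgHom ≫ gpt (Ideal.Quotient.mkₐ R I) by
        rw [Category.assoc, hjc], gfn_comp_gpt, gfn_gpt]
      rfl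
    simp only [gfn_conj, hq, Gm.dsFn_DSmap, t, dsFn_dpt, ← map_mul, ← map_sum] at h2
    have h3 := congrArg (fun z : MonoidAlgebra (A ⧸ I) (Multiplicative (M ⧸ N)) =>
      z.coeff (Multiplicative.ofAdd (φ m))) (iota_injective _ h2)
    have hne : (1 : Multiplicative (M ⧸ N)) ≠ Multiplicative.ofAdd (φ m) := fun hh =>
      hm ((QuotientAddGroup.eq_zero_iff m).1 (Multiplicative.ofAdd.injective hh.symm))
    simp only [MonoidAlgebra.of_apply, MonoidAlgebra.single_mul_single, _root_.one_mul, _root_.mul_one,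
      MonoidAlgebra.coeff_sum, Finsupp.finsetSum_apply, MonoidAlgebra.coeff_single, Finsupp.single_apply,
      if_neg hne] at h3
    rw [← Ideal.Quotient.eq_zero_iff_mem]
    rw [Finset.sum_eq_single (Multiplicative.ofAdd m)] at h3
    · simpa [proj_proj] using h3
    · intro x _ hx
      have : m ≠ x.toAdd := fun hh => hx (by rw [hh, ofAdd_toAdd])
      simp [proj_proj, this]
    · intro hx
      have : proj u m (proj u m a) = 0 := Finsupp.notMem_support_iff.mp hx
      simp [this]
  have hfib : ∀ a ∈ I, a ⊗ₜ[R] (1 : p.asIdeal.ResidueField) = 0 := by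
    intro a ha
    let g : GS R (A ⊗[R] p.asIdeal.ResidueField) ⟶ GS R A := gpt Algebra.TensorProduct.includeLeft
    obtain ⟨z, hz⟩ := (hC.2.2 _ g).2 fun X' x t => by
      rw [comm_iff, ← Category.assoc]
      refine gfn_injective fun b => ?_
      rw [gfn_conj]
      conv_rhs => rw [← sum_proj u b, map_sum]
      refine Finset.sum_congr rfl fun k _ => ?_
      rw [Gm.dsFn_DSmap]
      by_cases hk : k.toAdd ∈ N
      · rw [show φ k.toAdd = 0 from (QuotientAddGroup.eq_zero_iff _).2 hk, Gm.dsFn_zero, _root_.mul_one]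
      · have h0 : proj u k.toAdd b ⊗ₜ[R] (1 : p.asIdeal.ResidueField) = 0 := not_not.mp (h _ hk b)
        rw [gfn_comp_gpt, Algebra.TensorProduct.includeLeft_apply, h0, map_zero, zero_mul]
    let j' : C ⟶ GS R (A ⧸ I) := Over.homMk e.hom (by
      rw [← Over.w c, he, Category.assoc]
      show _ = _ ≫ Spec.map _ ≫ Spec.map _
      rw [← Spec.map_comp]
      rfl)
    have hc' : c = j' ≫ gpt (Ideal.Quotient.mkₐ R I) := Over.OverMorphism.ext he
    have h1 := gfn_gpt (R := R) (Algebra.TensorProduct.includeLeft : A →ₐ[R] A ⊗[R] p.asIdeal.ResidueField) a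
    rw [show gpt (R := R) (Algebra.TensorProduct.includeLeft : A →ₐ[R] A ⊗[R] p.asIdeal.ResidueField) = g from rfl,
      ← hz, hc', ← Category.assoc, gfn_comp_gpt, Ideal.Quotient.mkₐ_eq_mk, Ideal.Quotient.eq_zero_iff_mem.2 ha,
      map_zero] at h1
    exact (iota_injective _ (h1.symm.trans (map_zero _).symm) :)
  obtain ⟨e', he', he''⟩ := Alg.exists_killing I hI p hfib
  exact ⟨e', he', fun m hm a => he'' _ (hbad m hm a)⟩

/-- Centrality of a point. -/
def Cent {S : Scheme.{u}} {G : Over S} [GrpObj G] {X : Over S} (y : X ⟶ G) : Prop :=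
  ∀ (X' : Over S) (q : X' ⟶ X) (g : X' ⟶ G), (q ≫ y) * g = g * (q ≫ y)

/-- A point of a scheme over an affine base, on an affine chart. -/
theorem exists_chart {X : Over (Spec (CommRingCat.of R))} (j : X.left.affineCover.I₀) :
    ∃ (B : Type u) (_ : CommRing B) (_ : Algebra R B) (e : X.left.affineCover.X j ≅ Spec (CommRingCat.of B))
      (q : GS R B ⟶ X), q.left = e.inv ≫ X.left.affineCover.f j := by
  let e : X.left.affineCover.X j ≅ Spec (CommRingCat.of Γ(X.left.affineCover.X j, ⊤)) :=
    haveI : IsAffine (X.left.affineCover.X j) := inferInstance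
    (X.left.affineCover.X j).isoSpec
  let ψ := Spec.preimage (e.inv ≫ X.left.affineCover.f j ≫ X.hom)
  letI : Algebra R Γ(X.left.affineCover.X j, ⊤) := ψ.hom.toAlgebra
  exact ⟨_, inferInstance, inferInstance, e, Over.homMk (e.inv ≫ X.left.affineCover.f j)
    ((Category.assoc _ _ _).trans (Spec.map_preimage _).symm), rfl⟩

theorem hom_ext_charts {X Y : Over (Spec (CommRingCat.of R))} (a b : X ⟶ Y)
    (h : ∀ (B : Type u) [CommRing B] [Algebra R B] (q : GS R B ⟶ X), q ≫ a = q ≫ b) : a = b := by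
  refine Over.OverMorphism.ext (X.left.affineCover.hom_ext _ _ fun j => ?_)
  obtain ⟨B, _, _, e, q, hq⟩ := exists_chart j
  have h1 := congrArg (fun f : GS R B ⟶ Y => f.left) (h B q)
  rw [Over.comp_left, Over.comp_left, hq, Category.assoc, Category.assoc, cancel_epi] at h1
  exact h1

theorem exists_algHom {C : Type u} [CommRing C] [Algebra R C] (g : GS R C ⟶ GS R A) :
    ∃ φ : A →ₐ[R] C, ∀ a, gfn g a = iota C (φ a) := by
  let ψ : A →+* C := (Scheme.ΓSpecIso (CommRingCat.of C)).hom.hom.comp (gfn g)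
  have hψ : ∀ a, iota C (ψ a) = gfn g a := fun a =>
    (Scheme.ΓSpecIso (CommRingCat.of C)).commRingCatIsoToRingEquiv.symm_apply_apply (gfn g a)
  refine ⟨AlgHom.mk ψ fun r => iota_injective C ?_, fun a => (hψ a).symm⟩
  refine (hψ _).trans ?_
  rw [gfn_alg, ← gfn_alg (𝟙 (GS R C)), gfn_id]

/-- **Central points of a split group, locally on the base.** -/
theorem exists_local [Algebra.Smooth R A] [AddGroup.FG M]
    (hirr : ∀ p : PrimeSpectrum R, IsIrreducible (PrimeSpectrum.comap (algebraMap R A) ⁻¹' {p}))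
    (s : PrimeSpectrum R) :
    ∃ W : Set (PrimeSpectrum R), IsOpen W ∧ s ∈ W ∧ ∃ N : AddSubgroup M,
      ∀ (X : Over (Spec (CommRingCat.of R))) (x : X ⟶ Red.DS (Spec (CommRingCat.of R)) M),
        (∀ z, X.hom z ∈ W) → (Cent (x ≫ u) ↔ ∀ m ∈ N, Gm.dsFn x m = 1) := by
  classical
  haveI := flat_of_smooth R A
  haveI := fun p => isReduced_fibre R A p
  haveI : Module.Finite ℤ M := Module.Finite.iff_addGroup_fg.mpr inferInstance
  let wt : PrimeSpectrum R → Set M := fun p => {m | ∃ a, p ∈ Alg.supp R (proj u m a)}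
  obtain ⟨S₀, hS₀, hspan⟩ := (Submodule.fg_span_iff_fg_span_finset_subset (R := ℤ) (wt s)).1
    (IsNoetherian.noetherian _)
  let N : AddSubgroup M := (Submodule.span ℤ (wt s)).toAddSubgroup
  have hNbad : ∀ m ∉ N, ∀ a, s ∉ Alg.supp R (proj u m a) := fun m hm a hsa =>
    hm (Submodule.subset_span ⟨a, hsa⟩)
  obtain ⟨e, he, heb⟩ := exists_killing_bad u N s hNbad
  let W : Set (PrimeSpectrum R) := PrimeSpectrum.comap (algebraMap R A) '' (PrimeSpectrum.basicOpen e : Set _) ∩
    ⋂ m ∈ (S₀ : Set M), ⋃ a, Alg.supp R (proj u m a)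
  have hWo : IsOpen W :=
    (PrimeSpectrum.isOpenMap_comap_of_hasGoingDown_of_finitePresentation _ (PrimeSpectrum.basicOpen e).isOpen).inter
      (S₀.finite_toSet.isOpen_biInter fun m _ => isOpen_iUnion fun a => Alg.isOpen_supp _)
  have hsW : s ∈ W := by
    obtain ⟨P, hP⟩ := (hirr s).nonempty
    refine ⟨⟨P, he P.asIdeal P.isPrime (congrArg PrimeSpectrum.asIdeal hP), hP⟩, Set.mem_iInter₂.2 fun m hm => ?_⟩
    obtain ⟨a, ha⟩ := hS₀ hm
    exact Set.mem_iUnion.2 ⟨a, ha⟩
  have hbadW : ∀ p ∈ W, ∀ m ∉ N, ∀ a, p ∉ Alg.supp R (proj u m a) := by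
    rintro p ⟨⟨P, hP, hPp⟩, -⟩ m hm a
    exact Alg.not_mem_supp p (hirr p).isPreirreducible (heb m hm a) ⟨P, hP, hPp⟩
  have hgen : ∀ p ∈ W, ∀ H : AddSubgroup M, (∀ m a, p ∈ Alg.supp R (proj u m a) → m ∈ H) → N ≤ H := by
    rintro p ⟨-, hp⟩ H hH m hm
    have hm' : m ∈ Submodule.span ℤ (S₀ : Set M) := hspan ▸ hm
    refine (Submodule.span_le (p := AddSubgroup.toIntSubmodule H)).2 (fun k hk => ?_) hm'
    obtain ⟨a, ha⟩ := Set.mem_iUnion.1 (Set.mem_iInter₂.1 hp k hk)
    exact hH k a ha
  refine ⟨W, hWo, hsW, N, fun X x hX => ⟨fun hcent n hn => ?_, fun hker X' q g => ?_⟩⟩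
  · rw [← Gm.gmFn_chi, ← Gm.gmFn_one (S := Spec (CommRingCat.of R)) (X := X)]
    refine congrArg Red.gmFn (hom_ext_charts _ _ fun B _ _ q => Gm.gmFn_injective ?_)
    rw [MonObj.comp_one, Gm.gmFn_one, ← Category.assoc, Gm.gmFn_chi]
    choose χ hχ using fun m => iota_surjective B (Gm.dsFn (q ≫ x) m)
    have hχ0 : χ 0 = 1 := iota_injective B (by rw [hχ, Gm.dsFn_zero, map_one])
    have hχadd : ∀ m m', χ (m + m') = χ m * χ m' := fun m m' =>
      iota_injective B (by rw [hχ, map_mul, hχ, hχ, Gm.dsFn_add])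
    have key : ∀ (m : M) (a : A), proj u m a ⊗ₜ[R] (χ m - 1) = 0 := by
      intro m a
      let q₂ : GS R (A ⊗[R] B) ⟶ GS R B := gpt Algebra.TensorProduct.includeRight
      let g : GS R (A ⊗[R] B) ⟶ GS R A := gpt Algebra.TensorProduct.includeLeft
      have h1 := hcent _ (q₂ ≫ q) g
      rw [eq_comm, comm_iff, Category.assoc, ← Category.assoc q, ← Category.assoc] at h1
      have h2 := congrArg (fun z => gfn z (proj u m a)) h1
      have hd : ∀ k, Gm.dsFn (q₂ ≫ q ≫ x) k = iota (A ⊗[R] B) ((1 : A) ⊗ₜ[R] χ k) := by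
        intro k
        rw [Gm.dsFn_comp, ← hχ]
        exact (gfn_gpt (R := R) (Algebra.TensorProduct.includeRight : B →ₐ[R] A ⊗[R] B) (χ k) :)
      simp only [gfn_conj, g, gfn_gpt, hd, ← map_mul, ← map_sum, Algebra.TensorProduct.includeLeft_apply,
        Algebra.TensorProduct.tmul_mul_tmul, _root_.mul_one, _root_.one_mul] at h2
      have h3 := iota_injective _ h2
      rw [Finset.sum_eq_single (Multiplicative.ofAdd m)] at h3
      · rw [tmul_sub, sub_eq_zero]
        simpa [proj_proj] using h3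
      · intro k _ hk
        have : m ≠ k.toAdd := fun hh => hk (by rw [hh, ofAdd_toAdd])
        simp [proj_proj, this]
      · intro hk
        have : proj u m (proj u m a) = 0 := Finsupp.notMem_support_iff.mp hk
        simp [this]
    rw [← hχ n, ← map_one (iota B)]
    refine congrArg (iota B) (sub_eq_zero.1 ?_)
    by_contra hne
    let J : Ideal B := LinearMap.ker (LinearMap.toSpanSingleton B B (χ n - 1))
    obtain ⟨Q, hQ, hJQ⟩ := Ideal.exists_le_maximal J fun hJ => hne (by
      simpa [J] using (Ideal.eq_top_iff_one J).1 hJ)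
    let p : PrimeSpectrum R := PrimeSpectrum.comap (algebraMap R B) ⟨Q, hQ.isPrime⟩
    have hp : p ∈ W := by
      have h1 : X.hom (q.left ⟨Q, hQ.isPrime⟩) = p :=
        congrArg (fun f : Spec (CommRingCat.of B) ⟶ Spec (CommRingCat.of R) => f ⟨Q, hQ.isPrime⟩) (Over.w q)
      exact h1 ▸ hX _
    let H : AddSubgroup M :=
      { carrier := {k | ∃ b ∉ Q, b * (χ k - 1) = 0}
        zero_mem' := ⟨1, fun h => hQ.ne_top ((Ideal.eq_top_iff_one Q).2 h), by rw [hχ0, sub_self, mul_zero]⟩
        add_mem' := fun {k k'} => by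
          rintro ⟨b, hb, hb0⟩ ⟨b', hb', hb0'⟩
          refine ⟨b * b', fun h => (hQ.isPrime.mem_or_mem h).elim hb hb', ?_⟩
          rw [hχadd, show b * b' * (χ k * χ k' - 1) = b' * (b * (χ k - 1)) * χ k' + b * (b' * (χ k' - 1)) by ring,
            hb0, hb0', mul_zero, zero_mul, mul_zero, add_zero]
        neg_mem' := fun {k} => by
          rintro ⟨b, hb, hb0⟩
          refine ⟨b, hb, ?_⟩
          have h1 := hχadd k (-k)
          rw [add_neg_cancel, hχ0] at h1
          calc b * (χ (-k) - 1) = b * (χ (-k) - χ k * χ (-k)) := by rw [← h1]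
            _ = -(b * (χ k - 1)) * χ (-k) := by ring
            _ = 0 := by rw [hb0, neg_zero, zero_mul] }
    obtain ⟨b, hb, hb0⟩ := hgen p hp H (fun k a hka => by
      obtain ⟨r, hr, hr0⟩ := Alg.exists_ann _ _ (key k a) p hka
      exact ⟨algebraMap R B r, hr, by rwa [← Algebra.smul_def]⟩) hn
    exact hb (hJQ (by simpa [J] using hb0))
  · rw [eq_comm, comm_iff, ← Category.assoc]
    refine hom_ext_charts _ _ fun B _ _ q' => ?_
    rw [MonObj.comp_mul, MonObj.comp_mul, GrpObj.comp_inv, ← Category.assoc q' _ u]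
    refine gfn_injective fun a => ?_
    rw [gfn_conj]
    conv_rhs => rw [← sum_proj u a, map_sum]
    refine Finset.sum_congr rfl fun k _ => ?_
    by_cases hk : k.toAdd ∈ N
    · rw [← Category.assoc q' q x, Gm.dsFn_comp, hker _ hk, map_one, _root_.mul_one]
    · obtain ⟨φ, hφ⟩ := exists_algHom (q' ≫ g)
      suffices h0 : φ (proj u k.toAdd a) = 0 by rw [hφ, h0, map_zero, zero_mul]
      by_contra hne
      let J : Ideal B := LinearMap.ker (LinearMap.toSpanSingleton B B (φ (proj u k.toAdd a)))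
      obtain ⟨Q, hQ, hJQ⟩ := Ideal.exists_le_maximal J fun hJ => hne (by
        simpa [J] using (Ideal.eq_top_iff_one J).1 hJ)
      let p : PrimeSpectrum R := PrimeSpectrum.comap (algebraMap R B) ⟨Q, hQ.isPrime⟩
      have hp : p ∈ W := by
        have h1 : X.hom ((q' ≫ q).left ⟨Q, hQ.isPrime⟩) = p :=
          congrArg (fun f : Spec (CommRingCat.of B) ⟶ Spec (CommRingCat.of R) => f ⟨Q, hQ.isPrime⟩) (Over.w (q' ≫ q))
        exact h1 ▸ hX _
      obtain ⟨e', he', heb'⟩ := exists_killing_bad u N p (hbadW p hp)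
      have hP : (Q.comap φ.toRingHom).comap (algebraMap R A) = p.asIdeal := by
        rw [Ideal.comap_comap, show φ.toRingHom.comp (algebraMap R A) = algebraMap R B from φ.comp_algebraMap]
        rfl
      refine he' (Q.comap φ.toRingHom) (Ideal.comap_isPrime _ _) hP (Ideal.mem_comap.2 (hJQ ?_))
      have h1 := congrArg φ (heb' _ hk a)
      rw [map_mul, map_zero] at h1
      simpa [J] using h1

end Weights

end Groth.Agent.Lib.CentW
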